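import Mathlib
import Groth.Prelude.Def_EGA41

/-!
# p-bases: reduction of monomials, descent of algebra maps and derivations

Setting: `R → B` an algebra, `x : ι → B`, `c : ι → R` with `algebraMap R B (c i) = x i ^ p`.
`P = MvPolynomial ι R`, `π = aeval x`.  We define the reduction `red'` of a polynomial to its
coordinates on reduced monomials (`g = p • (g / p) + g % p`, `X^g ↦ c^(g/p) X^(g % p)`), show
`π ∘ emb ∘ red' = π`, and deduce that when the reduced monomials in `x` are `R`-linearly
independent, every additive map on `P` compatible with the reduction kills `ker π`.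
-/

set_option autoImplicit false

namespace Groth.Agent.Lib.Helper13.PBasis

open MvPolynomial

section Core

variable (p : ℕ) {R B ι : Type*} [CommRing R] [CommRing B] [Algebra R B]

/-- exponent mod `p` -/
noncomputable def modE (g : ι →₀ ℕ) : ι →₀ ℕ := g.mapRange (· % p) (Nat.zero_mod p)

/-- exponent div `p` -/
noncomputable def divE (g : ι →₀ ℕ) : ι →₀ ℕ := g.mapRange (· / p) (Nat.zero_div p)

@[simp] lemma modE_apply (g : ι →₀ ℕ) (i : ι) : modE p g i = g i % p := by
  simp [modE]

@[simp] lemma divE_apply (g : ι →₀ ℕ) (i : ι) : divE p g i = g i / p := by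
  simp [divE]

lemma modE_lt [hp : Fact p.Prime] (g : ι →₀ ℕ) (i : ι) : modE p g i < p := by
  rw [modE_apply]; exact Nat.mod_lt _ hp.out.pos

lemma div_add_mod (g : ι →₀ ℕ) : p • divE p g + modE p g = g := by
  ext i; simp [Nat.div_add_mod]

lemma modE_of_lt (e : ι →₀ ℕ) (he : ∀ i, e i < p) : modE p e = e := by
  ext i; simp [Nat.mod_eq_of_lt (he i)]

lemma divE_of_lt (e : ι →₀ ℕ) (he : ∀ i, e i < p) : divE p e = 0 := by
  ext i; simp [Nat.div_eq_of_lt (he i)]

/-- `c^q = ∏ c_i ^ q_i`. -/
noncomputable def cpow (c : ι → R) (q : ι →₀ ℕ) : R := q.prod fun i n => c i ^ n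

/-- reduced exponents -/
abbrev RedE (p : ℕ) (ι : Type*) := {e : ι →₀ ℕ // ∀ i, e i < p}

lemma algebraMap_cpow {E : Type*} [CommRing E] [Algebra R E] (c : ι → R) (z : ι → E)
    (hz : ∀ i, algebraMap R E (c i) = z i ^ p) (q : ι →₀ ℕ) :
    algebraMap R E (cpow c q) = (q.prod fun i n => z i ^ n) ^ p := by
  unfold cpow
  rw [map_finsuppProd]
  simp only [Finsupp.prod, ← Finset.prod_pow, map_pow, hz, ← pow_mul, mul_comm]

lemma aeval_monomial_red {E : Type*} [CommRing E] [Algebra R E] (c : ι → R) (z : ι → E)
    (hz : ∀ i, algebraMap R E (c i) = z i ^ p) (g : ι →₀ ℕ) (a : R) :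
    aeval z (monomial (modE p g) (a * cpow c (divE p g))) = aeval z (monomial g a) := by
  rw [aeval_monomial, aeval_monomial, map_mul, algebraMap_cpow p c z hz, mul_assoc]
  congr 1
  conv_rhs => rw [← div_add_mod p g]
  rw [Finsupp.prod_add_index' (by simp) (by intros; rw [pow_add])]
  congr 1
  rw [Finsupp.prod_of_support_subset (p • divE p g) (s := (divE p g).support)
    Finsupp.support_smul _ (by simp)]
  simp only [Finsupp.prod, ← Finset.prod_pow, Finsupp.smul_apply, smul_eq_mul, ← pow_mul, mul_comm]

variable [hp : Fact p.Prime]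

/-- reduction to coordinates on reduced monomials -/
noncomputable def red' (c : ι → R) : MvPolynomial ι R →ₗ[R] (RedE p ι →₀ R) :=
  (basisMonomials ι R).constr R fun g =>
    Finsupp.single (⟨modE p g, modE_lt p g⟩ : RedE p ι) (cpow c (divE p g))

lemma red'_monomial (c : ι → R) (g : ι →₀ ℕ) (a : R) :
    red' p c (monomial g a) =
      Finsupp.single (⟨modE p g, modE_lt p g⟩ : RedE p ι) (a * cpow c (divE p g)) := by
  have : monomial g a = a • basisMonomials ι R g := by
    rw [coe_basisMonomials, smul_monomial, smul_eq_mul, mul_one]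
  rw [this, map_smul, red', Module.Basis.constr_basis, Finsupp.smul_single, smul_eq_mul]

/-- embedding of reduced coordinates -/
noncomputable def emb (R : Type*) [CommRing R] (ι : Type*) :
    (RedE p ι →₀ R) →ₗ[R] MvPolynomial ι R :=
  Finsupp.linearCombination R (fun e : RedE p ι => monomial e.1 (1 : R))

omit hp in
lemma emb_single (e : RedE p ι) (a : R) : emb p R ι (Finsupp.single e a) = monomial e.1 a := by
  simp [emb, Finsupp.linearCombination_single, smul_monomial]

lemma aeval_emb (x : ι → B) (u : RedE p ι →₀ R) :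
    aeval x (emb p R ι u) =
      Finsupp.linearCombination R (fun e : RedE p ι => (e.1.prod fun i n => x i ^ n)) u := by
  induction u using Finsupp.induction_linear with
  | zero => simp
  | add u v hu hv => simp only [map_add, hu, hv]
  | single e a =>
    rw [emb_single, aeval_monomial, Finsupp.linearCombination_single, Algebra.smul_def]

lemma aeval_emb_red' (x : ι → B) (c : ι → R) (hc : ∀ i, algebraMap R B (c i) = x i ^ p)
    (f : MvPolynomial ι R) : aeval x (emb p R ι (red' p c f)) = aeval x f := by
  induction f using MvPolynomial.induction_on' with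
  | monomial g a => rw [red'_monomial, emb_single]; exact aeval_monomial_red p c x hc g a
  | add f g hf hg => simp only [map_add, hf, hg]

lemma aeval_mem_span (x : ι → B) (c : ι → R) (hc : ∀ i, algebraMap R B (c i) = x i ^ p)
    (f : MvPolynomial ι R) :
    aeval x f ∈ Submodule.span R (Set.range fun e : RedE p ι => (e.1.prod fun i n => x i ^ n)) := by
  rw [← aeval_emb_red' p x c hc f, aeval_emb]
  exact Finsupp.mem_span_range_iff_exists_finsupp.mpr ⟨_, rfl⟩

lemma aeval_surjective (x : ι → B)
    (hgen : Submodule.span R (Set.range fun e : RedE p ι => (e.1.prod fun i n => x i ^ n)) = ⊤) :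
    Function.Surjective (aeval x : MvPolynomial ι R →ₐ[R] B) := by
  intro b
  have hb : b ∈ Submodule.span R (Set.range fun e : RedE p ι => (e.1.prod fun i n => x i ^ n)) := by
    rw [hgen]; trivial
  obtain ⟨u, hu⟩ := Finsupp.mem_span_range_iff_exists_finsupp.mp hb
  refine ⟨emb p R ι u, ?_⟩
  rw [aeval_emb]
  exact hu

/-- **Descent along `aeval x`**: an additive map on `R[X_i]` compatible with the reduction of
monomials kills the kernel of `aeval x`, when the reduced monomials in `x` are independent. -/
theorem eq_zero_of_aeval_eq_zero (x : ι → B) (c : ι → R)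
    (hc : ∀ i, algebraMap R B (c i) = x i ^ p)
    (hind : LinearIndependent R (fun e : RedE p ι => (e.1.prod fun i n => x i ^ n)))
    {M : Type*} [AddCommGroup M] (T : MvPolynomial ι R →+ M)
    (hT : ∀ g a, T (monomial (modE p g) (a * cpow c (divE p g))) = T (monomial g a))
    (f : MvPolynomial ι R) (hf : aeval x f = 0) : T f = 0 := by
  have h1 : ∀ f : MvPolynomial ι R, T (emb p R ι (red' p c f)) = T f := by
    intro f
    induction f using MvPolynomial.induction_on' with
    | monomial g a => rw [red'_monomial, emb_single]; exact hT g a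
    | add f g hf hg => simp only [map_add, hf, hg]
  have h2 : red' p c f = 0 := by
    apply linearIndependent_iff.mp hind
    rw [← aeval_emb, aeval_emb_red' p x c hc, hf]
  rw [← h1 f, h2, map_zero, map_zero]

/-- **Algebra maps out of an algebra with a `p`-basis.** -/
theorem exists_algHom (x : ι → B) (c : ι → R)
    (hc : ∀ i, algebraMap R B (c i) = x i ^ p)
    (hind : LinearIndependent R (fun e : RedE p ι => (e.1.prod fun i n => x i ^ n)))
    (hgen : Submodule.span R (Set.range fun e : RedE p ι => (e.1.prod fun i n => x i ^ n)) = ⊤)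
    {E : Type*} [CommRing E] [Algebra R E] (z : ι → E)
    (hz : ∀ i, algebraMap R E (c i) = z i ^ p) :
    ∃ v : B →ₐ[R] E, ∀ i, v (x i) = z i := by
  have hker : RingHom.ker (aeval x : MvPolynomial ι R →ₐ[R] B).toRingHom ≤
      RingHom.ker (aeval z : MvPolynomial ι R →ₐ[R] E).toRingHom := by
    intro f hf
    rw [RingHom.mem_ker] at hf ⊢
    exact eq_zero_of_aeval_eq_zero p x c hc hind
      ((aeval z : MvPolynomial ι R →ₐ[R] E) : MvPolynomial ι R →+ E)
      (fun g a => aeval_monomial_red p c z hz g a) f hf
  refine ⟨AlgHom.liftOfSurjective _ (aeval_surjective p x hgen) _ hker, fun i => ?_⟩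
  have := AlgHom.liftOfSurjective_apply _ (aeval_surjective p x hgen) _ hker (X i)
  rwa [aeval_X, aeval_X] at this

theorem algHom_ext_of_gen (x : ι → B)
    (hgen : Submodule.span R (Set.range fun e : RedE p ι => (e.1.prod fun i n => x i ^ n)) = ⊤)
    {E : Type*} [Semiring E] [Algebra R E] (v w : B →ₐ[R] E) (h : ∀ i, v (x i) = w (x i)) :
    v = w := by
  have : v.comp (aeval x) = w.comp (aeval x) := by
    apply MvPolynomial.algHom_ext
    intro i
    simp [h i]
  ext b
  obtain ⟨f, rfl⟩ := aeval_surjective p x hgen b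
  exact AlgHom.congr_fun this f

end Core

section Descend

variable {R P B L : Type*} [CommRing R] [CommRing P] [CommRing B] [Algebra R P] [Algebra R B]
  [AddCommGroup L] [Module R L] [Module B L] [IsScalarTower R B L]

omit [IsScalarTower R B L] in
/-- Descent of a derivation along a surjective algebra map. -/
theorem exists_derivation_descend (π : P →ₐ[R] B) (hπ : Function.Surjective π)
    (T : P →ₗ[R] L) (hT1 : T 1 = 0)
    (hT : ∀ f g, T (f * g) = π f • T g + π g • T f) (hker : ∀ f, π f = 0 → T f = 0) :
    ∃ D : Derivation R B L, ∀ f, D (π f) = T f := by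
  have hwd : ∀ f g, π f = π g → T f = T g := by
    intro f g h
    have := hker (f - g) (by rw [map_sub, h, sub_self])
    rwa [map_sub, sub_eq_zero] at this
  have hs : ∀ b, π (Function.surjInv hπ b) = b := Function.surjInv_eq hπ
  let D₀ : B →ₗ[R] L :=
    { toFun := fun b => T (Function.surjInv hπ b)
      map_add' := fun a b => by
        rw [← map_add]; apply hwd; rw [map_add, hs, hs, hs]
      map_smul' := fun r b => by
        rw [RingHom.id_apply, ← map_smul]; apply hwd; rw [map_smul, hs, hs] }
  have hD₀ : ∀ f, D₀ (π f) = T f := fun f => hwd _ _ (hs _)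
  refine ⟨{ toLinearMap := D₀, map_one_eq_zero' := ?_, leibniz' := ?_ }, hD₀⟩
  · have := hD₀ 1
    rwa [map_one, hT1] at this
  · intro a b
    obtain ⟨f, rfl⟩ := hπ a
    obtain ⟨g, rfl⟩ := hπ b
    rw [← map_mul, hD₀, hD₀, hD₀, hT]

end Descend

section Der

variable (p : ℕ) [hp : Fact p.Prime] {R B ι : Type*} [CommRing R] [CommRing B] [Algebra R B]

/-- **Derivations out of an algebra with a `p`-basis**: prescribed values on the `p`-basis. -/
theorem exists_derivation (hp0 : (p : B) = 0) (x : ι → B) (c : ι → R)
    (hc : ∀ i, algebraMap R B (c i) = x i ^ p)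
    (hind : LinearIndependent R (fun e : RedE p ι => (e.1.prod fun i n => x i ^ n)))
    (hgen : Submodule.span R (Set.range fun e : RedE p ι => (e.1.prod fun i n => x i ^ n)) = ⊤)
    {L : Type*} [AddCommGroup L] [Module R L] [Module B L] [IsScalarTower R B L] (y : ι → L) :
    ∃ D : Derivation R B L, ∀ i, D (x i) = y i := by
  let π : MvPolynomial ι R →ₐ[R] B := aeval x
  let _ : Module (MvPolynomial ι R) L := Module.compHom L π.toRingHom
  have hsm : ∀ (f : MvPolynomial ι R) (l : L), f • l = π f • l := fun _ _ => rfl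
  have : IsScalarTower R (MvPolynomial ι R) L := ⟨fun r f l => by
    rw [hsm, hsm, map_smul, smul_assoc]⟩
  let Dt : Derivation R (MvPolynomial ι R) L := mkDerivation R y
  have hpL : ∀ l : L, (p : ℕ) • l = 0 := fun l => by
    rw [← Nat.cast_smul_eq_nsmul B, hp0, zero_smul]
  have hker : ∀ f, π f = 0 → Dt f = 0 := by
    intro f hf
    refine eq_zero_of_aeval_eq_zero p x c hc hind (Dt : MvPolynomial ι R →+ L) ?_ f hf
    intro g a
    show Dt _ = Dt _
    have h1 : monomial g a = (monomial (divE p g) (1 : R)) ^ p * monomial (modE p g) a := by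
      rw [monomial_pow, monomial_mul, one_pow, one_mul, div_add_mod]
    have h2 : monomial (modE p g) (a * cpow c (divE p g)) =
        cpow c (divE p g) • monomial (modE p g) a := by
      rw [smul_monomial, smul_eq_mul, mul_comm]
    rw [h1, h2, Derivation.leibniz, Derivation.leibniz_pow, hpL, smul_zero, add_zero,
      Derivation.map_smul, hsm, map_pow, ← algebraMap_smul B (cpow c (divE p g)),
      algebraMap_cpow p c x hc]
    congr 2
    show _ = aeval x _
    rw [aeval_monomial, map_one, one_mul]
  obtain ⟨D, hD⟩ := exists_derivation_descend π (aeval_surjective p x hgen)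
    (Dt : MvPolynomial ι R →ₗ[R] L) (Dt.map_one_eq_zero)
    (fun f g => by
      show Dt (f * g) = _
      rw [Derivation.leibniz]; rfl) hker
  refine ⟨D, fun i => ?_⟩
  have := hD (X i)
  rw [show π (X i) = x i from aeval_X x i] at this
  rw [this]
  exact mkDerivation_X R y i

end Der


section EGA

universe u

variable (p : ℕ) [hp : Fact p.Prime] {A B : Type u} [CommRing A] [CommRing B] [Algebra A B]
  {ι : Type u} (x : ι → B)

/-- `c_i = x_i ^ p` as an element of `A[B^p]`. -/
def cC (i : ι) : EGA41.pPowerSubalgebra p A B :=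
  ⟨x i ^ p, Algebra.subset_adjoin ⟨x i, rfl⟩⟩

omit hp in
lemma algebraMap_cC (i : ι) :
    algebraMap (EGA41.pPowerSubalgebra p A B) B (cC (A := A) p x i) = x i ^ p := rfl

omit hp in
/-- Every `A`-derivation of `B` (char `p`) vanishes on `A[B^p]`. -/
theorem derivation_eq_zero_of_mem [CharP B p] {L : Type*} [AddCommGroup L] [Module B L]
    [Module A L] [IsScalarTower A B L] (D : Derivation A B L) (b : B)
    (hb : b ∈ EGA41.pPowerSubalgebra p A B) : D b = 0 := by
  unfold EGA41.pPowerSubalgebra at hb
  induction hb using Algebra.adjoin_induction with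
  | mem x hx =>
    obtain ⟨b, rfl⟩ := hx
    rw [Derivation.leibniz_pow]
    have : ((p : ℕ) : B) = 0 := CharP.cast_eq_zero B p
    rw [← Nat.cast_smul_eq_nsmul B, this, zero_smul]
  | algebraMap r => exact Derivation.map_algebraMap _ r
  | add x y _ _ hx hy => rw [map_add, hx, hy, add_zero]
  | mul x y _ _ hx hy => rw [Derivation.leibniz, hx, hy, smul_zero, smul_zero, add_zero]

/-- (a) ⇔ (b): the `x_i` generate `B` as an `A[B^p]`-algebra iff they are `p`-generators. -/
theorem adjoin_eq_top_iff_pGenerating :
    Algebra.adjoin (EGA41.pPowerSubalgebra p A B) (Set.range x) = ⊤ ↔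
      EGA41.IsPGenerating p A x := by
  rw [Algebra.adjoin_range_eq_range_aeval]
  constructor
  · intro h
    refine eq_top_iff.mpr fun b _ => ?_
    have hb : b ∈ (aeval x : MvPolynomial ι (EGA41.pPowerSubalgebra p A B) →ₐ[_] B).range := by
      rw [h]; trivial
    obtain ⟨f, rfl⟩ := hb
    exact aeval_mem_span p x (cC p x) (algebraMap_cC p x) f
  · intro h
    rw [AlgHom.range_eq_top]
    exact aeval_surjective p x h

/-- (b) ⇒ (c): `p`-generators give generators `d x_i` of `Ω_{B/A}`; version for any derivation. -/
theorem derivation_mem_span_of_pGenerating [CharP B p] (hx : EGA41.IsPGenerating p A x)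
    {L : Type*} [AddCommGroup L] [Module B L] [Module A L] [IsScalarTower A B L]
    (D : Derivation A B L) (b : B) :
    D b ∈ Submodule.span B (Set.range fun i => D (x i)) := by
  have hb : b ∈ Algebra.adjoin (EGA41.pPowerSubalgebra p A B) (Set.range x) := by
    rw [(adjoin_eq_top_iff_pGenerating p x).mpr hx]; trivial
  induction hb using Algebra.adjoin_induction with
  | mem y hy =>
    obtain ⟨i, rfl⟩ := hy
    exact Submodule.subset_span ⟨i, rfl⟩
  | algebraMap r =>
    rw [show algebraMap (EGA41.pPowerSubalgebra p A B) B r = (r : B) from rfl,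
      derivation_eq_zero_of_mem p D _ r.2]
    exact zero_mem _
  | add y z _ _ hy hz => rw [map_add]; exact add_mem hy hz
  | mul y z _ _ hy hz =>
    rw [Derivation.leibniz]
    exact add_mem (Submodule.smul_mem _ _ hz) (Submodule.smul_mem _ _ hy)

theorem span_D_eq_top_of_pGenerating [CharP B p] (hx : EGA41.IsPGenerating p A x) :
    Submodule.span B (Set.range fun i => KaehlerDifferential.D A B (x i)) = ⊤ := by
  rw [eq_top_iff, ← KaehlerDifferential.span_range_derivation, Submodule.span_le]
  rintro _ ⟨b, rfl⟩
  exact derivation_mem_span_of_pGenerating p x hx (KaehlerDifferential.D A B) b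

/-- **Key**: with a `p`-basis, there is an `A`-derivation (even `A[B^p]`-linear) with prescribed
values on the `p`-basis. -/
theorem exists_derivation_of_pBasis [CharP B p] (hx : EGA41.IsPBasis p A x)
    {L : Type*} [AddCommGroup L] [Module B L] [Module A L] [IsScalarTower A B L] (y : ι → L) :
    ∃ D : Derivation A B L, ∀ i, D (x i) = y i := by
  obtain ⟨D, hD⟩ := exists_derivation (R := EGA41.pPowerSubalgebra p A B) p
    (CharP.cast_eq_zero B p) x (cC p x) (algebraMap_cC p x) hx.1 hx.2 y
  have : IsScalarTower A (EGA41.pPowerSubalgebra p A B) L := ⟨fun a c l => by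
    show ((a • c : EGA41.pPowerSubalgebra p A B) : B) • l = a • ((c : B) • l)
    rw [Subalgebra.coe_smul, smul_assoc]⟩
  exact ⟨D.restrictScalars A, hD⟩

end EGA

section Inj

universe u

variable (p : ℕ) [hp : Fact p.Prime] {A B : Type u} [CommRing A] [CommRing B] [Algebra A B]
  {ι : Type u} (x : ι → B)

omit hp in
lemma algebraMap_surjective_pPowerSubalgebra
    (hpow : ∀ b : B, b ^ p ∈ Set.range (algebraMap A B)) :
    Function.Surjective (algebraMap A (EGA41.pPowerSubalgebra p A B)) := by
  rintro ⟨c, hc⟩
  suffices h : c ∈ (Algebra.ofId A B).range by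
    obtain ⟨a, ha⟩ := h
    exact ⟨a, Subtype.ext ha⟩
  unfold EGA41.pPowerSubalgebra at hc
  refine Algebra.adjoin_le ?_ hc
  rintro _ ⟨b, rfl⟩
  obtain ⟨a, ha⟩ := hpow b
  exact ⟨a, ha⟩

omit hp in
theorem linearIndependent_of_injective (hinj : Function.Injective (algebraMap A B))
    (hx : EGA41.IsPIndependent p A x) :
    LinearIndependent A (fun e : RedE p ι => (e.1.prod fun i n => x i ^ n)) := by
  refine LinearIndependent.restrict_scalars (K := EGA41.pPowerSubalgebra p A B) ?_ hx
  intro a b hab
  apply hinj
  have := congrArg (Subtype.val) hab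
  simpa [Algebra.smul_def] using this

omit hp in
theorem span_eq_top_of_pow_mem_range (hpow : ∀ b : B, b ^ p ∈ Set.range (algebraMap A B))
    (hx : EGA41.IsPGenerating p A x) :
    Submodule.span A (Set.range fun e : RedE p ι => (e.1.prod fun i n => x i ^ n)) = ⊤ := by
  rw [← Submodule.restrictScalars_span A (EGA41.pPowerSubalgebra p A B)
    (algebraMap_surjective_pPowerSubalgebra p hpow)]
  unfold EGA41.IsPGenerating at hx
  unfold EGA41.pMonomial at hx
  rw [hx]; rfl

end Inj

end Groth.Agent.Lib.Helper13.PBasis
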