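import Mathlib
import Groth.Agent.Lib.Helper13.PBasis

/-!
# p-independence over fields
-/

set_option autoImplicit false

namespace Groth.Agent.Lib.Helper13.PBasis

section FieldStep

open Polynomial

variable (p : ℕ) [hp : Fact p.Prime] {R K : Type*} [CommRing R] [Field K] [Algebra R K]

/-- a subalgebra of a field containing all `p`-th powers is a field -/
theorem isField_of_pow_mem (S : Subalgebra R K) (h : ∀ y : K, y ^ p ∈ S) : IsField S := by
  refine ⟨⟨0, 1, zero_ne_one⟩, mul_comm, fun {a} ha => ?_⟩
  have ha' : (a : K) ≠ 0 := fun h0 => ha (Subtype.ext h0)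
  refine ⟨⟨(a : K) ^ (p - 1) * ((a : K)⁻¹) ^ p, mul_mem (pow_mem a.2 _) (h _)⟩, Subtype.ext ?_⟩
  show (a : K) * ((a : K) ^ (p - 1) * ((a : K)⁻¹) ^ p) = 1
  rw [← mul_assoc, ← pow_succ', Nat.sub_add_cancel hp.out.one_le, ← mul_pow,
    mul_inv_cancel₀ ha', one_pow]

variable [CharP K p]

theorem linearIndependent_pow_of_not_mem (S : Subalgebra R K) (h : ∀ y : K, y ^ p ∈ S) (s : K)
    (hs : s ∉ S) : LinearIndependent S (fun j : Fin p => s ^ (j : ℕ)) := by
  let _ : Field S := (isField_of_pow_mem p S h).toField
  let a : S := ⟨s ^ p, h s⟩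
  have hirr : Irreducible (X ^ p - C a : S[X]) := by
    refine X_pow_sub_C_irreducible_of_prime hp.out (fun b hb => hs ?_)
    have h1 : ((b : K)) ^ p = s ^ p := congrArg Subtype.val hb
    have h2 : (b : K) = s := frobenius_inj K p h1
    rw [← h2]; exact b.2
  have hroot : aeval s (X ^ p - C a : S[X]) = 0 := by
    rw [map_sub, map_pow, aeval_X, aeval_C]
    show s ^ p - s ^ p = 0
    exact sub_self _
  have hint : IsIntegral S s := ⟨X ^ p - C a, monic_X_pow_sub_C a hp.out.ne_zero, hroot⟩
  have hassoc : Associated (minpoly S s) (X ^ p - C a) :=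
    (minpoly.irreducible hint).associated_of_dvd hirr (minpoly.dvd S s hroot)
  have hdeg : (minpoly S s).natDegree = p := by
    rw [natDegree_eq_of_degree_eq (degree_eq_degree_of_associated hassoc), natDegree_X_pow_sub_C]
  have hli := linearIndependent_pow (K := S) s
  exact hli.comp (Fin.cast hdeg.symm) (Fin.cast_injective _)

end FieldStep


section Poly

open MvPolynomial

variable (p : ℕ) [hp : Fact p.Prime] {R B ι : Type*} [CommRing R] [CommRing B] [Algebra R B]

/-- reduced polynomials: all exponents `< p` -/
def IsRedPoly (f : MvPolynomial ι R) : Prop := ∀ e ∈ f.support, ∀ i, e i < p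

omit hp in
lemma coeff_emb' [DecidablePred fun g : ι →₀ ℕ => ∀ i, g i < p]
    (u : RedE p ι →₀ R) (g : ι →₀ ℕ) :
    MvPolynomial.coeff g (emb p R ι u) = if h : ∀ i, g i < p then u ⟨g, h⟩ else 0 := by
  classical
  induction u using Finsupp.induction_linear with
  | zero => simp
  | add u v hu hv =>
    rw [map_add, coeff_add, hu, hv]
    split_ifs <;> simp
  | single e a =>
    rw [emb_single, coeff_monomial]
    split_ifs with h1 h2 h2
    · subst h1; simp
    · exact absurd (h1 ▸ e.2) h2
    · rw [Finsupp.single_apply, if_neg]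
      intro h3; exact h1 (congrArg Subtype.val h3)
    · rfl

omit hp in
lemma coeff_emb (u : RedE p ι →₀ R) (e : RedE p ι) :
    MvPolynomial.coeff e.1 (emb p R ι u) = u e := by
  classical
  rw [coeff_emb', dif_pos e.2]

omit hp in
lemma isRedPoly_emb (u : RedE p ι →₀ R) : IsRedPoly p (emb p R ι u) := by
  classical
  intro e he
  rw [mem_support_iff, coeff_emb'] at he
  by_contra h
  exact he (dif_neg h)

omit hp in
lemma emb_injective : Function.Injective (emb p R ι) := by
  intro u v h
  ext e
  rw [← coeff_emb, ← coeff_emb, h]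

lemma emb_red'_of_isRedPoly (c : ι → R) (f : MvPolynomial ι R) (hf : IsRedPoly p f) :
    emb p R ι (red' p c f) = f := by
  conv_rhs => rw [← support_sum_monomial_coeff f]
  conv_lhs => rw [← support_sum_monomial_coeff f]
  rw [map_sum, map_sum]
  refine Finset.sum_congr rfl fun g hg => ?_
  rw [red'_monomial, emb_single]
  have h1 := modE_of_lt p g (hf g hg)
  have h2 := divE_of_lt p g (hf g hg)
  simp only [h1, h2, cpow, Finsupp.prod_zero_index, mul_one]

/-- `p`-independence in terms of reduced polynomials -/
theorem linearIndependent_iff_poly (x : ι → B) :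
    LinearIndependent R (fun e : RedE p ι => (e.1.prod fun i n => x i ^ n)) ↔
      ∀ f : MvPolynomial ι R, IsRedPoly p f → aeval x f = 0 → f = 0 := by
  constructor
  · intro hind f hf h0
    have h1 := emb_red'_of_isRedPoly p (fun _ => (0 : R)) f hf
    have h2 : red' p (fun _ => (0 : R)) f = 0 := by
      apply linearIndependent_iff.mp hind
      rw [← aeval_emb, h1, h0]
    rw [← h1, h2, map_zero]
  · intro H
    rw [linearIndependent_iff]
    intro u hu
    have := H (emb p R ι u) (isRedPoly_emb p u) (by rw [aeval_emb]; exact hu)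
    exact emb_injective p (this.trans (map_zero _).symm)

/-- reindexing along an injective map -/
theorem linearIndependent_comp_of_injective {ι' : Type*} (x : ι → B) (j : ι' → ι)
    (hj : Function.Injective j)
    (h : LinearIndependent R (fun e : RedE p ι => (e.1.prod fun i n => x i ^ n))) :
    LinearIndependent R (fun e : RedE p ι' => (e.1.prod fun i n => (x ∘ j) i ^ n)) := by
  classical
  rw [linearIndependent_iff_poly] at h ⊢
  intro f hf h0
  have hred : IsRedPoly p (rename j f) := by
    intro e he i
    rw [support_rename_of_injective hj, Finset.mem_image] at he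
    obtain ⟨e', he', rfl⟩ := he
    by_cases hi : i ∈ Set.range j
    · obtain ⟨i', rfl⟩ := hi
      rw [Finsupp.mapDomain_apply hj]
      exact hf e' he' i'
    · rw [Finsupp.mapDomain_of_notMem_range _ _ hi]
      exact hp.out.pos
  have := h (rename j f) hred (by rw [aeval_rename]; exact h0)
  exact rename_injective j hj (this.trans (map_zero _).symm)

/-- `p`-independence is of finite character -/
theorem linearIndependent_of_finset (x : ι → B)
    (h : ∀ s : Finset ι, LinearIndependent R
      (fun e : RedE p {i // i ∈ s} => (e.1.prod fun i n => (x ∘ Subtype.val) i ^ n))) :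
    LinearIndependent R (fun e : RedE p ι => (e.1.prod fun i n => x i ^ n)) := by
  classical
  rw [linearIndependent_iff_poly]
  intro f hf h0
  obtain ⟨s, q, rfl⟩ := exists_finset_rename f
  have hq : IsRedPoly p q := by
    intro e he i
    have : Finsupp.mapDomain Subtype.val e ∈ (rename (Subtype.val : {i // i ∈ s} → ι) q).support := by
      rw [support_rename_of_injective Subtype.val_injective, Finset.mem_image]
      exact ⟨e, he, rfl⟩
    have := hf _ this i.1
    rwa [Finsupp.mapDomain_apply Subtype.val_injective] at this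
  have := (linearIndependent_iff_poly p _).mp (h s) q hq (by rw [← aeval_rename]; exact h0)
  rw [this, map_zero]

end Poly

section OneStep

universe u

variable (p : ℕ) [hp : Fact p.Prime] {k K : Type u} [Field k] [Field K] [Algebra k K] [CharP K p]
  {ι : Type u}

/-- **One-step lemma**: adjoining an element outside `k(K^p)(x)` keeps `p`-independence. -/
theorem pIndependent_sumElim_of_not_mem (x : ι → K) (hx : EGA41.IsPIndependent p k x) (s : K)
    (hs : s ∉ Algebra.adjoin (EGA41.pPowerSubalgebra p k K) (Set.range x)) :
    EGA41.IsPIndependent p k (Sum.elim x (fun _ : PUnit.{u+1} => s)) := by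
  classical
  set C := EGA41.pPowerSubalgebra p k K with hC
  set F : Subalgebra C K := Algebra.adjoin C (Set.range x) with hF
  have hCp : ∀ y : K, y ^ p ∈ C := fun y => Algebra.subset_adjoin (Set.mem_range_self y)
  have hFp : ∀ y : K, y ^ p ∈ F := fun y =>
    Subalgebra.algebraMap_mem F (⟨y ^ p, hCp y⟩ : C)
  have hxF : ∀ i, x i ∈ F := fun i => Algebra.subset_adjoin (Set.mem_range_self i)
  let b : RedE p ι → F := fun e => ⟨e.1.prod fun i n => x i ^ n,
    Subalgebra.prod_mem _ fun i _ => Subalgebra.pow_mem _ (hxF i) _⟩
  have hb : LinearIndependent C b := by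
    apply LinearIndependent.of_comp (F.val.toLinearMap)
    exact hx
  have hc := linearIndependent_pow_of_not_mem p F hFp s hs
  have hbc := linearIndependent_smul hb hc
  let φ : RedE p (ι ⊕ PUnit.{u+1}) → RedE p ι × Fin p := fun e =>
    (⟨e.1.comapDomain Sum.inl Sum.inl_injective.injOn, fun i => by
        rw [Finsupp.comapDomain_apply]; exact e.2 _⟩,
     ⟨e.1 (Sum.inr PUnit.unit), e.2 _⟩)
  have hφ : Function.Injective φ := by
    intro e e' h
    have h1 := congrArg (fun q => (q.1 : RedE p ι).1) h
    have h2 := congrArg (fun q => ((q.2 : Fin p) : ℕ)) h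
    apply Subtype.ext
    ext (i | i)
    · have := DFunLike.congr_fun h1 i
      simpa [φ, Finsupp.comapDomain_apply] using this
    · cases i
      simpa [φ] using h2
  have := hbc.comp φ hφ
  unfold EGA41.IsPIndependent
  convert this using 1
  funext e
  simp only [Function.comp, φ, b]
  unfold EGA41.pMonomial
  conv_lhs => rw [← Finsupp.comapDomain_sumElim_comapDomain e.1]
  rw [Finsupp.prod_sumElim, Subalgebra.smul_def]
  congr 1
  rw [Finsupp.prod_of_support_subset _ (s := {PUnit.unit}) (Finset.subset_univ _) _ (by simp)]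
  simp [Finsupp.comapDomain_apply]

end OneStep

end Groth.Agent.Lib.Helper13.PBasis
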