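import Mathlib
import Groth.Agent.Lib.Helper13.PBasisField

/-!
# p-independence over fields: set-level lemmas, maximal p-independent subsets
-/

set_option autoImplicit false

namespace Groth.Agent.Lib.Helper13.PBasis

universe u

section General

variable (p : ℕ) [hp : Fact p.Prime] {A B : Type u} [CommRing A] [CommRing B] [Algebra A B]
  {ι : Type u} (x : ι → B)

omit hp in
/-- if `b ∈ A[B^p][x]` then `D b ∈ span (D x_i)`, for any `A`-derivation `D`. -/
theorem derivation_mem_span_of_mem_adjoin [CharP B p]
    {L : Type*} [AddCommGroup L] [Module B L] [Module A L] [IsScalarTower A B L]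
    (D : Derivation A B L) (b : B)
    (hb : b ∈ Algebra.adjoin (EGA41.pPowerSubalgebra p A B) (Set.range x)) :
    D b ∈ Submodule.span B (Set.range fun i => D (x i)) := by
  induction hb using Algebra.adjoin_induction with
  | mem y hy =>
    obtain ⟨i, rfl⟩ := hy
    exact Submodule.subset_span ⟨i, rfl⟩
  | algebraMap r =>
    rw [show algebraMap (EGA41.pPowerSubalgebra p A B) B r = (r : B) from rfl,
      derivation_eq_zero_of_mem p D _ r.2]
    exact zero_mem _
  | add y z _ _ hy hz => rw [map_add]; exact add_mem hy hz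
  | mul y z _ _ hy hz =>
    rw [Derivation.leibniz]
    exact add_mem (Submodule.smul_mem _ _ hz) (Submodule.smul_mem _ _ hy)

omit hp in
/-- a derivation killing the `x_i` kills `A[B^p][x]` -/
theorem derivation_eq_zero_of_mem_adjoin [CharP B p]
    {L : Type*} [AddCommGroup L] [Module B L] [Module A L] [IsScalarTower A B L]
    (D : Derivation A B L) (hD : ∀ i, D (x i) = 0) (b : B)
    (hb : b ∈ Algebra.adjoin (EGA41.pPowerSubalgebra p A B) (Set.range x)) : D b = 0 := by
  have := derivation_mem_span_of_mem_adjoin p x D b hb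
  have h0 : Submodule.span B (Set.range fun i => D (x i)) = ⊥ := by
    rw [Submodule.span_eq_bot]
    rintro _ ⟨i, rfl⟩
    exact hD i
  rwa [h0, Submodule.mem_bot] at this

end General

section Sets

variable (p : ℕ) [hp : Fact p.Prime] {k K : Type u} [Field k] [Field K] [Algebra k K]

theorem pIndependent_mono
    {T₀ T : Set K} (h : T₀ ⊆ T) (hT : EGA41.IsPIndependent p k (Subtype.val : T → K)) :
    EGA41.IsPIndependent p k (Subtype.val : T₀ → K) :=
  linearIndependent_comp_of_injective p (Subtype.val : T → K) (Set.inclusion h)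
    (Set.inclusion_injective h) hT

theorem pIndependent_of_finite_subsets {T : Set K}
    (h : ∀ y ⊆ T, y.Finite → EGA41.IsPIndependent p k (Subtype.val : y → K)) :
    EGA41.IsPIndependent p k (Subtype.val : T → K) := by
  classical
  apply linearIndependent_of_finset p (Subtype.val : T → K)
  intro s
  let y : Set K := Subtype.val '' (s : Set T)
  have hy : y ⊆ T := by rintro _ ⟨t, -, rfl⟩; exact t.2
  have hyf : y.Finite := (Finset.finite_toSet s).image _
  let j : {i // i ∈ s} → y := fun i => ⟨i.1.1, ⟨i.1, i.2, rfl⟩⟩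
  have hj : Function.Injective j := by
    intro a b hab
    apply Subtype.ext; apply Subtype.ext
    exact congrArg (fun z : y => z.1) hab
  exact linearIndependent_comp_of_injective p (Subtype.val : y → K) j hj (h y hy hyf)

variable [CharP K p]

theorem pIndependent_insert
    {T : Set K} (hT : EGA41.IsPIndependent p k (Subtype.val : T → K)) (s : K)
    (hs : s ∉ Algebra.adjoin (EGA41.pPowerSubalgebra p k K) (Set.range (Subtype.val : T → K))) :
    EGA41.IsPIndependent p k (Subtype.val : ↥(insert s T) → K) := by
  classical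
  have h1 := pIndependent_sumElim_of_not_mem p (Subtype.val : T → K) hT s hs
  let j : ↥(insert s T) → T ⊕ PUnit.{u+1} := fun t =>
    if h : t.1 ∈ T then Sum.inl ⟨t.1, h⟩ else Sum.inr PUnit.unit
  have hjv : ∀ t, Sum.elim (Subtype.val : T → K) (fun _ : PUnit.{u+1} => s) (j t) = t.1 := by
    intro t
    by_cases h : t.1 ∈ T
    · simp [j, h]
    · have : t.1 = s := (Set.mem_insert_iff.mp t.2).resolve_right h
      show Sum.elim _ _ (dite _ _ _) = _
      rw [dif_neg h]
      exact this.symm
  have hj : Function.Injective j := by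
    intro a b hab
    apply Subtype.ext
    rw [← hjv a, ← hjv b, hab]
  have h2 := linearIndependent_comp_of_injective p _ j hj h1
  have : (Sum.elim (Subtype.val : T → K) (fun _ : PUnit.{u+1} => s)) ∘ j = Subtype.val :=
    funext hjv
  rw [this] at h2
  exact h2

/-- maximal `p`-independent subsets: between a `p`-independent `L` and any `S ⊇ L` there is a
`p`-independent `B` with `S ⊆ k(K^p)[B]`. -/
theorem exists_pIndependent_adjoin (S L : Set K) (hLS : L ⊆ S)
    (hL : EGA41.IsPIndependent p k (Subtype.val : L → K)) :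
    ∃ B : Set K, L ⊆ B ∧ B ⊆ S ∧ EGA41.IsPIndependent p k (Subtype.val : B → K) ∧
      S ⊆ Algebra.adjoin (EGA41.pPowerSubalgebra p k K) (Set.range (Subtype.val : B → K)) := by
  classical
  let 𝒮 : Set (Set K) := {B | B ⊆ S ∧ EGA41.IsPIndependent p k (Subtype.val : B → K)}
  have hfc : Order.IsOfFiniteCharacter 𝒮 := by
    intro B
    constructor
    · rintro ⟨h1, h2⟩ y hy _
      exact ⟨hy.trans h1, pIndependent_mono p hy h2⟩
    · intro h
      refine ⟨fun b hb => ?_, pIndependent_of_finite_subsets p fun y hy hyf => (h y hy hyf).2⟩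
      exact (h {b} (Set.singleton_subset_iff.mpr hb) (Set.finite_singleton b)).1 rfl
  obtain ⟨B, hLB, hBmax⟩ := hfc.exists_maximal (x := L) ⟨hLS, hL⟩
  refine ⟨B, hLB, hBmax.prop.1, hBmax.prop.2, ?_⟩
  intro s hs
  by_contra hns
  have hins : insert s B ∈ 𝒮 :=
    ⟨Set.insert_subset hs hBmax.prop.1, pIndependent_insert p hBmax.prop.2 s hns⟩
  have hle := hBmax.le_of_ge hins (Set.subset_insert s B)
  exact hns (Algebra.subset_adjoin ⟨⟨s, hle (Set.mem_insert s B)⟩, rfl⟩)

end Sets

end Groth.Agent.Lib.Helper13.PBasis
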