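import Mathlib
import Groth.Agent.Lib.Helper13.PBasisField2
import Groth.Agent.Lib.Helper25.SepSmooth

/-!
# Separability and p-independence (MacLane), differentials of field extensions
-/

set_option autoImplicit false

namespace Groth.Agent.Lib.Helper13.SepDiff

open Groth.Agent.Lib.Helper13.PBasis

section Frob

variable {E F : Type*} [Field E] [Field F] [Algebra E F]

/-- condition (H): `p`-th powers of `E`-independent finite sets of `F` are `E`-independent
(MacLane: `E` and `F^p` linearly disjoint over `E^p`). -/
def HCond (p : ℕ) (E F : Type*) [Field E] [Field F] [Algebra E F] : Prop :=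
  ∀ s : Finset F, LinearIndepOn E id (s : Set F) → LinearIndepOn E (· ^ p) (s : Set F)

theorem hCond_of_isGeometricallyReduced [Algebra.IsGeometricallyReduced E F]
    (p : ℕ) [hp : Fact p.Prime] [CharP E p] : HCond p E F :=
  fun s hs => Groth.Agent.Lib.Helper25.linearIndepOn_pow_of_isGeometricallyReduced E F p s hs

/-- family form of (H). -/
theorem HCond.linearIndependent_pow {p : ℕ} (h : HCond p E F) {Λ : Type*} (g : Λ → F)
    (hg : LinearIndependent E g) : LinearIndependent E (fun l => g l ^ p) := by
  classical
  rw [linearIndependent_iff_finset_linearIndependent]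
  intro t
  let s : Finset F := t.image g
  have hs : LinearIndepOn E id (s : Set F) := by
    refine hg.linearIndepOn_id.mono ?_
    intro x hx
    simp only [s, Finset.coe_image, Set.mem_image] at hx
    obtain ⟨l, -, rfl⟩ := hx
    exact ⟨l, rfl⟩
  have h' := h s hs
  let j : {l // l ∈ t} → (s : Set F) := fun l => ⟨g l.1, by
    simp only [s, Finset.coe_image, Set.mem_image]
    exact ⟨l.1, l.2, rfl⟩⟩
  have hj : Function.Injective j := by
    intro a b hab
    apply Subtype.ext
    exact hg.injective (congrArg Subtype.val hab)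
  exact h'.comp j hj

theorem HCond.linearIndependent_pow_pow {p : ℕ} (h : HCond p E F) {Λ : Type*} (g : Λ → F)
    (hg : LinearIndependent E g) (m : ℕ) : LinearIndependent E (fun l => g l ^ p ^ m) := by
  induction m with
  | zero => simpa using hg
  | succ m ih =>
    have := h.linearIndependent_pow _ ih
    simpa only [← pow_mul, ← pow_succ] using this

end Frob

section M1

universe u

variable (p : ℕ) [hp : Fact p.Prime] {K E F : Type u} [Field K] [Field E] [Field F]
  [Algebra K E] [Algebra E F] [Algebra K F] [IsScalarTower K E F] [CharP E p] [CharP F p]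

/-- representation of elements of `K[F^p]` on the `p`-th powers of an `E`-basis of `F`, with
coefficients in `K[E^p]`. -/
theorem exists_repr_pPower {Λ : Type*} (b : Module.Basis Λ E F) (c : F)
    (hc : c ∈ EGA41.pPowerSubalgebra p K F) :
    ∃ v : Λ →₀ E, (∀ l, v l ∈ EGA41.pPowerSubalgebra p K E) ∧
      Finsupp.linearCombination E (fun l => b l ^ p) v = c := by
  classical
  let S_E : Submodule K (Λ →₀ E) :=
    { carrier := {v | ∀ l, v l ∈ EGA41.pPowerSubalgebra p K E}
      add_mem' := fun {v w} hv hw l => by
        rw [Finsupp.add_apply]; exact add_mem (hv l) (hw l)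
      zero_mem' := fun l => by rw [Finsupp.zero_apply]; exact zero_mem _
      smul_mem' := fun a v hv l => by
        rw [Finsupp.smul_apply]; exact Subalgebra.smul_mem _ (hv l) a }
  let Ψ : (Λ →₀ E) →ₗ[K] F :=
    (Finsupp.linearCombination E (fun l => b l ^ p)).restrictScalars K
  suffices h : Subalgebra.toSubmodule (EGA41.pPowerSubalgebra p K F) ≤ S_E.map Ψ by
    obtain ⟨v, hv, hvc⟩ := h hc
    exact ⟨v, hv, hvc⟩
  unfold EGA41.pPowerSubalgebra
  rw [Algebra.adjoin_eq_span, Submodule.span_le]
  intro x hx
  have hx' : x ∈ MonoidHom.mrange (powMonoidHom p : F →* F) := by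
    refine (Submonoid.closure_le (S := MonoidHom.mrange (powMonoidHom p : F →* F))).mpr ?_ hx
    rintro _ ⟨f, rfl⟩
    exact ⟨f, rfl⟩
  obtain ⟨f, rfl⟩ := hx'
  refine ⟨(b.repr f).mapRange (· ^ p) (zero_pow hp.out.ne_zero), ?_, ?_⟩
  · intro l
    rw [Finsupp.mapRange_apply]
    exact Algebra.subset_adjoin (Set.mem_range_self _)
  · show Finsupp.linearCombination E (fun l => b l ^ p) _ = f ^ p
    rw [Finsupp.linearCombination_apply, Finsupp.sum_mapRange_index (by intro l; simp)]
    conv_rhs => rw [← b.linearCombination_repr f, Finsupp.linearCombination_apply]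
    rw [Finsupp.sum, Finsupp.sum, sum_pow_char]
    refine Finset.sum_congr rfl fun l _ => ?_
    rw [smul_pow]

/-- **MacLane (M1)**: if `F/E` satisfies (H) (e.g. separable) in char `p`, a family of `E`
which is `p`-independent over `K` stays `p`-independent over `K` in `F`. -/
theorem pIndependent_map_of_hCond (hH : HCond p E F)
    {ι : Type u} (y : ι → E) (hy : EGA41.IsPIndependent p K y) :
    EGA41.IsPIndependent p K (fun i => algebraMap E F (y i)) := by
  classical
  unfold EGA41.IsPIndependent EGA41.pMonomial at hy ⊢
  rw [linearIndependent_iff'] at hy ⊢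
  intro s γ hsum e he
  let b := Module.Free.chooseBasis E F
  have hbp : LinearIndependent E (fun l => b l ^ p) :=
    hH.linearIndependent_pow _ b.linearIndependent
  choose v hvC hvΨ using fun e => exists_repr_pPower p b ((γ e : F)) (γ e).2
  have hmon : ∀ e : RedE p ι, (e.1.prod fun i n => (algebraMap E F (y i)) ^ n) =
      algebraMap E F (e.1.prod fun i n => y i ^ n) := by
    intro e
    rw [map_finsuppProd]
    simp only [map_pow]
  have h1 : Finsupp.linearCombination E (fun l => b l ^ p)
      (∑ e ∈ s, (e.1.prod fun i n => y i ^ n) • v e) = 0 := by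
    rw [map_sum, ← hsum]
    refine Finset.sum_congr rfl fun e _ => ?_
    rw [map_smul, hvΨ, hmon, Algebra.smul_def, Subalgebra.smul_def, smul_eq_mul, mul_comm]
  have h2 := linearIndependent_iff.mp hbp _ h1
  have h3 : ∀ l, ∀ e ∈ s, v e l = 0 := by
    intro l
    have h4 : ∑ e ∈ s, (⟨v e l, hvC e l⟩ : EGA41.pPowerSubalgebra p K E) •
        (e.1.prod fun i n => y i ^ n) = 0 := by
      have := DFunLike.congr_fun h2 l
      rw [Finsupp.finsetSum_apply] at this
      simp only [Finsupp.smul_apply, smul_eq_mul, Finsupp.zero_apply] at this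
      rw [← this]
      refine Finset.sum_congr rfl fun e _ => ?_
      rw [Subalgebra.smul_def, smul_eq_mul, mul_comm]
    intro e he
    exact congrArg Subtype.val (hy s _ h4 e he)
  have h5 : v e = 0 := by
    ext l
    exact h3 l e he
  apply Subtype.ext
  rw [← hvΨ e, h5, map_zero]
  rfl

end M1

end Groth.Agent.Lib.Helper13.SepDiff
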