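import Mathlib
import Groth.Agent.Lib.Helper13.SepDiff
import Groth.Agent.S2466
import Groth.Agent.S2467
import Groth.Agent.S2468

/-!
# Separable field extensions: injectivity of `F ⊗[E] Ω[E⁄K] → Ω[F⁄K]`
-/

set_option autoImplicit false

namespace Groth.Agent.Lib.Helper13.SepDiff

open Groth.Agent.Lib.Helper13.PBasis TensorProduct

/-- a linear map sending a basis to a linearly independent family is injective -/
theorem injective_of_basis_linearIndependent {R M N ι : Type*} [CommRing R] [AddCommGroup M]
    [Module R M] [AddCommGroup N] [Module R N] (b : Module.Basis ι R M) (f : M →ₗ[R] N)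
    (h : LinearIndependent R (fun i => f (b i))) : Function.Injective f := by
  rw [← LinearMap.ker_eq_bot, LinearMap.ker_eq_bot']
  intro m hm
  have h1 : Finsupp.linearCombination R (fun i => f (b i)) (b.repr m) = 0 := by
    rw [Finsupp.linearCombination_apply]
    conv_rhs => rw [← hm, ← b.linearCombination_repr m, Finsupp.linearCombination_apply, map_finsuppSum]
    simp only [map_smul]
  have h2 := linearIndependent_iff.mp h _ h1
  exact b.repr.map_eq_zero_iff.mp h2

universe u

section

variable {K E F : Type u} [Field K] [Field E] [Field F]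
  [Algebra K E] [Algebra E F] [Algebra K F] [IsScalarTower K E F]

/-- every field has a `p`-basis over any subfield -/
theorem exists_pBasis (p : ℕ) [Fact p.Prime] [CharP E p] :
    ∃ B : Set E, EGA41.IsPBasis p K (Subtype.val : B → E) := by
  have hS : EGA41.IsPGenerating p K (Subtype.val : ↥(Set.univ : Set E) → E) :=
    (adjoin_eq_top_iff_pGenerating p _).mp
      (eq_top_iff.mpr fun b _ => Algebra.subset_adjoin ⟨⟨b, trivial⟩, rfl⟩)
  obtain ⟨B, -, -, hB⟩ := Groth.Agent.S2467.result p Set.univ (∅ : Set E) (Set.empty_subset _) hS
    (Groth.Agent.S2468.pIndependent_of_isEmpty (k := K) p _)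
  exact ⟨B, hB⟩

theorem mapBaseChange_injective_of_charP (p : ℕ) [Fact p.Prime] [CharP E p]
    (hH : HCond p E F) :
    Function.Injective (KaehlerDifferential.mapBaseChange K E F) := by
  haveI : CharP F p := charP_of_injective_algebraMap (algebraMap E F).injective p
  obtain ⟨B, hB⟩ := exists_pBasis (K := K) (E := E) p
  obtain ⟨bE, hbE⟩ := Groth.Agent.S2466.result p (Subtype.val : B → E) hB
  have hind := pIndependent_map_of_hCond (F := F) p hH (Subtype.val : B → E) hB.1
  have hli := (Groth.Agent.S2468.result p (k := K) (K := F)
    (fun t : B => algebraMap E F t.1)).1.mp hind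
  refine injective_of_basis_linearIndependent (bE.baseChange F) _ ?_
  have hfun : (fun t : B => KaehlerDifferential.mapBaseChange K E F (bE.baseChange F t)) =
      fun t : B => KaehlerDifferential.D K F (algebraMap E F t.1) := by
    funext t
    rw [Module.Basis.baseChange_apply, KaehlerDifferential.mapBaseChange_tmul, one_smul, hbE,
      KaehlerDifferential.map_D]
  rw [hfun]
  exact hli

theorem formallySmooth_of_charZero [CharZero E] : Algebra.FormallySmooth E F := by
  obtain ⟨s, hs⟩ := exists_isTranscendenceBasis E F
  haveI : Algebra.IsAlgebraic (IntermediateField.adjoin E (Set.range ((↑) : s → F))) F :=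
    hs.isAlgebraic_field
  haveI : CharZero (IntermediateField.adjoin E (Set.range ((↑) : s → F))) :=
    charZero_of_injective_algebraMap
      (algebraMap E (IntermediateField.adjoin E (Set.range ((↑) : s → F)))).injective
  exact Algebra.FormallySmooth.of_algebraicIndependent_of_isSeparable hs.1

theorem mapBaseChange_injective_of_formallySmooth {A S T : Type*} [CommRing A] [CommRing S]
    [CommRing T] [Algebra A S] [Algebra S T] [Algebra A T] [IsScalarTower A S T]
    [Algebra.FormallySmooth S T] :
    Function.Injective (KaehlerDifferential.mapBaseChange A S T) := by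
  rw [← LinearMap.ker_eq_bot, LinearMap.ker_eq_bot']
  intro x hx
  obtain ⟨y, rfl⟩ := (Algebra.H1Cotangent.exact_δ_mapBaseChange A S T x).mp hx
  rw [Subsingleton.elim y 0, map_zero]

/-- **S2484 (i)**: `F/E` separable ⇒ `F ⊗[E] Ω[E⁄K] → Ω[F⁄K]` injective. -/
theorem mapBaseChange_injective_of_isGeometricallyReduced [Algebra.IsGeometricallyReduced E F] :
    Function.Injective (KaehlerDifferential.mapBaseChange K E F) := by
  obtain h0 | ⟨p, hp, hpE⟩ := CharP.exists' E
  · haveI := formallySmooth_of_charZero (E := E) (F := F)
    exact mapBaseChange_injective_of_formallySmooth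
  · exact mapBaseChange_injective_of_charP p (hCond_of_isGeometricallyReduced p)

end

end Groth.Agent.Lib.Helper13.SepDiff
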