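import Mathlib

/-!
# Tensor products over an algebraically closed field (helper13)

* `exists_algHom_ne_zero`: a nonzero element of a reduced finitely generated algebra over an
  algebraically closed field `k` is not killed by some `k`-point.
* `isDomain_tensorProduct`: over an algebraically closed field, the tensor product of two domains is
  a domain.
* `isReduced_tensorProduct_of_isDomain`: over an algebraically closed field, `L ⊗ R` is reduced if
  `L` is a domain and `R` is reduced.
-/

set_option autoImplicit false
set_option linter.unusedSectionVars false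

open TensorProduct

namespace Groth.Agent.Lib.Helper13

universe u v w

section AlgClosed

variable (k : Type u) [Field k] [IsAlgClosed k]

/-- Nullstellensatz: a nonzero element of a reduced finitely generated `k`-algebra is nonzero at
some `k`-point. -/
theorem exists_algHom_ne_zero (B : Type v) [CommRing B] [Algebra k B] [Algebra.FiniteType k B]
    [IsReduced B] (b : B) (hb : b ≠ 0) : ∃ φ : B →ₐ[k] k, φ b ≠ 0 := by
  have : IsJacobsonRing B := isJacobsonRing_of_finiteType (A := k)
  have hjac : (⊥ : Ideal B).jacobson = ⊥ := by
    rw [← Ideal.radical_eq_jacobson, (Ideal.isRadical_bot : (⊥ : Ideal B).IsRadical).radical]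
  have : b ∉ (⊥ : Ideal B).jacobson := by rw [hjac]; simpa using hb
  rw [Ideal.jacobson, Submodule.mem_sInf] at this
  push Not at this
  obtain ⟨m, ⟨-, hm⟩, hbm⟩ := this
  have := hm
  let := Ideal.Quotient.field m
  have : Algebra.FiniteType k (B ⧸ m) :=
    Algebra.FiniteType.of_surjective (Ideal.Quotient.mkₐ k m) (Ideal.Quotient.mkₐ_surjective k m)
  have : Module.Finite k (B ⧸ m) := finite_of_finite_type_of_isJacobsonRing k (B ⧸ m)
  have hbij : Function.Bijective (algebraMap k (B ⧸ m)) :=
    IsAlgClosed.algebraMap_bijective_of_isIntegral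
  let e : k ≃ₐ[k] (B ⧸ m) := AlgEquiv.ofBijective (Algebra.ofId k (B ⧸ m)) hbij
  refine ⟨(e.symm : (B ⧸ m) →ₐ[k] k).comp (Ideal.Quotient.mkₐ k m), ?_⟩
  intro h0
  apply hbm
  have : (Ideal.Quotient.mkₐ k m) b = 0 := by
    have := congrArg e h0
    simpa using this
  exact Ideal.Quotient.eq_zero_iff_mem.1 this

variable {k}

/-- evaluation of the right factor at a `k`-point. -/
noncomputable def evalRight (A : Type v) [CommRing A] [Algebra k A] {B : Type w} [CommRing B]
    [Algebra k B] (φ : B →ₐ[k] k) : A ⊗[k] B →ₐ[k] A :=
  (Algebra.TensorProduct.rid k k A).toAlgHom.comp (Algebra.TensorProduct.map (AlgHom.id k A) φ)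

@[simp]
theorem evalRight_tmul (A : Type v) [CommRing A] [Algebra k A] {B : Type w} [CommRing B]
    [Algebra k B] (φ : B →ₐ[k] k) (a : A) (b : B) : evalRight A φ (a ⊗ₜ b) = φ b • a := by
  simp [evalRight]

/-- compatibility of coordinates (w.r.t. a basis of the left factor) with evaluation. -/
theorem coord_evalRight {A : Type v} [CommRing A] [Algebra k A] {B : Type w} [CommRing B]
    [Algebra k B] {ι : Type*} (e : Module.Basis ι k A) (i : ι) (φ : B →ₐ[k] k) (x : A ⊗[k] B) :
    e.coord i (evalRight A φ x) = φ (TensorProduct.lid k B ((e.coord i).rTensor B x)) := by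
  induction x using TensorProduct.induction_on with
  | zero => simp
  | tmul a b => simp [mul_comm]
  | add x y hx hy => simp only [map_add, hx, hy]

/-- a nonzero tensor has a nonzero coordinate. -/
theorem exists_coord_ne_zero {A : Type v} [CommRing A] [Algebra k A] {B : Type w} [CommRing B]
    [Algebra k B] {ι : Type*} (e : Module.Basis ι k A) (x : A ⊗[k] B) (hx : x ≠ 0) :
    ∃ i, TensorProduct.lid k B ((e.coord i).rTensor B x) ≠ 0 := by
  classical
  by_contra hcon
  push Not at hcon
  apply hx
  apply (TensorProduct.equivFinsuppOfBasisLeft e).injective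
  ext i
  rw [TensorProduct.equivFinsuppOfBasisLeft_apply, hcon i, map_zero]
  rfl

variable (k)

/-- Over an algebraically closed field, `A ⊗ B` is a domain for domains `A` and `B` with `B`
finitely generated. -/
theorem isDomain_tensorProduct_of_finiteType (A : Type v) [CommRing A] [Algebra k A] [IsDomain A]
    (B : Type w) [CommRing B] [Algebra k B] [IsDomain B] [Algebra.FiniteType k B] :
    IsDomain (A ⊗[k] B) := by
  have : Nontrivial (A ⊗[k] B) :=
    (Algebra.TensorProduct.includeLeft_injective (R := k) (S := k) (A := A) (B := B)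
      (algebraMap k B).injective).nontrivial
  have : NoZeroDivisors (A ⊗[k] B) := by
    refine ⟨fun {x y} hxy => ?_⟩
    by_contra hcon
    push Not at hcon
    obtain ⟨hx, hy⟩ := hcon
    let e := Module.Basis.ofVectorSpace k A
    obtain ⟨i, hi⟩ := exists_coord_ne_zero e x hx
    obtain ⟨j, hj⟩ := exists_coord_ne_zero e y hy
    obtain ⟨φ, hφ⟩ := exists_algHom_ne_zero k B _ (mul_ne_zero hi hj)
    rw [map_mul] at hφ
    have h1 : evalRight A φ x ≠ 0 := by
      intro h0
      have := coord_evalRight e i φ x
      rw [h0, map_zero] at this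
      exact (mul_ne_zero_iff.1 hφ).1 this.symm
    have h2 : evalRight A φ y ≠ 0 := by
      intro h0
      have := coord_evalRight e j φ y
      rw [h0, map_zero] at this
      exact (mul_ne_zero_iff.1 hφ).2 this.symm
    have h3 : evalRight A φ x * evalRight A φ y = 0 := by
      rw [← map_mul, hxy, map_zero]
    exact mul_ne_zero h1 h2 h3
  exact NoZeroDivisors.to_isDomain _

/-- **Over an algebraically closed field, the tensor product of two domains is a domain.** -/
theorem isDomain_tensorProduct (A : Type v) [CommRing A] [Algebra k A] [IsDomain A]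
    (B : Type w) [CommRing B] [Algebra k B] [IsDomain B] : IsDomain (A ⊗[k] B) := by
  have : Nontrivial (A ⊗[k] B) :=
    (Algebra.TensorProduct.includeLeft_injective (R := k) (S := k) (A := A) (B := B)
      (algebraMap k B).injective).nontrivial
  have : NoZeroDivisors (A ⊗[k] B) := by
    refine ⟨fun {x y} hxy => ?_⟩
    obtain ⟨C₁, hC₁, hx⟩ := exists_fg_and_mem_baseChange x
    obtain ⟨C₂, hC₂, hy⟩ := exists_fg_and_mem_baseChange y
    let C := C₁ ⊔ C₂
    have hC : C.FG := hC₁.sup hC₂
    have : Algebra.FiniteType k C := ⟨C.fg_top.mpr hC⟩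
    have hmono : ∀ {D D' : Subalgebra k B}, D ≤ D' → D.baseChange A ≤ D'.baseChange A := by
      intro D D' hDD' z hz
      obtain ⟨w, rfl⟩ := hz
      refine ⟨Algebra.TensorProduct.map (AlgHom.id A A) (Subalgebra.inclusion hDD') w, ?_⟩
      have : (Algebra.TensorProduct.map (AlgHom.id A A) D'.val).comp
          (Algebra.TensorProduct.map (AlgHom.id A A) (Subalgebra.inclusion hDD')) =
          Algebra.TensorProduct.map (AlgHom.id A A) D.val := by
        ext
        simp
      exact DFunLike.congr_fun this w
    obtain ⟨x', rfl⟩ := hmono (le_sup_left : C₁ ≤ C) hx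
    obtain ⟨y', rfl⟩ := hmono (le_sup_right : C₂ ≤ C) hy
    have hinj : Function.Injective (Algebra.TensorProduct.map (AlgHom.id A A) C.val) :=
      Module.Flat.lTensor_preserves_injective_linearMap (M := A) C.val.toLinearMap
        Subtype.val_injective
    have := isDomain_tensorProduct_of_finiteType k A C
    rw [← map_mul] at hxy
    have : x' * y' = 0 := hinj (hxy.trans (map_zero _).symm)
    rcases mul_eq_zero.1 this with h | h
    · left; rw [h, map_zero]
    · right; rw [h, map_zero]
  exact NoZeroDivisors.to_isDomain _


variable {k} in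
/-- naturality of coordinates in the right factor. -/
theorem coord_map_right {A : Type v} [CommRing A] [Algebra k A] {B : Type w} [CommRing B]
    [Algebra k B] {B' : Type*} [CommRing B'] [Algebra k B'] {ι : Type*} (e : Module.Basis ι k A)
    (i : ι) (g : B →ₐ[k] B') (x : A ⊗[k] B) :
    TensorProduct.lid k B' ((e.coord i).rTensor B'
      (Algebra.TensorProduct.map (AlgHom.id k A) g x)) =
      g (TensorProduct.lid k B ((e.coord i).rTensor B x)) := by
  induction x using TensorProduct.induction_on with
  | zero => simp
  | tmul a b => simp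
  | add x y hx hy => simp only [map_add, hx, hy]

/-- Over an algebraically closed field, `L ⊗ R` is reduced for `L` a domain and `R` reduced. -/
theorem isReduced_tensorProduct_of_isDomain (L : Type v) [CommRing L] [Algebra k L] [IsDomain L]
    (R : Type w) [CommRing R] [Algebra k R] [IsReduced R] : IsReduced (L ⊗[k] R) := by
  refine ⟨fun z hz => ?_⟩
  by_contra hz0
  let e := Module.Basis.ofVectorSpace k L
  obtain ⟨i, hi⟩ := exists_coord_ne_zero e z hz0
  apply hi
  have hnil : TensorProduct.lid k R ((e.coord i).rTensor R z) ∈ nilradical R := by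
    rw [nilradical_eq_sInf, Ideal.mem_sInf]
    intro p hp
    have : p.IsPrime := hp
    have : IsDomain (L ⊗[k] (R ⧸ p)) := isDomain_tensorProduct k L (R ⧸ p)
    have h1 : Algebra.TensorProduct.map (AlgHom.id k L) (Ideal.Quotient.mkₐ k p) z = 0 :=
      (hz.map _).eq_zero
    have h2 := coord_map_right e i (Ideal.Quotient.mkₐ k p) z
    rw [h1] at h2
    simp only [map_zero] at h2
    exact Ideal.Quotient.eq_zero_iff_mem.1 h2.symm
  rw [nilradical_eq_zero, Ideal.zero_eq_bot, Ideal.mem_bot] at hnil
  exact hnil

end AlgClosed


section Scheme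

open AlgebraicGeometry CategoryTheory CategoryTheory.Limits

/-- Over an algebraically closed field `k`, `Spec K → Spec k` is geometrically irreducible for every
field extension `K`. -/
instance geometricallyIrreducible_Spec_of_isAlgClosed (k K : Type u) [Field k] [IsAlgClosed k]
    [Field K] [Algebra k K] :
    GeometricallyIrreducible (Spec.map (CommRingCat.ofHom (algebraMap k K))) := by
  refine ⟨(geometrically_iff_of_commRing_of_isClosedUnderIsomorphisms
    (P := (IrreducibleSpace ·))).2 fun L _ _ => ?_⟩
  have : IsDomain (K ⊗[k] L) := isDomain_tensorProduct k K L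
  have : IrreducibleSpace ↥(Spec (CommRingCat.of (K ⊗[k] L))) :=
    inferInstanceAs (IrreducibleSpace (PrimeSpectrum (K ⊗[k] L)))
  exact (pullbackSpecIso k K L).hom.homeomorph.irreducibleSpace_iff.2 this

/-- Over an algebraically closed field `k`, `Spec K → Spec k` is geometrically connected for every
field extension `K`. -/
instance geometricallyConnected_Spec_of_isAlgClosed (k K : Type u) [Field k] [IsAlgClosed k]
    [Field K] [Algebra k K] :
    GeometricallyConnected (Spec.map (CommRingCat.ofHom (algebraMap k K))) := by
  refine ⟨(geometrically_iff_of_commRing_of_isClosedUnderIsomorphisms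
    (P := (ConnectedSpace ·))).2 fun L _ _ => ?_⟩
  have := (geometrically_iff_of_commRing_of_isClosedUnderIsomorphisms
    (P := (IrreducibleSpace ·))).1
    (geometricallyIrreducible_Spec_of_isAlgClosed k K).geometrically_irreducibleSpace L
  infer_instance

end Scheme

end Groth.Agent.Lib.Helper13
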