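import Mathlib
import Groth.Agent.Lib.Helper13.SepDiff2
import Groth.Agent.S2535

/-!
# Separable field extensions, derivations and imperfection modules
-/

set_option autoImplicit false

namespace Groth.Agent.Lib.Helper13.SepDiff

open Groth.Agent.Lib.Helper13.PBasis TensorProduct

section D1

variable {A E F : Type*} [CommRing A] [Field E] [Field F] [Algebra A E] [Algebra E F]
  [Algebra A F] [IsScalarTower A E F]

/-- **duality**: `F ⊗[E] Ω[E⁄A] → Ω[F⁄A]` is injective iff every `A`-derivation `E → F` extends
to an `A`-derivation of `F`. -/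
theorem mapBaseChange_injective_iff_derivation_extends :
    Function.Injective (KaehlerDifferential.mapBaseChange A E F) ↔
      ∀ D : Derivation A E F, ∃ D' : Derivation A F F, ∀ a : E, D' (algebraMap E F a) = D a := by
  constructor
  · intro hinj D
    obtain ⟨g, hg⟩ := LinearMap.exists_leftInverse_of_injective
      (KaehlerDifferential.mapBaseChange A E F) (LinearMap.ker_eq_bot.mpr hinj)
    let ℓ : Ω[F⁄A] →ₗ[F] F := (LinearMap.liftBaseChange F D.liftKaehlerDifferential) ∘ₗ g
    refine ⟨ℓ.compDer (KaehlerDifferential.D A F), fun a => ?_⟩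
    have h1 : KaehlerDifferential.D A F (algebraMap E F a) =
        KaehlerDifferential.mapBaseChange A E F (1 ⊗ₜ KaehlerDifferential.D A E a) := by
      rw [KaehlerDifferential.mapBaseChange_tmul, one_smul, KaehlerDifferential.map_D]
    have h2 : g (KaehlerDifferential.mapBaseChange A E F (1 ⊗ₜ KaehlerDifferential.D A E a)) =
        1 ⊗ₜ KaehlerDifferential.D A E a := LinearMap.congr_fun hg _
    show ℓ (KaehlerDifferential.D A F (algebraMap E F a)) = D a
    show (LinearMap.liftBaseChange F D.liftKaehlerDifferential)
      (g (KaehlerDifferential.D A F (algebraMap E F a))) = D a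
    rw [h1, h2, LinearMap.liftBaseChange_tmul, one_smul, Derivation.liftKaehlerDifferential_comp_D]
  · intro hext
    rw [← LinearMap.ker_eq_bot, LinearMap.ker_eq_bot']
    intro x hx
    rw [← Module.forall_dual_apply_eq_zero_iff F x]
    intro f
    let l : Ω[E⁄A] →ₗ[E] F := (f.restrictScalars E) ∘ₗ (TensorProduct.mk E F (Ω[E⁄A]) 1)
    obtain ⟨D', hD'⟩ := hext (l.compDer (KaehlerDifferential.D A E))
    have key : ∀ ω : Ω[E⁄A], D'.liftKaehlerDifferential (KaehlerDifferential.map A A E F ω) =
        f (1 ⊗ₜ ω) := by
      intro ω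
      have : (D'.liftKaehlerDifferential.restrictScalars E) ∘ₗ (KaehlerDifferential.map A A E F)
          = l := by
        refine LinearMap.ext_on (KaehlerDifferential.span_range_derivation A E) ?_
        rintro _ ⟨a, rfl⟩
        show D'.liftKaehlerDifferential (KaehlerDifferential.map A A E F
          (KaehlerDifferential.D A E a)) = l (KaehlerDifferential.D A E a)
        rw [KaehlerDifferential.map_D, Derivation.liftKaehlerDifferential_comp_D, hD']
        rfl
      exact LinearMap.congr_fun this ω
    have key2 : ∀ y, D'.liftKaehlerDifferential (KaehlerDifferential.mapBaseChange A E F y) =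
        f y := by
      intro y
      induction y using TensorProduct.induction_on with
      | zero => simp
      | tmul c ω =>
        rw [KaehlerDifferential.mapBaseChange_tmul, map_smul, key]
        rw [← map_smul, TensorProduct.smul_tmul', smul_eq_mul, mul_one]
      | add y z hy hz => rw [map_add, map_add, map_add, hy, hz]
    rw [← key2, hx, map_zero]

end D1

section OfInt

/-- a `ℤ`-derivation killing the image of `R` is an `R`-derivation -/
def derivationOfInt {R A M : Type*} [CommRing R] [CommRing A] [Algebra R A] [AddCommGroup M]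
    [Module A M] [Module R M] [IsScalarTower R A M] (d : Derivation ℤ A M)
    (h : ∀ r : R, d (algebraMap R A r) = 0) : Derivation R A M where
  toFun := d
  map_add' := d.map_add
  map_smul' r a := by
    show d (r • a) = r • d a
    rw [Algebra.smul_def, d.leibniz, h, smul_zero, add_zero, algebraMap_smul]
  map_one_eq_zero' := d.map_one_eq_zero
  leibniz' := d.leibniz

@[simp]
theorem derivationOfInt_apply {R A M : Type*} [CommRing R] [CommRing A] [Algebra R A]
    [AddCommGroup M] [Module A M] [Module R M] [IsScalarTower R A M] (d : Derivation ℤ A M)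
    (h : ∀ r : R, d (algebraMap R A r) = 0) (a : A) : derivationOfInt d h a = d a := rfl

/-- in characteristic `p`, derivations kill `p`-th powers -/
theorem derivation_pow_char {R A M : Type*} [CommRing R] [CommRing A] [Algebra R A]
    [AddCommGroup M] [Module A M] [Module R M] (p : ℕ) [CharP A p]
    (d : Derivation R A M) (a : A) : d (a ^ p) = 0 := by
  rw [Derivation.leibniz_pow, ← Nat.cast_smul_eq_nsmul A, CharP.cast_eq_zero, zero_smul]

end OfInt


section M2

variable {E F : Type*} [Field E] [Field F] [Algebra E F]

/-- independent families stay independent after tensoring: `∑ c_l ⊗ g_l = 0 ⇒ c = 0` -/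
theorem finsupp_eq_zero_of_sum_tmul_eq_zero {M : Type*} [AddCommGroup M] [Module E M]
    {Λ : Type*} (g : Λ → F) (hg : LinearIndependent E g) (c : Λ →₀ M)
    (h : (c.sum fun l m => m ⊗ₜ[E] g l) = 0) : c = 0 := by
  classical
  let G : (Λ →₀ E) →ₗ[E] F := Finsupp.linearCombination E g
  have hG : Function.Injective G := hg
  have hinj : Function.Injective (G.lTensor M) :=
    Module.Flat.lTensor_preserves_injective_linearMap G hG
  apply TensorProduct.sum_tmul_basis_right_eq_zero (Finsupp.basisSingleOne (R := E) (ι := Λ)) c
  apply hinj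
  rw [map_zero, map_finsuppSum, ← h]
  refine Finsupp.sum_congr fun l _ => ?_
  rw [LinearMap.lTensor_tmul]
  congr 1
  simp [G]

/-- **MacLane (M2)**: condition (H) implies separability (geometric reducedness). -/
theorem isGeometricallyReduced_of_hCond (p : ℕ) [hp : Fact p.Prime] [CharP E p]
    (hH : HCond p E F) : Algebra.IsGeometricallyReduced E F := by
  classical
  rw [Algebra.isGeometricallyReduced_field_iff]
  refine ⟨fun z hz => ?_⟩
  rcases subsingleton_or_nontrivial (AlgebraicClosure E ⊗[E] F) with hsub | hnt
  · exact Subsingleton.elim _ _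
  haveI : CharP (AlgebraicClosure E) p :=
    charP_of_injective_algebraMap (algebraMap E (AlgebraicClosure E)).injective p
  haveI : CharP (AlgebraicClosure E ⊗[E] F) p :=
    charP_of_injective_algebraMap
      (algebraMap (AlgebraicClosure E) (AlgebraicClosure E ⊗[E] F)).injective p
  let b := Module.Free.chooseBasis E F
  obtain ⟨c, rfl⟩ := TensorProduct.eq_repr_basis_right b z
  obtain ⟨m, hm⟩ := hz
  have hpow : (c.sum fun l a => a ⊗ₜ[E] b l) ^ p ^ m = 0 := by
    have hle : m ≤ p ^ m := (Nat.lt_pow_self hp.out.one_lt).le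
    rw [← Nat.sub_add_cancel hle, pow_add, hm, mul_zero]
  have hbm := hH.linearIndependent_pow_pow _ b.linearIndependent m
  have hc' : c.mapRange (· ^ p ^ m) (zero_pow (pow_ne_zero _ hp.out.ne_zero)) = 0 := by
    apply finsupp_eq_zero_of_sum_tmul_eq_zero _ hbm
    rw [Finsupp.sum_mapRange_index (by intro l; exact TensorProduct.zero_tmul _ _)]
    rw [← hpow, Finsupp.sum, Finsupp.sum, sum_pow_char_pow]
    refine Finset.sum_congr rfl fun l _ => ?_
    rw [Algebra.TensorProduct.tmul_pow]
  have hc : c = 0 := by
    ext l
    have := DFunLike.congr_fun hc' l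
    rw [Finsupp.mapRange_apply, Finsupp.zero_apply] at this
    exact pow_eq_zero_iff (pow_ne_zero _ hp.out.ne_zero) |>.mp this
  rw [hc, Finsupp.sum_zero_index]

end M2


section Abs

universe u

variable {K E F : Type u} [Field K] [Field E] [Field F]
  [Algebra K E] [Algebra E F] [Algebra K F] [IsScalarTower K E F]

/-- if the image of `K` in `E` consists of `p`-th powers, so does `K[E^p]` -/
theorem exists_pow_eq_of_mem_pPowerSubalgebra (p : ℕ) [hp : Fact p.Prime] [CharP E p]
    (hK : ∀ c : K, ∃ e : E, algebraMap K E c = e ^ p) {x : E}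
    (hx : x ∈ EGA41.pPowerSubalgebra p K E) : ∃ γ : E, γ ^ p = x := by
  let S : Subalgebra K E :=
    { (frobenius E p).rangeS with
      algebraMap_mem' := fun c => by
        obtain ⟨e, he⟩ := hK c
        exact ⟨e, he.symm⟩ }
  have hle : EGA41.pPowerSubalgebra p K E ≤ S :=
    Algebra.adjoin_le (by rintro _ ⟨b, rfl⟩; exact ⟨b, rfl⟩)
  obtain ⟨γ, hγ⟩ := hle hx
  exact ⟨γ, hγ⟩

/-- **MacLane, converse direction**: if `K → E` lands in `E^p` and `F ⊗[E] Ω[E⁄K] → Ω[F⁄K]` is
injective then `F/E` satisfies (H). -/
theorem hCond_of_mapBaseChange_injective (p : ℕ) [hp : Fact p.Prime] [CharP E p]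
    (hK : ∀ c : K, ∃ e : E, algebraMap K E c = e ^ p)
    (hinj : Function.Injective (KaehlerDifferential.mapBaseChange K E F)) : HCond p E F := by
  classical
  haveI : CharP F p := charP_of_injective_algebraMap (algebraMap E F).injective p
  obtain ⟨B, hB⟩ := exists_pBasis (K := K) (E := E) p
  obtain ⟨bE, hbE⟩ := Groth.Agent.S2466.result p (Subtype.val : B → E) hB
  have hli : LinearIndependent F
      (fun t : B => KaehlerDifferential.D K F (algebraMap E F t.1)) := by
    have h1 := (bE.baseChange F).linearIndependent.map'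
      (KaehlerDifferential.mapBaseChange K E F) (LinearMap.ker_eq_bot.mpr hinj)
    have hfun : (KaehlerDifferential.mapBaseChange K E F) ∘ (bE.baseChange F) =
        fun t : B => KaehlerDifferential.D K F (algebraMap E F t.1) := by
      funext t
      rw [Function.comp_apply, Module.Basis.baseChange_apply,
        KaehlerDifferential.mapBaseChange_tmul, one_smul, hbE, KaehlerDifferential.map_D]
    rw [hfun] at h1
    exact h1
  have hind : EGA41.IsPIndependent p K (fun t : B => algebraMap E F t.1) :=
    (Groth.Agent.S2468.result p (k := K) (K := F) _).1.mpr hli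
  have hmon : ∀ e : RedE p B, EGA41.pMonomial (fun t : B => algebraMap E F t.1) e.1 =
      algebraMap E F (EGA41.pMonomial (Subtype.val : B → E) e.1) := by
    intro e
    unfold EGA41.pMonomial
    rw [map_finsuppProd]
    simp only [map_pow]
  intro s hs
  unfold LinearIndepOn at hs ⊢
  rw [Fintype.linearIndependent_iff] at hs ⊢
  intro a ha
  have hgen := hB.2
  unfold EGA41.IsPGenerating at hgen
  have hmem : ∀ i, a i ∈ Submodule.span (EGA41.pPowerSubalgebra p K E)
      (Set.range fun e : RedE p B => EGA41.pMonomial (Subtype.val : B → E) e.1) := by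
    intro i
    rw [hgen]; trivial
  choose c hc using fun i => (Finsupp.mem_span_range_iff_exists_finsupp).mp (hmem i)
  choose γ hγ using fun i e => exists_pow_eq_of_mem_pPowerSubalgebra p hK (c i e).2
  let T : Finset (RedE p B) := Finset.univ.biUnion fun i => (c i).support
  have haT : ∀ i, a i = ∑ e ∈ T, ((c i e : E)) * EGA41.pMonomial (Subtype.val : B → E) e.1 := by
    intro i
    rw [← hc i]
    rw [Finsupp.sum_of_support_subset (s := T) _ (by
      intro e he
      exact Finset.mem_biUnion.mpr ⟨i, Finset.mem_univ _, he⟩) _ (by intro e _; simp)]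
    rfl
  let g : RedE p B → EGA41.pPowerSubalgebra p K F := fun e =>
    ⟨(∑ i, algebraMap E F (γ i e) * ((i : ↥(s : Set F)) : F)) ^ p,
      Algebra.subset_adjoin ⟨_, rfl⟩⟩
  have hsum : ∑ e ∈ T, g e • EGA41.pMonomial (fun t : B => algebraMap E F t.1) e.1 = 0 := by
    have h1 : ∀ e ∈ T, g e • EGA41.pMonomial (fun t : B => algebraMap E F t.1) e.1 =
        ∑ i, algebraMap E F ((c i e : E) * EGA41.pMonomial (Subtype.val : B → E) e.1) *
          ((i : ↥(s : Set F)) : F) ^ p := by
      intro e _
      rw [Subalgebra.smul_def, smul_eq_mul, hmon]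
      show (∑ i, algebraMap E F (γ i e) * ((i : ↥(s : Set F)) : F)) ^ p * _ = _
      rw [sum_pow_char, Finset.sum_mul]
      refine Finset.sum_congr rfl fun i _ => ?_
      rw [mul_pow, ← map_pow, hγ, map_mul]
      ring
    rw [Finset.sum_congr rfl h1, Finset.sum_comm, ← ha]
    refine Finset.sum_congr rfl fun i _ => ?_
    rw [← Finset.sum_mul, ← map_sum, ← haT, Algebra.smul_def]
  have hg := linearIndependent_iff'.mp hind T g hsum
  have hγ0 : ∀ e ∈ T, ∀ i, γ i e = 0 := by
    intro e he
    apply hs (fun i => γ i e)
    have h2 : (∑ i, algebraMap E F (γ i e) * ((i : ↥(s : Set F)) : F)) ^ p = 0 :=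
      congrArg Subtype.val (hg e he)
    have h3 := pow_eq_zero_iff hp.out.ne_zero |>.mp h2
    rw [← h3]
    refine Finset.sum_congr rfl fun i _ => ?_
    rw [Algebra.smul_def]
    rfl
  intro i
  rw [haT i]
  refine Finset.sum_eq_zero fun e he => ?_
  rw [← hγ i e, hγ0 e he i, zero_pow hp.out.ne_zero, zero_mul]

end Abs


section Bridge

universe u

variable {K E F : Type u} [Field K] [Field E] [Field F]
  [Algebra K E] [Algebra E F] [Algebra K F] [IsScalarTower K E F]

/-- if `K → E` lands in `E^p`: all `ℤ`-derivations `E → F` extend to `F` iff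
`F ⊗[E] Ω[E⁄K] → Ω[F⁄K]` is injective. -/
theorem int_derivation_extends_iff (p : ℕ) [hp : Fact p.Prime] [CharP E p]
    (hK : ∀ c : K, ∃ e : E, algebraMap K E c = e ^ p) :
    (∀ D : Derivation ℤ E F, ∃ D' : Derivation ℤ F F, ∀ a : E, D' (algebraMap E F a) = D a) ↔
      Function.Injective (KaehlerDifferential.mapBaseChange K E F) := by
  haveI : CharP F p := charP_of_injective_algebraMap (algebraMap E F).injective p
  rw [mapBaseChange_injective_iff_derivation_extends]
  have hKF : ∀ (d : Derivation ℤ F F) (c : K), d (algebraMap K F c) = 0 := by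
    intro d c
    obtain ⟨e, he⟩ := hK c
    rw [IsScalarTower.algebraMap_apply K E F, he, map_pow, derivation_pow_char p]
  constructor
  · intro h D
    obtain ⟨D', hD'⟩ := h (D.restrictScalars ℤ)
    exact ⟨derivationOfInt D' (hKF D'), fun a => by rw [derivationOfInt_apply, hD']; rfl⟩
  · intro h D
    have hD : ∀ c : K, D (algebraMap K E c) = 0 := by
      intro c
      obtain ⟨e, he⟩ := hK c
      rw [he, derivation_pow_char p]
    obtain ⟨D', hD'⟩ := h (derivationOfInt D hD)
    exact ⟨D'.restrictScalars ℤ, fun a => by rw [Derivation.restrictScalars_apply, hD']; rfl⟩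

omit [Field K] [Algebra K E] [Algebra K F] [IsScalarTower K E F] in
/-- (H) ⇔ every (absolute) derivation `E → F` extends to `F`. -/
theorem hCond_iff_int_derivation_extends (p : ℕ) [hp : Fact p.Prime] [CharP E p] :
    HCond p E F ↔
      ∀ D : Derivation ℤ E F, ∃ D' : Derivation ℤ F F, ∀ a : E, D' (algebraMap E F a) = D a := by
  let K₀ : Subfield E := (frobenius E p).fieldRange
  letI : Algebra K₀ F :=
    { algebraMap := (algebraMap E F).comp K₀.subtype
      commutes' := fun c x => mul_comm _ _
      smul_def' := fun c x => Algebra.smul_def (c : E) x }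
  haveI : IsScalarTower K₀ E F := inferInstance
  have hK : ∀ c : K₀, ∃ e : E, algebraMap K₀ E c = e ^ p := by
    intro c
    obtain ⟨e, he⟩ := RingHom.mem_fieldRange.mp c.2
    exact ⟨e, he.symm⟩
  rw [int_derivation_extends_iff (K := K₀) p hK]
  exact ⟨fun h => mapBaseChange_injective_of_charP p h,
    fun h => hCond_of_mapBaseChange_injective p hK h⟩

omit [Field K] [Algebra K E] [Algebra K F] [IsScalarTower K E F] in
/-- **MacLane's criterion** -/
theorem isGeometricallyReduced_iff_hCond (p : ℕ) [hp : Fact p.Prime] [CharP E p] :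
    Algebra.IsGeometricallyReduced E F ↔ HCond p E F :=
  ⟨fun _ => hCond_of_isGeometricallyReduced p, isGeometricallyReduced_of_hCond p⟩

omit [Field K] [Algebra K E] [Algebra K F] [IsScalarTower K E F] in
/-- `F/E` is separable iff every (absolute) derivation `E → F` extends to a derivation of `F`. -/
theorem isGeometricallyReduced_iff_int_derivation_extends :
    Algebra.IsGeometricallyReduced E F ↔
      ∀ D : Derivation ℤ E F, ∃ D' : Derivation ℤ F F, ∀ a : E, D' (algebraMap E F a) = D a := by
  obtain h0 | ⟨p, hp, hpE⟩ := CharP.exists' E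
  · constructor
    · intro _
      haveI := formallySmooth_of_charZero (E := E) (F := F)
      exact mapBaseChange_injective_iff_derivation_extends.mp
        (mapBaseChange_injective_of_formallySmooth (A := ℤ) (S := E) (T := F))
    · intro _
      exact Groth.Agent.S2535.isGeometricallyReduced_of_perfectField E F
  · rw [isGeometricallyReduced_iff_hCond p, hCond_iff_int_derivation_extends p]

/-- `F/E` is separable iff the absolute imperfection module `ker (F ⊗ Ω[E⁄ℤ] → Ω[F⁄ℤ])` is zero -/
theorem isGeometricallyReduced_iff_int_mapBaseChange_injective :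
    Algebra.IsGeometricallyReduced E F ↔
      Function.Injective (KaehlerDifferential.mapBaseChange ℤ E F) := by
  rw [isGeometricallyReduced_iff_int_derivation_extends,
    mapBaseChange_injective_iff_derivation_extends]

/-- **S2484 (ii)**: `F/K` separable and `F ⊗[E] Ω[E⁄K] → Ω[F⁄K]` injective ⇒ `F/E` separable. -/
theorem isGeometricallyReduced_of_mapBaseChange_injective
    [Algebra.IsGeometricallyReduced K F]
    (hinj : Function.Injective (KaehlerDifferential.mapBaseChange K E F)) :
    Algebra.IsGeometricallyReduced E F := by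
  rw [isGeometricallyReduced_iff_int_derivation_extends]
  intro D
  obtain ⟨D₁, hD₁⟩ := (isGeometricallyReduced_iff_int_derivation_extends (E := K) (F := F)).mp
    inferInstance (D.compAlgebraMap K)
  let Δ : Derivation ℤ E F := D - D₁.compAlgebraMap E
  have hΔ : ∀ c : K, Δ (algebraMap K E c) = 0 := by
    intro c
    show D (algebraMap K E c) - D₁ (algebraMap E F (algebraMap K E c)) = 0
    rw [← IsScalarTower.algebraMap_apply K E F, hD₁]
    exact sub_self _
  obtain ⟨Δ', hΔ'⟩ := mapBaseChange_injective_iff_derivation_extends.mp hinj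
    (derivationOfInt Δ hΔ)
  refine ⟨D₁ + Δ'.restrictScalars ℤ, fun a => ?_⟩
  show D₁ (algebraMap E F a) + Δ' (algebraMap E F a) = D a
  rw [hΔ', derivationOfInt_apply]
  show D₁ (algebraMap E F a) + (D a - D₁ (algebraMap E F a)) = D a
  abel

end Bridge

end Groth.Agent.Lib.Helper13.SepDiff
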