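import Mathlib
import Groth.Agent.Lib.Helper13.SepDiff3
import Groth.Agent.S4541

/-!
# Separable field extensions are formally smooth (EGA 0_IV 19.6.1)
-/

set_option autoImplicit false

namespace Groth.Agent.Lib.Helper13.SepDiff

open Groth.Agent.Lib.Helper13.PBasis TensorProduct

/-- Jacobi–Zariski: `T/R` formally smooth, `T ⊗[S] Ω[S⁄R] → Ω[T⁄R]` injective and `Ω[T⁄S]`
projective ⇒ `T/S` formally smooth. -/
theorem formallySmooth_of_tower {R S T : Type*} [CommRing R] [CommRing S] [CommRing T]
    [Algebra R S] [Algebra S T] [Algebra R T] [IsScalarTower R S T] [Algebra.FormallySmooth R T]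
    [Module.Projective T Ω[T⁄S]]
    (hinj : Function.Injective (KaehlerDifferential.mapBaseChange R S T)) :
    Algebra.FormallySmooth S T := by
  refine ⟨inferInstance, ⟨fun x y => ?_⟩⟩
  suffices h : ∀ x : Algebra.H1Cotangent S T, x = 0 by rw [h x, h y]
  intro x
  have h1 : Algebra.H1Cotangent.δ R S T x = 0 := by
    apply hinj
    rw [map_zero]
    exact (Algebra.H1Cotangent.exact_δ_mapBaseChange R S T).apply_apply_eq_zero x
  obtain ⟨y, rfl⟩ := (Algebra.H1Cotangent.exact_map_δ R S T x).mp h1
  rw [Subsingleton.elim y 0, map_zero]

/-- the prime subfield in characteristic `p` is perfect -/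
theorem perfectRing_bot_subfield (p : ℕ) [hp : Fact p.Prime] (k : Type*) [Field k] [CharP k p] :
    ∃ _ : CharP (⊥ : Subfield k) p, PerfectRing (⊥ : Subfield k) p := by
  letI := ZMod.algebra k p
  haveI : CharP (⊥ : Subfield k) p :=
    (RingHom.charP_iff _ (⊥ : Subfield k).subtype_injective p).mpr inferInstance
  haveI : Finite (⊥ : Subfield k) := by
    rw [Subfield.bot_eq_of_zMod_algebra p]
    exact Finite.of_surjective (algebraMap (ZMod p) k).rangeRestrictField
      (algebraMap (ZMod p) k).rangeRestrictField_bijective.2
  haveI : ExpChar (⊥ : Subfield k) p := ExpChar.prime hp.out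
  exact ⟨inferInstance, PerfectRing.ofFiniteOfIsReduced p _⟩

universe u

/-- **EGA 0_IV 19.6.1**: a field extension is formally smooth iff it is separable. -/
theorem formallySmooth_iff_isGeometricallyReduced {k K : Type u} [Field k] [Field K]
    [Algebra k K] : Algebra.FormallySmooth k K ↔ Algebra.IsGeometricallyReduced k K := by
  constructor
  · intro h
    exact isGeometricallyReduced_iff_int_mapBaseChange_injective.mpr
      mapBaseChange_injective_of_formallySmooth
  · intro h
    obtain h0 | ⟨p, hp, hpk⟩ := CharP.exists' k
    · exact formallySmooth_of_charZero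
    · haveI : CharP K p := charP_of_injective_algebraMap (algebraMap k K).injective p
      let P : Subfield k := ⊥
      letI : Algebra P K :=
        { algebraMap := (algebraMap k K).comp P.subtype
          commutes' := fun c x => mul_comm _ _
          smul_def' := fun c x => Algebra.smul_def (c : k) x }
      haveI : IsScalarTower P k K := inferInstance
      obtain ⟨hchar, hperf⟩ := perfectRing_bot_subfield p k
      obtain ⟨B, hB⟩ := exists_pBasis (K := P) (E := K) p
      haveI : Algebra.FormallySmooth P K :=
        (Groth.Agent.S4541.result p (Subtype.val : B → K) hB).1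
      exact formallySmooth_of_tower (R := P) mapBaseChange_injective_of_isGeometricallyReduced

end Groth.Agent.Lib.Helper13.SepDiff
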