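import Mathlib
import Groth.Agent.Lib.Helper13.SepDiff4
import Groth.Agent.S2452
import Groth.Agent.Lib.Helper76.PSCohen

/-!
# Cohen structure theorem in equal characteristic: coefficient fields and power series
-/

set_option autoImplicit false

namespace Groth.Agent.Lib.Helper13.CohenEq

open IsLocalRing MvPowerSeries
open Groth.Agent.Lib.Helper76.PSComplete Groth.Agent.Lib.Helper76.LT

universe u

section CoeffField

variable {A : Type u} [CommRing A] [IsLocalRing A] [IsAdicComplete (maximalIdeal A) A]

/-- a complete local ring containing a perfect field has a coefficient field -/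
theorem exists_section_of_perfectField (P : Type u) [Field P] [PerfectField P] [Algebra P A] :
    ∃ σ : ResidueField A →ₐ[P] A, ∀ x : ResidueField A, residue A (σ x) = x := by
  haveI : Algebra.IsGeometricallyReduced P (ResidueField A) :=
    Groth.Agent.S2535.isGeometricallyReduced_of_perfectField P (ResidueField A)
  exact Groth.Agent.S2452.result

/-- a complete local ring in which `p = 0` (`p` the residue characteristic) has a coefficient
field. -/
theorem exists_section_of_natCast_eq_zero (p : ℕ) [CharP (ResidueField A) p]
    (hp : (p : A) = 0) :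
    ∃ σ : ResidueField A →+* A, ∀ x : ResidueField A, residue A (σ x) = x := by
  rcases Nat.eq_zero_or_pos p with rfl | hpos
  · -- characteristic zero: `ℚ ⊆ A`
    haveI : CharZero (ResidueField A) := CharP.charP_to_charZero _
    have hunit : ∀ y : nonZeroDivisors ℤ, IsUnit (Int.castRingHom A y) := by
      intro y
      by_contra hy
      have h1 : (Int.castRingHom A y) ∈ maximalIdeal A := (mem_maximalIdeal _).mpr hy
      have h2 : residue A (Int.castRingHom A y) = 0 := (residue_eq_zero_iff _).mpr h1
      rw [eq_intCast, map_intCast, Int.cast_eq_zero] at h2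
      exact nonZeroDivisors.coe_ne_zero y h2
    let g : ℚ →+* A := IsLocalization.lift (M := nonZeroDivisors ℤ) (S := ℚ) hunit
    letI : Algebra (ULift.{u} ℚ) A := (g.comp (ULift.ringEquiv : ULift.{u} ℚ ≃+* ℚ).toRingHom).toAlgebra
    haveI : CharZero (ULift.{u} ℚ) :=
      charZero_of_injective_ringHom
        (f := ((ULift.ringEquiv : ULift.{u} ℚ ≃+* ℚ).symm : ℚ →+* ULift.{u} ℚ))
        (ULift.ringEquiv : ULift.{u} ℚ ≃+* ℚ).symm.injective
    obtain ⟨σ, hσ⟩ := exists_section_of_perfectField (A := A) (ULift.{u} ℚ)
    exact ⟨σ.toRingHom, hσ⟩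
  · -- characteristic `p`
    have hprime : p.Prime := by
      rcases CharP.char_is_prime_or_zero (ResidueField A) p with h | h
      · exact h
      · omega
    haveI : Fact p.Prime := ⟨hprime⟩
    haveI : CharP A p := (CharP.charP_iff_prime_eq_zero hprime).mpr hp
    let g : ZMod p →+* A := ZMod.castHom (dvd_refl p) A
    letI : Algebra (ULift.{u} (ZMod p)) A :=
      (g.comp (ULift.ringEquiv : ULift.{u} (ZMod p) ≃+* ZMod p).toRingHom).toAlgebra
    obtain ⟨σ, hσ⟩ := exists_section_of_perfectField (A := A) (ULift.{u} (ZMod p))
    exact ⟨σ.toRingHom, hσ⟩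

end CoeffField

section Structure

variable {A : Type u} [CommRing A] [IsLocalRing A] [IsNoetherianRing A]
  [IsAdicComplete (maximalIdeal A) A]

/-- **Cohen**: a complete Noetherian local ring with a coefficient field is a quotient of a power
series ring over its residue field, with kernel in the square of the maximal ideal. -/
theorem exists_surjective_of_section (σ : ResidueField A →+* A)
    (hσ : ∀ x : ResidueField A, residue A (σ x) = x) :
    ∃ (n : ℕ) (f : MvPowerSeries (Fin n) (ResidueField A) →+* A), Function.Surjective f ∧
      RingHom.ker f ≤ maximalIdeal (MvPowerSeries (Fin n) (ResidueField A)) ^ 2 ∧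
      ∀ x, f (C x) = σ x := by
  classical
  letI : Algebra (ResidueField A) A := σ.toAlgebra
  let d := Module.finrank (ResidueField A) (CotangentSpace A)
  let bas : Module.Basis (Fin d) (ResidueField A) (CotangentSpace A) :=
    Module.finBasis (ResidueField A) (CotangentSpace A)
  choose b hb using fun i => Ideal.toCotangent_surjective (maximalIdeal A) (bas i)
  let ψ : MvPowerSeries (Fin d) (ResidueField A) →ₐ[ResidueField A] A :=
    evC (maximalIdeal A) (fun i => (b i : A)) (fun i => (b i).2)
  have hψX : ∀ i, ψ (X i) = (b i : A) := fun i => evC_X _ _ _ i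
  have hψ : ∀ i : Fin d, ψ (X i) ∈ maximalIdeal A := fun i => by rw [hψX]; exact (b i).2
  have hfam : (fun i : Fin d => (maximalIdeal A).toCotangent ⟨ψ (X i), hψ i⟩) = bas := by
    funext i
    rw [← hb i]
    congr 1
    exact Subtype.ext (hψX i)
  refine ⟨d, ψ.toRingHom, ?_, ?_, ?_⟩
  · refine surjective_of_cotangent_span ?_ ψ hψ ?_
    · intro x
      exact ⟨x, hσ x⟩
    · rw [hfam]
      exact bas.span_eq
  · intro F hF
    have hF' : ψ F = 0 := hF
    have hord := ord_two_of_mem_ker ψ hψ (by rw [hfam]; exact bas.linearIndependent) hF'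
    rw [maximalIdeal_eq_varIdeal]
    exact mem_varIdeal_pow_of_ord hord
  · intro x
    have := ψ.commutes x
    rwa [MvPowerSeries.algebraMap_apply, Algebra.algebraMap_self, RingHom.id_apply] at this

end Structure

end Groth.Agent.Lib.Helper13.CohenEq
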