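import Mathlib

/-!
# `I`-adically complete implies `I^n`-adically complete
-/

set_option autoImplicit false

namespace Groth.Agent.Lib.Helper13.AdicPow

theorem isAdicComplete_pow {R : Type*} [CommRing R] (I : Ideal R) [IsAdicComplete I R] {n : ℕ}
    (hn : 0 < n) : IsAdicComplete (I ^ n) R := by
  letI : WithIdeal R := ⟨I⟩
  have hI : IsAdic I := rfl
  have hIn : IsAdic (I ^ n) := is_ideal_adic_pow hI hn
  rw [hIn.isAdicComplete_iff]
  exact hI.isAdicComplete_iff.mp inferInstance

end Groth.Agent.Lib.Helper13.AdicPow
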