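import Mathlib

/-!
# Linear independence over a decreasing directed family of subfields
-/

set_option autoImplicit false

namespace Groth.Agent.Lib.Helper13.DescendLI

variable {K : Type*} [Field K]

/-- set-based linear independence of `v` on the finset `t` with coefficients in `S ⊆ K` -/
def LISon {ι : Type*} (S : Set K) (v : ι → K) (t : Finset ι) : Prop :=
  ∀ c : ι → K, (∀ i ∈ t, c i ∈ S) → ∑ i ∈ t, c i * v i = 0 → ∀ i ∈ t, c i = 0

theorem LISon.mono_set {ι : Type*} {S S' : Set K} (h : S' ⊆ S) {v : ι → K} {t : Finset ι}
    (ht : LISon S v t) : LISon S' v t :=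
  fun c hc hsum => ht c (fun i hi => h (hc i hi)) hsum

theorem LISon.mono_finset {ι : Type*} [DecidableEq ι] {S : Set K} (h0 : (0 : K) ∈ S) {v : ι → K}
    {t t' : Finset ι} (h : t' ⊆ t) (ht : LISon S v t) : LISon S v t' := by
  intro c hc hsum i hi
  have := ht (fun j => if j ∈ t' then c j else 0) (fun j _ => by
    by_cases hj : j ∈ t'
    · simp only [hj, if_true]; exact hc j hj
    · simp only [hj, if_false]; exact h0) (by
    have h3 : ∑ j ∈ t, (if j ∈ t' then c j else 0) * v j = ∑ j ∈ t', c j * v j := by
      rw [← Finset.sum_subset h (fun j _ hj => by simp [hj])]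
      exact Finset.sum_congr rfl fun j hj => by simp [hj]
    rw [h3, hsum]) i (h hi)
  simpa [hi] using this

/-- linear independence over a subalgebra, in set form -/
theorem linearIndependent_subalgebra_iff {R : Type*} [CommRing R] [Algebra R K]
    (T : Subalgebra R K) {ι : Type*} (v : ι → K) :
    LinearIndependent T v ↔ ∀ t : Finset ι, LISon (T : Set K) v t := by
  rw [linearIndependent_iff']
  constructor
  · intro h t c hc hsum i hi
    classical
    have := h t (fun j => if hj : j ∈ t then (⟨c j, hc j hj⟩ : T) else 0) (by
      rw [← hsum]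
      refine Finset.sum_congr rfl fun j hj => ?_
      rw [dif_pos hj]
      rfl) i hi
    rw [dif_pos hi] at this
    exact congrArg Subtype.val this
  · intro h t g hsum i hi
    have := h t (fun j => (g j : K)) (fun j _ => (g j).2) (by
      rw [← hsum]
      refine Finset.sum_congr rfl fun j _ => ?_
      rfl) i hi
    exact Subtype.ext this

/-- **descending lemma**: if `v` is independent on `t` over the intersection of a decreasing
directed family of subfields, it is independent over one of them. -/
theorem exists_lison {ι : Type*} {J : Type*} [Preorder J] [IsDirected J (· ≤ ·)] [Nonempty J]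
    (S : J → Subfield K) (hS : Antitone S) (S₀ : Set K)
    (hS₀ : ∀ x, (∀ j, x ∈ S j) → x ∈ S₀) (h1 : (1 : K) ∈ S₀) (v : ι → K) (t : Finset ι)
    (ht : LISon S₀ v t) : ∃ j, LISon (S j : Set K) v t := by
  classical
  induction t using Finset.induction_on with
  | empty =>
    obtain ⟨j⟩ := ‹Nonempty J›
    exact ⟨j, fun c _ _ i hi => absurd hi (Finset.notMem_empty i)⟩
  | insert a t ha ih =>
    have h0 : (0 : K) ∈ S₀ := hS₀ 0 fun j => (S j).zero_mem
    obtain ⟨j₀, hj₀⟩ := ih (ht.mono_finset h0 (Finset.subset_insert a t))
    by_contra hcon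
    push Not at hcon
    -- for each `j ≥ j₀` a dependence relation with coefficients in `S j`
    have hrel : ∀ j, j₀ ≤ j → ∃ γ : ι → K, (∀ i ∈ t, γ i ∈ S j) ∧ v a = ∑ i ∈ t, γ i * v i := by
      intro j hj
      have hnot := hcon j
      unfold LISon at hnot
      push Not at hnot
      obtain ⟨c, hc, hsum, i, hi, hci⟩ := hnot
      have hjt : LISon (S j : Set K) v t := hj₀.mono_set (hS hj)
      have hca : c a ≠ 0 := by
        intro hca
        rw [Finset.sum_insert ha, hca, zero_mul, zero_add] at hsum
        have hall := hjt c (fun i hi => hc i (Finset.mem_insert_of_mem hi)) hsum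
        rcases Finset.mem_insert.mp hi with rfl | hi'
        · exact hci hca
        · exact hci (hall i hi')
      refine ⟨fun i => -(c i / c a), fun i hi => ?_, ?_⟩
      · exact (S j).neg_mem ((S j).div_mem (hc i (Finset.mem_insert_of_mem hi))
          (hc a (Finset.mem_insert_self a t)))
      · rw [Finset.sum_insert ha] at hsum
        have h2 : v a = -(∑ i ∈ t, c i * v i) / c a := by
          field_simp
          linear_combination hsum
        rw [h2, neg_div, Finset.sum_div, ← Finset.sum_neg_distrib]
        refine Finset.sum_congr rfl fun i _ => ?_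
        ring
    obtain ⟨γ₀, hγ₀, hv₀⟩ := hrel j₀ le_rfl
    -- the coefficients are independent of `j`
    have hγ : ∀ i ∈ t, ∀ j, γ₀ i ∈ S j := by
      intro i hi j
      obtain ⟨j', hj'₀, hj'⟩ := directed_of (· ≤ ·) j₀ j
      obtain ⟨γ, hγmem, hv⟩ := hrel j' hj'₀
      have hdiff : ∀ i ∈ t, γ₀ i - γ i = 0 := by
        apply hj₀ (fun i => γ₀ i - γ i)
        · intro i hi
          exact (S j₀).sub_mem (hγ₀ i hi) (hS hj'₀ (hγmem i hi))
        · have : ∑ i ∈ t, (γ₀ i - γ i) * v i = ∑ i ∈ t, γ₀ i * v i - ∑ i ∈ t, γ i * v i := by
            rw [← Finset.sum_sub_distrib]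
            refine Finset.sum_congr rfl fun i _ => ?_
            ring
          rw [this, ← hv₀, ← hv, sub_self]
      have : γ₀ i = γ i := sub_eq_zero.mp (hdiff i hi)
      rw [this]
      exact hS hj' (hγmem i hi)
    -- contradiction with independence over `S₀`
    have hfin := ht (fun i => if i = a then 1 else -γ₀ i) (by
      intro i hi
      by_cases hia : i = a
      · simp only [hia, if_true]; exact h1
      · simp only [hia, if_false]
        have hit : i ∈ t := (Finset.mem_insert.mp hi).resolve_left hia
        exact hS₀ _ fun j => (S j).neg_mem (hγ i hit j)) (by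
      rw [Finset.sum_insert ha]
      simp only [if_true, one_mul]
      rw [hv₀, ← Finset.sum_add_distrib]
      refine Finset.sum_eq_zero fun i hi => ?_
      have hia : i ≠ a := fun h => ha (h ▸ hi)
      simp only [hia, if_false]
      ring) a (Finset.mem_insert_self a t)
    simp at hfin

end Groth.Agent.Lib.Helper13.DescendLI
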