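import Mathlib
import Groth.Agent.Lib.Helper13.SepDiff2
import Groth.Agent.Lib.Helper13.DescendLI

/-!
# `k(K^p)` as intermediate field, kernel of `d`, and decreasing families of subfields
-/

set_option autoImplicit false

namespace Groth.Agent.Lib.Helper13.Admissible

open Groth.Agent.Lib.Helper13.PBasis Groth.Agent.Lib.Helper13.DescendLI
open Groth.Agent.Lib.Helper13.SepDiff

universe u

section Mem

variable (p : ℕ) [hp : Fact p.Prime] {k₀ K : Type u} [Field k₀] [Field K] [Algebra k₀ K]

/-- `k₀(K^p)` -/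
abbrev E₀ : IntermediateField k₀ K := IntermediateField.adjoin k₀ (Set.range fun y : K => y ^ p)

theorem mem_E₀_iff (x : K) : x ∈ E₀ (k₀ := k₀) p ↔ x ∈ EGA41.pPowerSubalgebra p k₀ K := by
  have hfield : IsField (EGA41.pPowerSubalgebra p k₀ K) :=
    isField_of_pow_mem p _ fun y => Algebra.subset_adjoin ⟨y, rfl⟩
  constructor
  · intro hx
    have hle : E₀ (k₀ := k₀) p ≤ Subalgebra.toIntermediateField' _ hfield := by
      rw [IntermediateField.adjoin_le_iff]
      rintro _ ⟨y, rfl⟩
      exact Algebra.subset_adjoin ⟨y, rfl⟩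
    exact hle hx
  · intro hx
    have hle : EGA41.pPowerSubalgebra p k₀ K ≤ (E₀ (k₀ := k₀) p).toSubalgebra := by
      refine Algebra.adjoin_le ?_
      rintro _ ⟨y, rfl⟩
      exact IntermediateField.subset_adjoin k₀ _ ⟨y, rfl⟩
    exact hle hx

theorem mem_sup_E₀_iff (F : IntermediateField k₀ K) (x : K) :
    x ∈ F ⊔ E₀ (k₀ := k₀) p ↔ x ∈ EGA41.pPowerSubalgebra p F K := by
  have hfield : IsField ((EGA41.pPowerSubalgebra p F K).restrictScalars k₀) :=
    isField_of_pow_mem p (R := F) (EGA41.pPowerSubalgebra p F K)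
      fun y => Algebra.subset_adjoin ⟨y, rfl⟩
  constructor
  · intro hx
    have hle : F ⊔ E₀ (k₀ := k₀) p ≤ Subalgebra.toIntermediateField' _ hfield := by
      refine sup_le ?_ ?_
      · intro y hy
        exact (EGA41.pPowerSubalgebra p F K).algebraMap_mem ⟨y, hy⟩
      · rw [IntermediateField.adjoin_le_iff]
        rintro _ ⟨y, rfl⟩
        exact Algebra.subset_adjoin ⟨y, rfl⟩
    exact hle hx
  · intro hx
    let T : Subalgebra F K :=
      { (F ⊔ E₀ (k₀ := k₀) p).toSubalgebra.toSubsemiring with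
        algebraMap_mem' := fun y => (le_sup_left : F ≤ F ⊔ E₀ (k₀ := k₀) p) y.2 }
    have hle : EGA41.pPowerSubalgebra p F K ≤ T := by
      refine Algebra.adjoin_le ?_
      rintro _ ⟨y, rfl⟩
      exact (le_sup_right : E₀ (k₀ := k₀) p ≤ F ⊔ E₀ (k₀ := k₀) p)
        (IntermediateField.subset_adjoin k₀ _ ⟨y, rfl⟩)
    exact hle hx

end Mem

section KerD

variable (p : ℕ) [hp : Fact p.Prime] {k K : Type u} [Field k] [Field K] [Algebra k K] [CharP K p]

/-- `d x = 0` in `Ω[K⁄k]` iff `x ∈ k(K^p)` -/
theorem D_eq_zero_iff (x : K) :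
    KaehlerDifferential.D k K x = 0 ↔ x ∈ EGA41.pPowerSubalgebra p k K := by
  constructor
  · intro hx
    by_contra hnot
    have hemp : EGA41.IsPIndependent p k (Subtype.val : ↥(∅ : Set K) → K) :=
      Groth.Agent.S2468.pIndependent_of_isEmpty (k := k) p _
    have hs : x ∉ Algebra.adjoin (EGA41.pPowerSubalgebra p k K)
        (Set.range (Subtype.val : ↥(∅ : Set K) → K)) := by
      have : Set.range (Subtype.val : ↥(∅ : Set K) → K) = ∅ := by
        rw [Subtype.range_coe]
      rw [this, Algebra.adjoin_empty, Algebra.mem_bot]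
      rintro ⟨c, rfl⟩
      exact hnot c.2
    have hind := pIndependent_insert p hemp x hs
    have hli := (Groth.Agent.S2468.result p (k := k) (K := K)
      (Subtype.val : ↥(insert x (∅ : Set K)) → K)).1.mp hind
    exact hli.ne_zero ⟨x, Set.mem_insert x ∅⟩ hx
  · intro hx
    exact derivation_eq_zero_of_mem p (KaehlerDifferential.D k K) x hx

end KerD

section Fin

/-- reduced exponent vectors on a finite index type form a finite type -/
instance finite_redE (p : ℕ) (ι : Type*) [Finite ι] : Finite (RedE p ι) := by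
  refine Finite.of_injective (fun e : RedE p ι => fun i => (⟨e.1 i, e.2 i⟩ : Fin p)) ?_
  intro e e' h
  apply Subtype.ext
  ext i
  exact congrArg Fin.val (congrFun h i)

end Fin

end Groth.Agent.Lib.Helper13.Admissible
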