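import Mathlib
import Groth.Prelude.Def_EGA41

/-!
# Simple algebraic extensions: `Ω[L⁄K]` and the imperfection module have rank `≤ 1`
-/

set_option autoImplicit false

namespace Groth.Agent.Lib.Helper13.SimpleExt

open Polynomial

section General

/-- a module in which every element is a multiple of `v` is finite of rank `≤ 1` -/
theorem finite_and_finrank_le_one {L V : Type*} [Field L] [AddCommGroup V] [Module L V] (v : V)
    (h : ∀ w : V, ∃ c : L, c • v = w) : Module.Finite L V ∧ Module.finrank L V ≤ 1 := by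
  refine ⟨?_, finrank_le_one v h⟩
  refine Module.Finite.of_surjective (LinearMap.toSpanSingleton L V v) ?_
  intro w
  obtain ⟨c, hc⟩ := h w
  exact ⟨c, hc⟩

end General

variable {K L : Type*} [Field K] [Field L] [Algebra K L]

/-- `Ω[L⁄K]` is spanned by `dθ` if `L = K[θ]`. -/
theorem kaehler_finite_of_adjoin_eq_top (θ : L) (hθ : Algebra.adjoin K {θ} = ⊤) :
    Module.Finite L (Ω[L⁄K]) ∧ Module.finrank L (Ω[L⁄K]) ≤ 1 := by
  have hsurj : Function.Surjective (aeval θ : K[X] →ₐ[K] L) := by
    rw [← AlgHom.range_eq_top, ← Algebra.adjoin_singleton_eq_range_aeval, hθ]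
  apply finite_and_finrank_le_one (KaehlerDifferential.D K L θ)
  intro w
  have hw : w ∈ Submodule.span L (Set.range (KaehlerDifferential.D K L)) := by
    rw [KaehlerDifferential.span_range_derivation]; trivial
  have hle : Submodule.span L (Set.range (KaehlerDifferential.D K L)) ≤
      Submodule.span L {KaehlerDifferential.D K L θ} := by
    rw [Submodule.span_le]
    rintro _ ⟨x, rfl⟩
    obtain ⟨q, rfl⟩ := hsurj x
    rw [SetLike.mem_coe, Derivation.map_aeval]
    exact Submodule.smul_mem _ _ (Submodule.subset_span rfl)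
  exact Submodule.mem_span_singleton.mp (hle hw)

/-- `H¹(L_{L/K})` has rank `≤ 1` if `L = K[θ]`. -/
theorem h1Cotangent_finite_of_adjoin_eq_top (θ : L) (hθ : Algebra.adjoin K {θ} = ⊤) :
    Module.Finite L (Algebra.H1Cotangent K L) ∧ Module.finrank L (Algebra.H1Cotangent K L) ≤ 1 := by
  have hsurj : Function.Surjective (aeval θ : K[X] →ₐ[K] L) := by
    rw [← AlgHom.range_eq_top, ← Algebra.adjoin_singleton_eq_range_aeval, hθ]
  let P : Algebra.Extension K L := Algebra.Extension.ofSurjective (aeval θ : K[X] →ₐ[K] L) hsurj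
  haveI : Algebra.FormallySmooth K P.Ring := inferInstanceAs (Algebra.FormallySmooth K K[X])
  let e := P.equivH1CotangentOfFormallySmooth
  -- the kernel is principal
  haveI : IsPrincipalIdealRing P.Ring := inferInstanceAs (IsPrincipalIdealRing K[X])
  obtain ⟨g, hg⟩ := (IsPrincipalIdealRing.principal P.ker).principal
  have hgmem : g ∈ P.ker := by rw [hg]; exact Submodule.mem_span_singleton_self g
  have hcot : ∀ w : P.Cotangent, ∃ c : L, c • Algebra.Extension.Cotangent.mk ⟨g, hgmem⟩ = w := by
    intro w
    obtain ⟨y, rfl⟩ := Algebra.Extension.Cotangent.mk_surjective w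
    have hy : (y : P.Ring) ∈ Submodule.span P.Ring {g} := hg ▸ y.2
    obtain ⟨a, ha⟩ := Submodule.mem_span_singleton.mp hy
    refine ⟨algebraMap P.Ring L a, ?_⟩
    rw [algebraMap_smul, ← map_smul]
    congr 1
    exact Subtype.ext ha
  obtain ⟨hfin, hrk⟩ := finite_and_finrank_le_one _ hcot
  haveI := hfin
  have hfin1 : Module.Finite L P.H1Cotangent :=
    Module.Finite.of_injective P.h1Cotangentι P.h1Cotangentι_injective
  have hrk1 : Module.finrank L P.H1Cotangent ≤ 1 :=
    (LinearMap.finrank_le_finrank_of_injective P.h1Cotangentι_injective).trans hrk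
  haveI := hfin1
  exact ⟨Module.Finite.equiv e, by rw [← e.finrank_eq]; exact hrk1⟩

/-- the imperfection module `Υ_{L/K/A}` has rank `≤ 1` if `L = K[θ]`. -/
theorem imperfection_finite_of_adjoin_eq_top {A : Type*} [CommRing A] [Algebra A K] [Algebra A L]
    [IsScalarTower A K L] (θ : L) (hθ : Algebra.adjoin K {θ} = ⊤) :
    Module.Finite L (LinearMap.ker (KaehlerDifferential.mapBaseChange A K L)) ∧
      Module.finrank L (LinearMap.ker (KaehlerDifferential.mapBaseChange A K L)) ≤
        Module.finrank L (Algebra.H1Cotangent K L) := by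
  obtain ⟨hfin, -⟩ := h1Cotangent_finite_of_adjoin_eq_top θ hθ
  haveI := hfin
  have hker : LinearMap.ker (KaehlerDifferential.mapBaseChange A K L) =
      LinearMap.range (Algebra.H1Cotangent.δ A K L) :=
    (Algebra.H1Cotangent.exact_δ_mapBaseChange A K L).linearMap_ker_eq
  rw [hker]
  exact ⟨inferInstance, LinearMap.finrank_range_le _⟩

end Groth.Agent.Lib.Helper13.SimpleExt
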