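import Mathlib
import Groth.Agent.Lib.Helper13.Admissible
import Groth.Agent.Lib.Helper13.SimpleExt
import Groth.Agent.Lib.Helper13.SepDiff3

/-!
# Admissible subfields for extensions with finite imperfection module (EGA 0_IV 21.8.5)
-/

set_option autoImplicit false

namespace Groth.Agent.Lib.Helper13.Admissible

open TensorProduct

universe u

variable (p : ℕ) [hp : Fact p.Prime] {k₀ K : Type u} [Field k₀] [Field K] [Algebra k₀ K]
  {ι : Type u} [Preorder ι] [IsDirected ι (· ≤ ·)] [Nonempty ι]
  (k : ι → IntermediateField k₀ K) (hk : Antitone k)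

/-- the transition map `Ω[K⁄k j] → Ω[K⁄k i]` for `k j ≤ k i` -/
noncomputable def transition {F F' : IntermediateField k₀ K} (h : F' ≤ F) :
    Ω[K⁄F'] →ₗ[K] Ω[K⁄F] :=
  (({ toFun := fun x => KaehlerDifferential.D F K x
      map_add' := fun x y => map_add _ x y
      map_smul' := fun c x => by
        show KaehlerDifferential.D F K ((c : K) * x) = (c : K) • KaehlerDifferential.D F K x
        have h1 : (c : K) = algebraMap F K ⟨c, h c.2⟩ := rfl
        rw [Derivation.leibniz, h1, Derivation.map_algebraMap, smul_zero, add_zero]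
      map_one_eq_zero' := (KaehlerDifferential.D F K).map_one_eq_zero
      leibniz' := fun a b => (KaehlerDifferential.D F K).leibniz a b } :
    Derivation F' K (Ω[K⁄F]))).liftKaehlerDifferential

theorem transition_comp_map {F F' : IntermediateField k₀ K} (h : F' ≤ F) (ω : Ω[K⁄k₀]) :
    transition h (KaehlerDifferential.map k₀ F' K K ω) = KaehlerDifferential.map k₀ F K K ω := by
  have : (transition h).restrictScalars K ∘ₗ
      ((KaehlerDifferential.map k₀ F' K K).restrictScalars K) =
      (KaehlerDifferential.map k₀ F K K).restrictScalars K := by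
    refine LinearMap.ext_on (KaehlerDifferential.span_range_derivation k₀ K) ?_
    rintro _ ⟨a, rfl⟩
    show transition h (KaehlerDifferential.map k₀ F' K K (KaehlerDifferential.D k₀ K a)) =
      KaehlerDifferential.map k₀ F K K (KaehlerDifferential.D k₀ K a)
    rw [KaehlerDifferential.map_D, KaehlerDifferential.map_D]
    exact Derivation.liftKaehlerDifferential_comp_D _ a
  exact LinearMap.congr_fun this ω

variable {k} in
include hk in
/-- **(a) ⇒ (b)** of EGA 0_IV 21.8.5. -/
theorem exists_admissible
    (hsep : ∀ ω : Ω[K⁄k₀], (∀ i, KaehlerDifferential.map k₀ (k i) K K ω = 0) → ω = 0)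
    (L : Type u) [Field L] [Algebra K L] [Algebra k₀ L] [IsScalarTower k₀ K L]
    (hfin : Module.Finite L (EGA41.imperfection k₀ K L)) :
    ∃ i, ∀ ω ∈ EGA41.imperfection k₀ K L,
      ((KaehlerDifferential.map k₀ (k i) K K).restrictScalars K).baseChange L ω = 0 → ω = 0 := by
  classical
  let β : ∀ i, L ⊗[K] Ω[K⁄k₀] →ₗ[L] L ⊗[K] Ω[K⁄k i] := fun i =>
    ((KaehlerDifferential.map k₀ (k i) K K).restrictScalars K).baseChange L
  let U : ι → Submodule L (L ⊗[K] Ω[K⁄k₀]) := fun i =>
    EGA41.imperfection k₀ K L ⊓ LinearMap.ker (β i)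
  -- monotonicity
  have hker : ∀ i j, i ≤ j → LinearMap.ker (β j) ≤ LinearMap.ker (β i) := by
    intro i j hij z hz
    rw [LinearMap.mem_ker] at hz ⊢
    have hcomp : ∀ z, β i z = ((transition (hk hij)).baseChange L) (β j z) := by
      intro z
      induction z using TensorProduct.induction_on with
      | zero => simp
      | tmul c ω =>
        show ((KaehlerDifferential.map k₀ (k i) K K).restrictScalars K).baseChange L (c ⊗ₜ ω) =
          (transition (hk hij)).baseChange L
            (((KaehlerDifferential.map k₀ (k j) K K).restrictScalars K).baseChange L (c ⊗ₜ ω))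
        rw [LinearMap.baseChange_tmul, LinearMap.baseChange_tmul, LinearMap.baseChange_tmul,
          LinearMap.restrictScalars_apply, LinearMap.restrictScalars_apply, transition_comp_map]
      | add y z hy hz => rw [map_add, map_add, map_add, hy, hz]
    rw [hcomp, hz, map_zero]
  have hU : ∀ i j, i ≤ j → U j ≤ U i := fun i j hij => inf_le_inf_left _ (hker i j hij)
  -- the intersection of the kernels is zero
  have hnat : ∀ (bL : Module.Basis (Module.Free.ChooseBasisIndex K L) K L) (i : ι)
      (a : Module.Free.ChooseBasisIndex K L) (z : L ⊗[K] Ω[K⁄k₀]),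
      TensorProduct.equivFinsuppOfBasisLeft bL (β i z) a =
        KaehlerDifferential.map k₀ (k i) K K (TensorProduct.equivFinsuppOfBasisLeft bL z a) := by
    intro bL i a z
    induction z using TensorProduct.induction_on with
    | zero => simp
    | tmul c ω =>
      show TensorProduct.equivFinsuppOfBasisLeft bL
        (((KaehlerDifferential.map k₀ (k i) K K).restrictScalars K).baseChange L (c ⊗ₜ ω)) a = _
      rw [LinearMap.baseChange_tmul, TensorProduct.equivFinsuppOfBasisLeft_apply_tmul_apply,
        TensorProduct.equivFinsuppOfBasisLeft_apply_tmul_apply, LinearMap.restrictScalars_apply,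
        map_smul]
    | add y z hy hz =>
      simp only [map_add, Finsupp.add_apply, hy, hz]
  have hinter : ∀ z : L ⊗[K] Ω[K⁄k₀], (∀ i, β i z = 0) → z = 0 := by
    intro z hz
    let bL := Module.Free.chooseBasis K L
    have hcoord : ∀ a, TensorProduct.equivFinsuppOfBasisLeft bL z a = 0 := by
      intro a
      apply hsep
      intro i
      rw [← hnat bL i a z, hz i, map_zero, Finsupp.zero_apply]
    have : TensorProduct.equivFinsuppOfBasisLeft bL z = 0 := Finsupp.ext hcoord
    exact (TensorProduct.equivFinsuppOfBasisLeft bL).map_eq_zero_iff.mp this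
  -- choose `i` with `U i` of minimal dimension
  haveI := hfin
  have hex : ∃ n, ∃ i, Module.finrank L (U i) = n := ⟨_, Classical.arbitrary ι, rfl⟩
  obtain ⟨i, hi⟩ := Nat.find_spec hex
  have hmin : ∀ j, Module.finrank L (U i) ≤ Module.finrank L (U j) := by
    intro j
    rw [hi]
    exact Nat.find_min' hex ⟨j, rfl⟩
  have hUi : ∀ j, U i ≤ U j := by
    intro j
    obtain ⟨j', hij', hjj'⟩ := directed_of (· ≤ ·) i j
    haveI : FiniteDimensional L (EGA41.imperfection k₀ K L) := hfin
    haveI : FiniteDimensional L (U i) :=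
      Submodule.finiteDimensional_of_le (inf_le_left : U i ≤ EGA41.imperfection k₀ K L)
    have heq : U j' = U i :=
      Submodule.eq_of_le_of_finrank_le (hU i j' hij') (hmin j')
    rw [← heq]
    exact hU j j' hjj'
  refine ⟨i, fun ω hω hβ => ?_⟩
  have hωU : ω ∈ U i := ⟨hω, hβ⟩
  exact hinter ω fun j => (hUi j hωU).2

end Groth.Agent.Lib.Helper13.Admissible
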