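import Mathlib
import Groth.Agent.Lib.Helper13.Admissible2
import Groth.Agent.S3435

/-!
# Descent of `⋂ k_α(K^p) = k₀(K^p)` to extensions with finite imperfection module (EGA 0_IV 21.8.6)
-/

set_option autoImplicit false

namespace Groth.Agent.Lib.Helper13.Admissible

open TensorProduct

universe u

section Compare

variable {k₀ L : Type u} [Field k₀] [Field L] [Algebra k₀ L]
  (R : Type u) [CommRing R] [Algebra R L]

/-- comparison `Ω[L⁄F'] → Ω[L⁄R]` when every element of `F'` comes from `R` -/
noncomputable def compare (F' : IntermediateField k₀ L)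
    (h : ∀ c ∈ F', ∃ r : R, algebraMap R L r = c) :
    Ω[L⁄F'] →ₗ[L] Ω[L⁄R] :=
  (({ toFun := fun x => KaehlerDifferential.D R L x
      map_add' := fun x y => map_add _ x y
      map_smul' := fun c x => by
        show KaehlerDifferential.D R L ((c : L) * x) = (c : L) • KaehlerDifferential.D R L x
        obtain ⟨r, hr⟩ := h c c.2
        rw [Derivation.leibniz, ← hr, Derivation.map_algebraMap, smul_zero, add_zero]
      map_one_eq_zero' := (KaehlerDifferential.D R L).map_one_eq_zero
      leibniz' := fun a b => (KaehlerDifferential.D R L).leibniz a b } :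
    Derivation F' L (Ω[L⁄R]))).liftKaehlerDifferential

variable [Algebra k₀ R] [IsScalarTower k₀ R L]

theorem compare_comp_map (F' : IntermediateField k₀ L)
    (h : ∀ c ∈ F', ∃ r : R, algebraMap R L r = c) (ω : Ω[L⁄k₀]) :
    compare R F' h (KaehlerDifferential.map k₀ F' L L ω) = KaehlerDifferential.map k₀ R L L ω := by
  have : (compare R F' h).restrictScalars L ∘ₗ
      ((KaehlerDifferential.map k₀ F' L L).restrictScalars L) =
      (KaehlerDifferential.map k₀ R L L).restrictScalars L := by
    refine LinearMap.ext_on (KaehlerDifferential.span_range_derivation k₀ L) ?_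
    rintro _ ⟨a, rfl⟩
    show compare R F' h (KaehlerDifferential.map k₀ F' L L (KaehlerDifferential.D k₀ L a)) =
      KaehlerDifferential.map k₀ R L L (KaehlerDifferential.D k₀ L a)
    rw [KaehlerDifferential.map_D, KaehlerDifferential.map_D]
    exact Derivation.liftKaehlerDifferential_comp_D _ a
  exact LinearMap.congr_fun this ω

end Compare

section Tower

variable {k₀ L : Type u} [Field k₀] [Field L] [Algebra k₀ L]
  (R S : Type u) [CommRing R] [CommRing S] [Algebra R L] [Algebra S L] [Algebra R S]
  [Algebra k₀ R] [Algebra k₀ S] [IsScalarTower k₀ R L] [IsScalarTower k₀ S L] [IsScalarTower R S L]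

theorem map_map_tower (ω : Ω[L⁄k₀]) :
    KaehlerDifferential.map R S L L (KaehlerDifferential.map k₀ R L L ω) =
      KaehlerDifferential.map k₀ S L L ω := by
  have : (KaehlerDifferential.map R S L L).restrictScalars L ∘ₗ
      ((KaehlerDifferential.map k₀ R L L).restrictScalars L) =
      (KaehlerDifferential.map k₀ S L L).restrictScalars L := by
    refine LinearMap.ext_on (KaehlerDifferential.span_range_derivation k₀ L) ?_
    rintro _ ⟨a, rfl⟩
    show KaehlerDifferential.map R S L L (KaehlerDifferential.map k₀ R L L
      (KaehlerDifferential.D k₀ L a)) = KaehlerDifferential.map k₀ S L L (KaehlerDifferential.D k₀ L a)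
    rw [KaehlerDifferential.map_D, KaehlerDifferential.map_D, KaehlerDifferential.map_D]
    rfl
  exact LinearMap.congr_fun this ω

end Tower

section Family

variable {k₀ K : Type u} [Field k₀] [Field K] [Algebra k₀ K]
  {ι : Type u} [Preorder ι] [IsDirected ι (· ≤ ·)] [Nonempty ι]
  {k : ι → IntermediateField k₀ K} (hk : Antitone k)
  (L : Type u) [Field L] [Algebra K L] [Algebra k₀ L] [IsScalarTower k₀ K L]

include hk in
theorem baseChange_map_eq_of_le {i j : ι} (hij : i ≤ j) (z z' : L ⊗[K] Ω[K⁄k₀])
    (h : ((KaehlerDifferential.map k₀ (k j) K K).restrictScalars K).baseChange L z =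
      ((KaehlerDifferential.map k₀ (k j) K K).restrictScalars K).baseChange L z') :
    ((KaehlerDifferential.map k₀ (k i) K K).restrictScalars K).baseChange L z =
      ((KaehlerDifferential.map k₀ (k i) K K).restrictScalars K).baseChange L z' := by
  have hcomp : ∀ z, ((KaehlerDifferential.map k₀ (k i) K K).restrictScalars K).baseChange L z =
      ((transition (hk hij)).baseChange L)
        (((KaehlerDifferential.map k₀ (k j) K K).restrictScalars K).baseChange L z) := by
    intro z
    induction z using TensorProduct.induction_on with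
    | zero => simp
    | tmul c ω =>
      rw [LinearMap.baseChange_tmul, LinearMap.baseChange_tmul, LinearMap.baseChange_tmul,
        LinearMap.restrictScalars_apply, LinearMap.restrictScalars_apply, transition_comp_map]
    | add y z hy hz => rw [map_add, map_add, map_add, hy, hz]
  rw [hcomp z, hcomp z', h]

theorem eq_zero_of_forall_baseChange_map_eq_zero
    (hsep : ∀ ω : Ω[K⁄k₀], (∀ i, KaehlerDifferential.map k₀ (k i) K K ω = 0) → ω = 0)
    (z : L ⊗[K] Ω[K⁄k₀])
    (hz : ∀ i, ((KaehlerDifferential.map k₀ (k i) K K).restrictScalars K).baseChange L z = 0) :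
    z = 0 := by
  classical
  have hnat : ∀ (bL : Module.Basis (Module.Free.ChooseBasisIndex K L) K L) (i : ι)
      (a : Module.Free.ChooseBasisIndex K L) (z : L ⊗[K] Ω[K⁄k₀]),
      TensorProduct.equivFinsuppOfBasisLeft bL
        (((KaehlerDifferential.map k₀ (k i) K K).restrictScalars K).baseChange L z) a =
        KaehlerDifferential.map k₀ (k i) K K (TensorProduct.equivFinsuppOfBasisLeft bL z a) := by
    intro bL i a z
    induction z using TensorProduct.induction_on with
    | zero => simp
    | tmul c ω =>
      rw [LinearMap.baseChange_tmul, TensorProduct.equivFinsuppOfBasisLeft_apply_tmul_apply,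
        TensorProduct.equivFinsuppOfBasisLeft_apply_tmul_apply, LinearMap.restrictScalars_apply,
        map_smul]
    | add y z hy hz =>
      simp only [map_add, Finsupp.add_apply, hy, hz]
  let bL := Module.Free.chooseBasis K L
  have hcoord : ∀ a, TensorProduct.equivFinsuppOfBasisLeft bL z a = 0 := by
    intro a
    apply hsep
    intro i
    rw [← hnat bL i a z, hz i, map_zero, Finsupp.zero_apply]
  have : TensorProduct.equivFinsuppOfBasisLeft bL z = 0 := Finsupp.ext hcoord
  exact (TensorProduct.equivFinsuppOfBasisLeft bL).map_eq_zero_iff.mp this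

include hk in
/-- EGA 0_IV 21.8.6, differential form: if `Ω[K⁄k₀] → lim Ω[K⁄k_α]` is injective and
`Υ_{L/K/k₀}` has finite rank, an `ω ∈ Ω[L⁄k₀]` dying in every `Ω[L⁄k_α]` is zero. -/
theorem eq_zero_of_forall_map_eq_zero
    (hsep : ∀ ω : Ω[K⁄k₀], (∀ i, KaehlerDifferential.map k₀ (k i) K K ω = 0) → ω = 0)
    (hadm : ∃ i, ∀ ω ∈ EGA41.imperfection k₀ K L,
      ((KaehlerDifferential.map k₀ (k i) K K).restrictScalars K).baseChange L ω = 0 → ω = 0)
    (ω : Ω[L⁄k₀]) (hω : ∀ i, KaehlerDifferential.map k₀ (k i) L L ω = 0) : ω = 0 := by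
  classical
  obtain ⟨i₀, hi₀⟩ := hadm
  -- Step B
  have hK : KaehlerDifferential.map k₀ K L L ω = 0 := by
    rw [← map_map_tower (k i₀) K ω, hω i₀, map_zero]
  -- Step C
  obtain ⟨z, rfl⟩ := (KaehlerDifferential.exact_mapBaseChange_map k₀ K L ω).mp hK
  -- Step D
  have hD : ∀ i, ∃ η ∈ EGA41.imperfection k₀ K L,
      ((KaehlerDifferential.map k₀ (k i) K K).restrictScalars K).baseChange L η =
        ((KaehlerDifferential.map k₀ (k i) K K).restrictScalars K).baseChange L z := by
    intro i
    have hmem : (KaehlerDifferential.map k₀ (k i) K K).baseChange L z ∈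
        EGA41.imperfection (k i) K L := by
      show KaehlerDifferential.mapBaseChange (k i) K L
        ((KaehlerDifferential.map k₀ (k i) K K).baseChange L z) = 0
      rw [← Groth.Agent.S3435.aux_square k₀ (k i) K L z]
      exact hω i
    exact Groth.Agent.S3435.result k₀ (k i) K L _ hmem
  choose η hηmem hη using hD
  -- Step E
  have hE : ∀ j, ((KaehlerDifferential.map k₀ (k j) K K).restrictScalars K).baseChange L (η i₀) =
      ((KaehlerDifferential.map k₀ (k j) K K).restrictScalars K).baseChange L z := by
    intro j
    obtain ⟨j', hjj', hij'⟩ := directed_of (· ≤ ·) j i₀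
    have h1 : η j' = η i₀ := by
      have h2 := baseChange_map_eq_of_le hk L hij' (η j') z (hη j')
      have h3 : ((KaehlerDifferential.map k₀ (k i₀) K K).restrictScalars K).baseChange L
          (η j' - η i₀) = 0 := by
        rw [map_sub, h2, hη i₀, sub_self]
      exact sub_eq_zero.mp (hi₀ _ (Submodule.sub_mem _ (hηmem j') (hηmem i₀)) h3)
    have h4 := hη j'
    rw [h1] at h4
    exact baseChange_map_eq_of_le hk L hjj' (η i₀) z h4
  -- Step F
  have hF : z - η i₀ = 0 := by
    apply eq_zero_of_forall_baseChange_map_eq_zero L hsep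
    intro j
    rw [map_sub, hE j, sub_self]
  -- Step G
  have hz : z = η i₀ := sub_eq_zero.mp hF
  rw [hz]
  exact hηmem i₀

end Family

end Groth.Agent.Lib.Helper13.Admissible
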