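import Mathlib
import Groth.Agent.Lib.Helper13.Admissible2
import Groth.Agent.Lib.Helper13.SepDiff2

/-!
# Existence of admissible subfields of finite codegree (EGA 0_IV 21.8.5/21.8.6 input) (helper13)

For a `p`-basis `B` of `K` over `k₀` and a finite `F ⊆ B`, put
`kF F = k₀(K^p)(x_b : b ∉ F)`.  Then `[K : kF F] < ∞`, the family is decreasing and
`Ω[K⁄k₀] → ∏_F Ω[K⁄kF F]` is injective.
-/

set_option autoImplicit false

namespace Groth.Agent.Lib.Helper13.Admissible

open TensorProduct Groth.Agent.Lib.Helper13.PBasis Groth.Agent.Lib.Helper13.SepDiff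

universe u

variable (p : ℕ) [hp : Fact p.Prime] {k₀ K : Type u} [Field k₀] [Field K] [Algebra k₀ K]
  (B : Set K)

/-- `k₀(K^p)(x_b : b ∉ F)` -/
def kF (F : Finset B) : IntermediateField k₀ K :=
  IntermediateField.adjoin k₀
    (Set.range (fun y : K => y ^ p) ∪ {x | ∃ b : B, b ∉ F ∧ (b : K) = x})

theorem kF_antitone : Antitone (kF (k₀ := k₀) p B) := by
  intro F F' h
  apply IntermediateField.adjoin.mono
  apply Set.union_subset_union_right
  rintro x ⟨b, hb, rfl⟩
  exact ⟨b, fun hb' => hb (h hb'), rfl⟩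

theorem pow_mem_kF (F : Finset B) (y : K) : y ^ p ∈ kF (k₀ := k₀) p B F :=
  IntermediateField.subset_adjoin _ _ (Or.inl ⟨y, rfl⟩)

theorem mem_kF_of_notMem (F : Finset B) (b : B) (hb : b ∉ F) : (b : K) ∈ kF (k₀ := k₀) p B F :=
  IntermediateField.subset_adjoin _ _ (Or.inr ⟨b, hb, rfl⟩)

theorem pPowerSubalgebra_le_kF (F : Finset B) :
    EGA41.pPowerSubalgebra p k₀ K ≤ (kF (k₀ := k₀) p B F).toSubalgebra := by
  unfold EGA41.pPowerSubalgebra
  rw [Algebra.adjoin_le_iff]
  rintro _ ⟨y, rfl⟩
  exact pow_mem_kF p B F y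

variable {B} in
theorem finite_kF (hB : EGA41.IsPBasis p k₀ (Subtype.val : B → K)) (F : Finset B) :
    Module.Finite (kF (k₀ := k₀) p B F) K := by
  classical
  set S : Set K := (fun b : B => (b : K)) '' (F : Set B) with hS
  haveI : Finite S := (F.finite_toSet.image _).to_subtype
  have hint : ∀ x ∈ S, IsIntegral (kF (k₀ := k₀) p B F) x := by
    rintro _ ⟨b, -, rfl⟩
    apply IsIntegral.of_pow hp.out.pos
    exact (isIntegral_algebraMap (x := (⟨(b : K) ^ p, pow_mem_kF p B F _⟩ : kF (k₀ := k₀) p B F)))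
  haveI : FiniteDimensional (kF (k₀ := k₀) p B F)
      (IntermediateField.adjoin (kF (k₀ := k₀) p B F) S) :=
    IntermediateField.finiteDimensional_adjoin hint
  have htop : IntermediateField.adjoin (kF (k₀ := k₀) p B F) S = ⊤ := by
    rw [eq_top_iff]
    intro x hxtop
    clear hxtop
    have hx : x ∈ Algebra.adjoin (EGA41.pPowerSubalgebra p k₀ K)
        (Set.range (Subtype.val : B → K)) := by
      rw [(adjoin_eq_top_iff_pGenerating p _).mpr hB.2]
      trivial
    induction hx using Algebra.adjoin_induction with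
    | mem y hy =>
      obtain ⟨b, rfl⟩ := hy
      by_cases hb : b ∈ F
      · exact IntermediateField.subset_adjoin _ _ ⟨b, hb, rfl⟩
      · exact (IntermediateField.algebraMap_mem _
          (⟨(b : K), mem_kF_of_notMem p B F b hb⟩ : kF (k₀ := k₀) p B F))
    | algebraMap c =>
      exact (IntermediateField.algebraMap_mem _
        (⟨(c : K), pPowerSubalgebra_le_kF p B F c.2⟩ : kF (k₀ := k₀) p B F))
    | add y z _ _ hy hz => exact add_mem hy hz
    | mul y z _ _ hy hz => exact mul_mem hy hz
  rw [htop] at this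
  exact Module.Finite.equiv (IntermediateField.topEquiv (F := kF (k₀ := k₀) p B F) (E := K)).toLinearEquiv

variable [CharP K p]

variable {B} in
/-- the coordinate derivation `D_λ` kills `kF F` when `λ ∈ F` -/
theorem coordDer_eq_zero_of_mem_kF (bΩ : Module.Basis B K (Ω[K⁄k₀]))
    (hbΩ : ∀ b, bΩ b = KaehlerDifferential.D k₀ K (b : K)) (F : Finset B) (l : B) (hl : l ∈ F)
    (x : K) (hx : x ∈ kF (k₀ := k₀) p B F) :
    (bΩ.coord l).compDer (KaehlerDifferential.D k₀ K) x = 0 := by
  classical
  unfold kF at hx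
  induction hx using IntermediateField.adjoin_induction with
  | mem y hy =>
    rcases hy with ⟨z, rfl⟩ | ⟨b, hb, rfl⟩
    · rw [Derivation.leibniz_pow]
      have : ((p : ℕ) : K) = 0 := CharP.cast_eq_zero K p
      rw [← Nat.cast_smul_eq_nsmul K, this, zero_smul]
    · show bΩ.coord l (KaehlerDifferential.D k₀ K (b : K)) = 0
      rw [← hbΩ, Module.Basis.coord_apply, Module.Basis.repr_self, Finsupp.single_apply,
        if_neg]
      rintro rfl
      exact hb hl
  | algebraMap r => exact Derivation.map_algebraMap _ r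
  | add y z _ _ hy hz => rw [map_add, hy, hz, add_zero]
  | inv y _ hy => rw [Derivation.leibniz_inv, hy, smul_zero]
  | mul y z _ _ hy hz => rw [Derivation.leibniz, hy, hz, smul_zero, smul_zero, add_zero]

variable {B} in
theorem kF_separating (hB : EGA41.IsPBasis p k₀ (Subtype.val : B → K)) :
    ∀ ω : Ω[K⁄k₀], (∀ F : Finset B,
      KaehlerDifferential.map k₀ (kF (k₀ := k₀) p B F) K K ω = 0) → ω = 0 := by
  classical
  intro ω hω
  obtain ⟨bΩ, hbΩ⟩ := Groth.Agent.S2466.result p (Subtype.val : B → K) hB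
  apply bΩ.repr.map_eq_zero_iff.mp
  ext l
  rw [Finsupp.zero_apply]
  -- the derivation over `kF {l}`
  set F : Finset B := {l} with hF
  have hl : l ∈ F := Finset.mem_singleton_self l
  let D0 : Derivation k₀ K K := (bΩ.coord l).compDer (KaehlerDifferential.D k₀ K)
  let D' : Derivation (kF (k₀ := k₀) p B F) K K :=
    { toFun := fun x => D0 x
      map_add' := fun x y => map_add _ x y
      map_smul' := fun c x => by
        show D0 ((c : K) * x) = (c : K) • D0 x
        rw [Derivation.leibniz, coordDer_eq_zero_of_mem_kF p bΩ hbΩ F l hl (c : K) c.2,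
          smul_zero, add_zero]
      map_one_eq_zero' := D0.map_one_eq_zero
      leibniz' := fun a b => D0.leibniz a b }
  let φ : Ω[K⁄kF (k₀ := k₀) p B F] →ₗ[K] K := D'.liftKaehlerDifferential
  have hφ : φ ∘ₗ ((KaehlerDifferential.map k₀ (kF (k₀ := k₀) p B F) K K).restrictScalars K) =
      bΩ.coord l := by
    refine LinearMap.ext_on (KaehlerDifferential.span_range_derivation k₀ K) ?_
    rintro _ ⟨a, rfl⟩
    show φ (KaehlerDifferential.map k₀ (kF (k₀ := k₀) p B F) K K (KaehlerDifferential.D k₀ K a)) =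
      bΩ.coord l (KaehlerDifferential.D k₀ K a)
    rw [KaehlerDifferential.map_D]
    exact Derivation.liftKaehlerDifferential_comp_D D' a
  have h1 := LinearMap.congr_fun hφ ω
  simp only [LinearMap.coe_comp, Function.comp_apply, LinearMap.restrictScalars_apply] at h1
  rw [hω F, map_zero] at h1
  rw [← Module.Basis.coord_apply]
  exact h1.symm

end Groth.Agent.Lib.Helper13.Admissible
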