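import Mathlib
import Groth.Agent.S9562
import Groth.Agent.S9407
import Groth.Agent.Lib.Helper49.ComplFlat

set_option autoImplicit false
universe u
open IsLocalRing

namespace Groth.Agent.Lib.Helper13.AnRedEtale

/-- Flatness of an algebra localized at a prime at which it is etale. -/
theorem flat_of_isEtaleAt (A C : Type u) [CommRing A] [CommRing C] [Algebra A C]
    [Algebra.FinitePresentation A C] (q : Ideal C) [q.IsPrime] [Algebra.IsEtaleAt A q] :
    Module.Flat A (Localization.AtPrime q) := by
  obtain ⟨f, hf, hEt⟩ := Algebra.exists_etale_of_isEtaleAt (R := A) q
  -- the prime q' of C_f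
  have hdisj : Disjoint (Submonoid.powers f : Set C) (q : Set C) := by
    rw [Set.disjoint_left]
    rintro x ⟨n, rfl⟩ hx
    exact hf (Ideal.IsPrime.mem_of_pow_mem inferInstance n hx)
  let q' : Ideal (Localization.Away f) := q.map (algebraMap C (Localization.Away f))
  haveI hq' : q'.IsPrime :=
    IsLocalization.isPrime_of_isPrime_disjoint (Submonoid.powers f) _ q inferInstance hdisj
  have hcomap : q'.comap (algebraMap C (Localization.Away f)) = q :=
    IsLocalization.under_map_of_isPrime_disjoint (Submonoid.powers f) _ inferInstance hdisj
  haveI : Module.Flat A (Localization.Away f) := inferInstance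
  haveI : Module.Flat A (Localization.AtPrime q') :=
    Module.Flat.trans A (Localization.Away f) (Localization.AtPrime q')
  have key : ∀ (q₁ : Ideal C) [q₁.IsPrime], q₁ = q'.comap (algebraMap C (Localization.Away f)) →
      Module.Flat A (Localization.AtPrime q₁) := by
    intro q₁ _ h
    subst h
    let e := IsLocalization.localizationLocalizationAtPrimeIsoLocalization (Submonoid.powers f) q'
    exact Module.Flat.of_linearEquiv (e.restrictScalars A).toLinearEquiv
  exact key q hcomap.symm

open Groth.Agent.Lib.Helper49.ComplFlat in
/-- Analytically reduced ascends along etale local homomorphisms. -/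
theorem main (A C : Type u) [CommRing A] [IsLocalRing A]
    [IsNoetherianRing A] [CommRing C] [Algebra A C] [Algebra.FiniteType A C] (q : Ideal C) [q.IsPrime]
    (hq : Ideal.comap (algebraMap A C) q = IsLocalRing.maximalIdeal A) (hC : Algebra.IsEtaleAt A q)
    (hA : IsReduced (AdicCompletion (IsLocalRing.maximalIdeal A) A)) :
    IsReduced (AdicCompletion (IsLocalRing.maximalIdeal (Localization.AtPrime q)) (Localization.AtPrime q)) ∧
      IsReduced (Localization.AtPrime q) := by
  haveI : IsNoetherianRing C := Algebra.FiniteType.isNoetherianRing A C
  haveI : Algebra.FinitePresentation A C := Algebra.FinitePresentation.of_finiteType.mp inferInstance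
  haveI : IsNoetherianRing (Localization.AtPrime q) := IsLocalization.isNoetherianRing q.primeCompl _ inferInstance
  haveI : Algebra.EssFiniteType C (Localization.AtPrime q) :=
    Algebra.EssFiniteType.of_isLocalization _ q.primeCompl
  haveI : Algebra.EssFiniteType A (Localization.AtPrime q) :=
    Algebra.EssFiniteType.comp A C (Localization.AtPrime q)
  haveI hloc : IsLocalHom (algebraMap A (Localization.AtPrime q)) := by
    constructor
    intro a ha
    rw [IsScalarTower.algebraMap_apply A C (Localization.AtPrime q)] at ha
    have h1 : algebraMap A C a ∉ q := by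
      intro hmem
      have := (IsLocalization.AtPrime.isUnit_to_map_iff (Localization.AtPrime q) q _).mp ha
      exact this hmem
    have h2 : a ∉ maximalIdeal A := by
      rw [← hq]; exact h1
    simpa [mem_maximalIdeal, mem_nonunits_iff] using h2
  haveI hflat : Module.Flat A (Localization.AtPrime q) := flat_of_isEtaleAt A C q
  haveI : Algebra.FormallyUnramified A (Localization.AtPrime q) := inferInstance
  have hm := Algebra.FormallyUnramified.map_maximalIdeal (R := A) (S := Localization.AtPrime q)
  have hfin : Module.Finite (ResidueField A) (ResidueField (Localization.AtPrime q)) := inferInstance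
  have hsep : Algebra.IsSeparable (ResidueField A) (ResidueField (Localization.AtPrime q)) := inferInstance
  let ψ := complMap (maximalIdeal A) (maximalIdeal (Localization.AtPrime q))
    (algebraMap A (Localization.AtPrime q)) (map_maximalIdeal_le A (Localization.AtPrime q))
  have hψ : ψ.comp (algebraMap A (AdicCompletion (maximalIdeal A) A)) =
      (algebraMap (Localization.AtPrime q) (AdicCompletion (maximalIdeal (Localization.AtPrime q))
        (Localization.AtPrime q))).comp (algebraMap A (Localization.AtPrime q)) := by
    refine RingHom.ext fun a => ?_
    exact complMap_of (maximalIdeal A) (maximalIdeal (Localization.AtPrime q))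
      (algebraMap A (Localization.AtPrime q)) (map_maximalIdeal_le A (Localization.AtPrime q)) a
  have hEt : ψ.Etale := ((Groth.Agent.S9562.result A (Localization.AtPrime q) ψ hψ).1).1
    ⟨hflat, hm, hfin, hsep⟩
  have hred : IsReduced (AdicCompletion (maximalIdeal (Localization.AtPrime q)) (Localization.AtPrime q)) := by
    letI := ψ.toAlgebra
    haveI : Algebra.Etale (AdicCompletion (maximalIdeal A) A)
        (AdicCompletion (maximalIdeal (Localization.AtPrime q)) (Localization.AtPrime q)) := hEt
    exact Groth.Agent.S9407.result (AdicCompletion (maximalIdeal A) A) _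
  refine ⟨hred, ?_⟩
  have hinj : Function.Injective (algebraMap (Localization.AtPrime q)
      (AdicCompletion (maximalIdeal (Localization.AtPrime q)) (Localization.AtPrime q))) := by
    haveI : IsHausdorff (maximalIdeal (Localization.AtPrime q)) (Localization.AtPrime q) :=
      IsHausdorff.of_isLocalRing _ _ (Ideal.IsPrime.ne_top inferInstance)
    exact AdicCompletion.of_injective (maximalIdeal (Localization.AtPrime q)) (Localization.AtPrime q)
  exact isReduced_of_injective _ hinj

end Groth.Agent.Lib.Helper13.AnRedEtale
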