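import Mathlib
import Groth.Agent.Lib.Helper13.CohenEq
import Groth.Agent.Lib.Helper76.PSNilp

/-!
# `B = A[T_1..T_r]/(T_i^p - f_i)` over an Artinian local ring `A` of characteristic `p`
-/

set_option autoImplicit false

namespace Groth.Agent.Lib.Helper13.ArtinPoly

open IsLocalRing MvPolynomial

universe u

section Coeff

variable {R : Type u} [CommRing R] [IsLocalRing R] [IsArtinianRing R]

theorem isNilpotent_maximalIdeal : IsNilpotent (maximalIdeal R) := by
  have h := IsArtinianRing.isNilpotent_jacobson_bot (R := R)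
  rwa [IsLocalRing.jacobson_eq_maximalIdeal ⊥ bot_ne_top] at h

theorem isNilpotent_of_mem_maximalIdeal {a : R} (ha : a ∈ maximalIdeal R) : IsNilpotent a := by
  obtain ⟨n, hn⟩ := isNilpotent_maximalIdeal (R := R)
  refine ⟨n, ?_⟩
  have : a ^ n ∈ maximalIdeal R ^ n := Ideal.pow_mem_pow ha n
  rw [hn] at this
  exact this

instance isAdicComplete_maximalIdeal : IsAdicComplete (maximalIdeal R) R := by
  obtain ⟨n, hn⟩ := isNilpotent_maximalIdeal (R := R)
  exact Groth.Agent.Lib.Helper76.PSComplete.isAdicComplete_of_pow_eq_bot hn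

/-- Artinian local rings of characteristic `p` have a coefficient field -/
theorem exists_section (p : ℕ) [Fact p.Prime] (hp : (p : R) = 0) :
    ∃ σ : ResidueField R →+* R, ∀ x : ResidueField R, residue R (σ x) = x := by
  haveI : CharP (ResidueField R) p := by
    rw [CharP.charP_iff_prime_eq_zero Fact.out]
    have : residue R (p : R) = 0 := by rw [hp, map_zero]
    rwa [map_natCast] at this
  exact Groth.Agent.Lib.Helper13.CohenEq.exists_section_of_natCast_eq_zero p hp

end Coeff

section Quot

variable {A : Type u} [CommRing A] [IsArtinianRing A] [IsLocalRing A] (p : ℕ) [hp : Fact p.Prime]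
  [CharP A p] {r : ℕ} (f : Fin r → A)

/-- the relations `T_i^p - f_i` -/
noncomputable abbrev rel : Fin r → MvPolynomial (Fin r) A := fun i => X i ^ p - C (f i)

/-- `B = A[T]/(T_i^p - f_i)` -/
abbrev Quot : Type u := MvPolynomial (Fin r) A ⧸ Ideal.span (Set.range (rel p f))

theorem natCast_eq_zero : (p : Quot p f) = 0 := by
  have : (p : Quot p f) = algebraMap A (Quot p f) (p : A) := (map_natCast _ p).symm
  rw [this, CharP.cast_eq_zero, map_zero]

instance nontrivial_quot : Nontrivial (Quot p f) := by
  let K := ResidueField A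
  let Kbar := AlgebraicClosure K
  have hroot : ∀ i, ∃ z : Kbar, z ^ p = algebraMap K Kbar (residue A (f i)) := fun i =>
    IsAlgClosed.exists_pow_nat_eq _ hp.out.pos
  choose t ht using hroot
  let φ : MvPolynomial (Fin r) A →+* Kbar :=
    eval₂Hom ((algebraMap K Kbar).comp (residue A)) t
  have hle : Ideal.span (Set.range (rel p f)) ≤ RingHom.ker φ := by
    rw [Ideal.span_le]
    rintro _ ⟨i, rfl⟩
    show φ (X i ^ p - C (f i)) = 0
    simp only [φ, map_sub, map_pow, coe_eval₂Hom, eval₂_X, eval₂_C, RingHom.comp_apply]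
    rw [ht i, sub_self]
  refine Ideal.Quotient.nontrivial_iff.mpr ?_
  intro htop
  have : (1 : MvPolynomial (Fin r) A) ∈ RingHom.ker φ := hle (htop ▸ Submodule.mem_top)
  rw [RingHom.mem_ker, map_one] at this
  exact one_ne_zero this

instance charP_quot : CharP (Quot p f) p :=
  (CharP.charP_iff_prime_eq_zero hp.out).mpr (natCast_eq_zero p f)

/-- `b^p` comes from `A` -/
theorem pow_mem_range (b : Quot p f) : b ^ p ∈ Set.range (algebraMap A (Quot p f)) := by
  obtain ⟨q, rfl⟩ := Ideal.Quotient.mk_surjective b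
  induction q using MvPolynomial.induction_on with
  | C a => exact ⟨a ^ p, by rw [map_pow]; rfl⟩
  | add q q' h h' =>
    obtain ⟨a, ha⟩ := h
    obtain ⟨a', ha'⟩ := h'
    refine ⟨a + a', ?_⟩
    rw [map_add, map_add, add_pow_char, ha, ha']
  | mul_X q i h =>
    obtain ⟨a, ha⟩ := h
    refine ⟨a * f i, ?_⟩
    rw [map_mul, map_mul, mul_pow, ha]
    congr 1
    have : Ideal.Quotient.mk (Ideal.span (Set.range (rel p f))) (X i ^ p - C (f i)) = 0 :=
      Ideal.Quotient.eq_zero_iff_mem.mpr (Ideal.subset_span ⟨i, rfl⟩)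
    rw [map_sub, sub_eq_zero, map_pow] at this
    rw [this]
    rfl

instance isLocalRing_quot : IsLocalRing (Quot p f) := by
  refine IsLocalRing.of_isUnit_or_isUnit_one_sub_self fun b => ?_
  obtain ⟨a, ha⟩ := pow_mem_range p f b
  by_cases hu : IsUnit a
  · left
    have : IsUnit (b ^ p) := ha ▸ hu.map (algebraMap A (Quot p f))
    exact (isUnit_pow_iff hp.out.ne_zero).mp this
  · right
    have ha' : a ∈ maximalIdeal A := (mem_maximalIdeal a).mpr hu
    have hn : IsNilpotent (b ^ p) := ha ▸ (isNilpotent_of_mem_maximalIdeal ha').map _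
    have hb : IsNilpotent b := (IsNilpotent.pow_iff_pos hp.out.ne_zero).mp hn
    exact hb.isUnit_one_sub

instance isLocalHom_algebraMap : IsLocalHom (algebraMap A (Quot p f)) := by
  refine ⟨fun a ha => ?_⟩
  by_contra hu
  have ha' : a ∈ maximalIdeal A := (mem_maximalIdeal a).mpr hu
  have hn : IsNilpotent (algebraMap A (Quot p f) a) := (isNilpotent_of_mem_maximalIdeal ha').map _
  exact hn.not_isUnit ha

instance isIntegral_quot : Algebra.IsIntegral A (Quot p f) := by
  refine ⟨fun b => ?_⟩
  obtain ⟨a, ha⟩ := pow_mem_range p f b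
  exact IsIntegral.of_pow hp.out.pos (ha ▸ isIntegral_algebraMap)

instance finiteType_quot : Algebra.FiniteType A (Quot p f) :=
  Algebra.FiniteType.of_surjective (Ideal.Quotient.mkₐ A _) (Ideal.Quotient.mkₐ_surjective A _)

instance finite_quot : Module.Finite A (Quot p f) := Algebra.IsIntegral.finite

instance isArtinianRing_quot : IsArtinianRing (Quot p f) := IsArtinianRing.of_finite A (Quot p f)

instance isScalarTower_quot_residue :
    IsScalarTower (MvPolynomial (Fin r) A) (Quot p f) (ResidueField (Quot p f)) :=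
  IsScalarTower.of_algebraMap_eq (R := MvPolynomial (Fin r) A) (S := Quot p f)
    (A := ResidueField (Quot p f)) (fun _ => rfl)

end Quot

end Groth.Agent.Lib.Helper13.ArtinPoly
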