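import Mathlib
import Groth.Prelude.Def_EGA41

/-!
# Fredholm linear maps between vector spaces and the index of `L ⊗ Ω_K → Ω_L`
-/

set_option autoImplicit false

namespace Groth.Agent.Lib.Helper13.Fred

open TensorProduct

section Abstract

variable {F U V W : Type*} [Field F] [AddCommGroup U] [Module F U] [AddCommGroup V] [Module F V]
  [AddCommGroup W] [Module F W]

/-- a linear map with finite-dimensional kernel and cokernel -/
structure IsFred (f : U →ₗ[F] V) : Prop where
  ker_finite : FiniteDimensional F (LinearMap.ker f)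
  coker_finite : FiniteDimensional F (V ⧸ LinearMap.range f)

theorem IsFred.comp {f : U →ₗ[F] V} {g : V →ₗ[F] W} (hf : IsFred f) (hg : IsFred g) :
    IsFred (g ∘ₗ f) ∧ (g ∘ₗ f).index = g.index + f.index := by
  haveI := hf.ker_finite
  haveI := hf.coker_finite
  haveI := hg.ker_finite
  haveI := hg.coker_finite
  refine ⟨⟨?_, ?_⟩, LinearMap.index_comp g⟩
  · rw [LinearMap.ker_comp]; infer_instance
  · rw [LinearMap.range_comp]; infer_instance

theorem isFred_equiv (e : U ≃ₗ[F] V) : IsFred e.toLinearMap ∧ e.toLinearMap.index = 0 := by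
  refine ⟨⟨?_, ?_⟩, LinearEquiv.index_eq_zero⟩
  · rw [LinearEquiv.ker]; infer_instance
  · rw [LinearEquiv.range]; infer_instance

/-- transport along isomorphisms of source and target -/
theorem IsFred.congr {U' V' : Type*} [AddCommGroup U'] [Module F U'] [AddCommGroup V'] [Module F V']
    {f : U →ₗ[F] V} {g : U' →ₗ[F] V'} (a : U ≃ₗ[F] U') (b : V ≃ₗ[F] V')
    (h : ∀ u, b (f u) = g (a u)) (hg : IsFred g) : IsFred f ∧ f.index = g.index := by
  have hf : f = b.symm.toLinearMap ∘ₗ (g ∘ₗ a.toLinearMap) := by
    ext u
    simp only [LinearMap.coe_comp, LinearEquiv.coe_coe, Function.comp_apply]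
    rw [← h, LinearEquiv.symm_apply_apply]
  obtain ⟨h1, h1'⟩ := (isFred_equiv a).1.comp hg
  obtain ⟨h2, h2'⟩ := h1.comp (isFred_equiv b.symm).1
  rw [hf]
  refine ⟨h2, ?_⟩
  rw [h2', h1', (isFred_equiv a).2, (isFred_equiv b.symm).2]
  ring

theorem IsFred.index_eq {f : U →ₗ[F] V} (_hf : IsFred f) :
    f.index = (Module.finrank F (LinearMap.ker f) : ℤ) -
      Module.finrank F (V ⧸ LinearMap.range f) := rfl

end Abstract

section BaseChange

variable {M L U V : Type*} [Field M] [Field L] [Algebra M L] [AddCommGroup U] [Module M U]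
  [AddCommGroup V] [Module M V]

theorem IsFred.baseChange {f : U →ₗ[M] V} (hf : IsFred f) :
    IsFred (f.baseChange L) ∧ (f.baseChange L).index = f.index := by
  haveI := hf.ker_finite
  haveI := hf.coker_finite
  -- kernel
  let eK : L ⊗[M] LinearMap.ker f ≃ₗ[L] LinearMap.ker (f.baseChange L) :=
    LinearMap.tensorKerEquiv L L f
  -- cokernel
  let q := (LinearMap.range f).mkQ
  have hq : Function.Surjective q := Submodule.mkQ_surjective _
  have hex : Function.Exact f q := LinearMap.exact_map_mkQ_range f
  have hex' : Function.Exact (f.baseChange L) (q.baseChange L) := by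
    have := lTensor_exact L hex hq
    rwa [← LinearMap.baseChange_eq_ltensor, ← LinearMap.baseChange_eq_ltensor] at this
  have hqs : Function.Surjective (q.baseChange L) := LinearMap.baseChange_surjective L hq
  let eC : ((L ⊗[M] V) ⧸ LinearMap.range (f.baseChange L)) ≃ₗ[L] L ⊗[M] (V ⧸ LinearMap.range f) :=
    (Submodule.quotEquivOfEq _ _ hex'.linearMap_ker_eq.symm).trans
      ((q.baseChange L).quotKerEquivOfSurjective hqs)
  have hK : FiniteDimensional L (LinearMap.ker (f.baseChange L)) := Module.Finite.equiv eK
  have hC : FiniteDimensional L ((L ⊗[M] V) ⧸ LinearMap.range (f.baseChange L)) :=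
    Module.Finite.equiv eC.symm
  refine ⟨⟨hK, hC⟩, ?_⟩
  show (Module.finrank L (LinearMap.ker (f.baseChange L)) : ℤ) -
      Module.finrank L ((L ⊗[M] V) ⧸ LinearMap.range (f.baseChange L)) =
    (Module.finrank M (LinearMap.ker f) : ℤ) - Module.finrank M (V ⧸ LinearMap.range f)
  rw [← eK.finrank_eq, eC.finrank_eq, Module.finrank_baseChange, Module.finrank_baseChange]

end BaseChange

section Kaehler

variable (k K L : Type*) [CommRing k] [Field K] [Field L] [Algebra k K] [Algebra K L] [Algebra k L]
  [IsScalarTower k K L]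

/-- the cokernel of `L ⊗ Ω_{K/k} → Ω_{L/k}` is `Ω_{L/K}` -/
noncomputable def cokerEquiv :
    (Ω[L⁄k] ⧸ LinearMap.range (KaehlerDifferential.mapBaseChange k K L)) ≃ₗ[L] Ω[L⁄K] :=
  (Submodule.quotEquivOfEq _ _
    (KaehlerDifferential.exact_mapBaseChange_map k K L).linearMap_ker_eq.symm).trans
    ((KaehlerDifferential.map k K L L).quotKerEquivOfSurjective
      (KaehlerDifferential.map_surjective k K L))

theorem isFred_mapBaseChange_iff :
    IsFred (KaehlerDifferential.mapBaseChange k K L) ↔
      Module.Finite L (LinearMap.ker (KaehlerDifferential.mapBaseChange k K L)) ∧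
        Module.Finite L (Ω[L⁄K]) := by
  constructor
  · intro h
    haveI := h.coker_finite
    exact ⟨h.ker_finite, Module.Finite.equiv (cokerEquiv k K L)⟩
  · rintro ⟨h1, h2⟩
    exact ⟨h1, Module.Finite.equiv (cokerEquiv k K L).symm⟩

theorem index_mapBaseChange :
    (KaehlerDifferential.mapBaseChange k K L).index =
      (Module.finrank L (LinearMap.ker (KaehlerDifferential.mapBaseChange k K L)) : ℤ) -
        Module.finrank L (Ω[L⁄K]) := by
  rw [← (cokerEquiv k K L).finrank_eq]
  rfl

end Kaehler

section Tower

variable (k K M L : Type*) [CommRing k] [Field K] [Field M] [Field L] [Algebra k K] [Algebra k M]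
  [Algebra k L] [Algebra K M] [Algebra M L] [Algebra K L] [IsScalarTower k K M]
  [IsScalarTower k M L] [IsScalarTower k K L] [IsScalarTower K M L]

theorem map_map_comp (ω : Ω[K⁄k]) :
    KaehlerDifferential.map k k M L (KaehlerDifferential.map k k K M ω) =
      KaehlerDifferential.map k k K L ω := by
  have h : ((KaehlerDifferential.map k k M L).restrictScalars K) ∘ₗ
      (KaehlerDifferential.map k k K M) = KaehlerDifferential.map k k K L := by
    apply Derivation.liftKaehlerDifferential_unique
    ext a
    simp [← IsScalarTower.algebraMap_apply]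
  exact LinearMap.congr_fun h ω

theorem mapBaseChange_tower (z : L ⊗[M] (M ⊗[K] Ω[K⁄k])) :
    KaehlerDifferential.mapBaseChange k M L
        ((KaehlerDifferential.mapBaseChange k K M).baseChange L z) =
      KaehlerDifferential.mapBaseChange k K L
        (TensorProduct.AlgebraTensorModule.cancelBaseChange K M L L (Ω[K⁄k]) z) := by
  induction z using TensorProduct.induction_on with
  | zero => simp
  | add y z hy hz => rw [map_add, map_add, map_add, map_add, hy, hz]
  | tmul c y =>
    induction y using TensorProduct.induction_on with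
    | zero => simp
    | add y z hy hz => rw [TensorProduct.tmul_add, map_add, map_add, map_add, map_add, hy, hz]
    | tmul m ω =>
      rw [LinearMap.baseChange_tmul, KaehlerDifferential.mapBaseChange_tmul,
        KaehlerDifferential.mapBaseChange_tmul,
        TensorProduct.AlgebraTensorModule.cancelBaseChange_tmul,
        KaehlerDifferential.mapBaseChange_tmul, map_smul, smul_assoc]
      rw [smul_comm m c, map_map_comp]

theorem isFred_tower (h1 : IsFred (KaehlerDifferential.mapBaseChange k K M))
    (h2 : IsFred (KaehlerDifferential.mapBaseChange k M L)) :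
    IsFred (KaehlerDifferential.mapBaseChange k K L) ∧
      (KaehlerDifferential.mapBaseChange k K L).index =
        (KaehlerDifferential.mapBaseChange k M L).index +
          (KaehlerDifferential.mapBaseChange k K M).index := by
  obtain ⟨hψ, hψi⟩ := h1.baseChange (L := L)
  obtain ⟨hc, hci⟩ := hψ.comp h2
  let a : L ⊗[K] Ω[K⁄k] ≃ₗ[L] L ⊗[M] (M ⊗[K] Ω[K⁄k]) :=
    (TensorProduct.AlgebraTensorModule.cancelBaseChange K M L L (Ω[K⁄k])).symm
  obtain ⟨hf, hfi⟩ := IsFred.congr (f := KaehlerDifferential.mapBaseChange k K L) a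
    (LinearEquiv.refl L (Ω[L⁄k])) (fun u => by
      rw [LinearEquiv.refl_apply, LinearMap.comp_apply, mapBaseChange_tower,
        LinearEquiv.apply_symm_apply]) hc
  exact ⟨hf, by rw [hfi, hci, hψi]⟩

end Tower

end Groth.Agent.Lib.Helper13.Fred
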