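import Mathlib
import Groth.Agent.Lib.Helper13.SimpleExt
import Groth.Agent.Lib.Helper13.Fred
import Groth.Agent.Lib.Helper13.SepDiff4

/-!
# Simple algebraic extensions: `rank Ω[L⁄K] = rank Υ_{L/K/ℤ}`
-/

set_option autoImplicit false

namespace Groth.Agent.Lib.Helper13.SimpleExt

open Polynomial TensorProduct Groth.Agent.Lib.Helper13.Fred Groth.Agent.Lib.Helper13.SepDiff

universe u

variable {K L : Type u} [Field K] [Field L] [Algebra K L]

/-- for `L = K[θ]`: `rank Ω[L⁄K] = rank H¹(L_{L/K})` -/
theorem finrank_kaehler_eq_finrank_h1Cotangent (θ : L) (hθ : Algebra.adjoin K {θ} = ⊤) :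
    Module.finrank L (Ω[L⁄K]) = Module.finrank L (Algebra.H1Cotangent K L) := by
  have hsurj : Function.Surjective (aeval θ : K[X] →ₐ[K] L) := by
    rw [← AlgHom.range_eq_top, ← Algebra.adjoin_singleton_eq_range_aeval, hθ]
  let P : Algebra.Extension K L := Algebra.Extension.ofSurjective (aeval θ : K[X] →ₐ[K] L) hsurj
  haveI : Algebra.FormallySmooth K P.Ring := inferInstanceAs (Algebra.FormallySmooth K K[X])
  let e := P.equivH1CotangentOfFormallySmooth
  haveI : IsPrincipalIdealRing P.Ring := inferInstanceAs (IsPrincipalIdealRing K[X])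
  haveI : IsDomain P.Ring := inferInstanceAs (IsDomain K[X])
  obtain ⟨g, hg⟩ := (IsPrincipalIdealRing.principal P.ker).principal
  have hgmem : g ∈ P.ker := by rw [hg]; exact Submodule.mem_span_singleton_self g
  have hcot : ∀ w : P.Cotangent, ∃ c : L, c • Algebra.Extension.Cotangent.mk ⟨g, hgmem⟩ = w := by
    intro w
    obtain ⟨y, rfl⟩ := Algebra.Extension.Cotangent.mk_surjective w
    have hy : (y : P.Ring) ∈ Submodule.span P.Ring {g} := hg ▸ y.2
    obtain ⟨a, ha⟩ := Submodule.mem_span_singleton.mp hy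
    refine ⟨algebraMap P.Ring L a, ?_⟩
    rw [algebraMap_smul, ← map_smul]
    congr 1
    exact Subtype.ext ha
  obtain ⟨hfinC, hrkC⟩ := finite_and_finrank_le_one _ hcot
  haveI := hfinC
  -- `C ≠ 0`
  have hC0 : Algebra.Extension.Cotangent.mk (⟨g, hgmem⟩ : P.ker) ≠ 0 := by
    intro h0
    rw [Algebra.Extension.Cotangent.mk_eq_zero_iff] at h0
    have h1 : g ∈ Ideal.span {g} ^ 2 := by
      have : P.ker = Ideal.span {g} := hg
      rw [← this]; exact h0
    rw [Ideal.span_singleton_pow, Ideal.mem_span_singleton] at h1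
    obtain ⟨a, ha⟩ := h1
    have h2 : g * (1 - g * a) = 0 := by
      rw [mul_sub, mul_one, ← mul_assoc, ← sq, ← ha, sub_self]
    rcases mul_eq_zero.mp h2 with h3 | h3
    · -- `ker = ⊥`: `K[X] ≃ L` is a field
      have hker : P.ker = ⊥ := by
        have : P.ker = Ideal.span {g} := hg
        rw [this, h3, Ideal.span_singleton_eq_bot]
      have hinj : Function.Injective (aeval θ : K[X] →ₐ[K] L) :=
        (RingHom.injective_iff_ker_eq_bot _).mpr hker
      have hfield : IsField K[X] :=
        (MulEquiv.isField (Field.toIsField L)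
          (RingEquiv.ofBijective (aeval θ : K[X] →ₐ[K] L) ⟨hinj, hsurj⟩).toMulEquiv)
      exact Polynomial.not_isField K hfield
    · -- `g` is a unit
      have h4 : g * a = 1 := (sub_eq_zero.mp h3).symm
      have h5 : (1 : P.Ring) ∈ P.ker := by
        rw [← h4]; exact Ideal.mul_mem_right _ _ hgmem
      have h6 : algebraMap P.Ring L 1 = 0 := h5
      rw [map_one] at h6
      exact one_ne_zero h6
  have hrkC1 : Module.finrank L P.Cotangent = 1 := by
    refine le_antisymm hrkC ?_
    rw [Nat.succ_le_iff, Module.finrank_pos_iff_exists_ne_zero]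
    exact ⟨_, hC0⟩
  -- `T` has rank one
  let e0 : Ω[P.Ring⁄K] ≃ₗ[P.Ring] P.Ring := KaehlerDifferential.polynomialEquiv K
  let eT : P.CotangentSpace ≃ₗ[L] L :=
    (e0.baseChange P.Ring L _ _).trans
      (TensorProduct.AlgebraTensorModule.rid P.Ring L L)
  have hrkT : Module.finrank L P.CotangentSpace = 1 := by
    rw [eT.finrank_eq, Module.finrank_self]
  haveI : Module.Finite L P.CotangentSpace := Module.Finite.equiv eT.symm
  -- rank-nullity
  have h1 := LinearMap.finrank_range_add_finrank_ker P.cotangentComplex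
  have h2 := LinearMap.finrank_range_add_finrank_ker P.toKaehler
  have h3 : LinearMap.ker P.toKaehler = LinearMap.range P.cotangentComplex :=
    P.exact_cotangentComplex_toKaehler.linearMap_ker_eq
  have h4 : LinearMap.range P.toKaehler = ⊤ := LinearMap.range_eq_top.mpr P.toKaehler_surjective
  rw [h3, h4, finrank_top] at h2
  have h5 : Module.finrank L (LinearMap.ker P.cotangentComplex) =
      Module.finrank L (Algebra.H1Cotangent K L) := e.finrank_eq
  omega

/-- for `L = K[θ]`, `L ⊗ Ω[K⁄ℤ] → Ω[L⁄ℤ]` is Fredholm of index `0` -/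
theorem isFred_of_adjoin_eq_top (θ : L) (hθ : Algebra.adjoin K {θ} = ⊤) :
    IsFred (KaehlerDifferential.mapBaseChange ℤ K L) ∧
      (KaehlerDifferential.mapBaseChange ℤ K L).index = 0 := by
  obtain ⟨hΩfin, hΩle⟩ := kaehler_finite_of_adjoin_eq_top θ hθ
  obtain ⟨hHfin, hHle⟩ := h1Cotangent_finite_of_adjoin_eq_top θ hθ
  obtain ⟨hΥfin, hΥle⟩ := imperfection_finite_of_adjoin_eq_top (A := ℤ) θ hθ
  have hΩH := finrank_kaehler_eq_finrank_h1Cotangent θ hθ
  refine ⟨(isFred_mapBaseChange_iff ℤ K L).mpr ⟨hΥfin, hΩfin⟩, ?_⟩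
  rw [index_mapBaseChange]
  have key : Module.finrank L (LinearMap.ker (KaehlerDifferential.mapBaseChange ℤ K L)) = 0 →
      Module.finrank L (Algebra.H1Cotangent K L) = 0 := by
    intro h0
    haveI := hΥfin
    have hbot : LinearMap.ker (KaehlerDifferential.mapBaseChange ℤ K L) = ⊥ :=
      Submodule.finrank_eq_zero.mp h0
    have hinj : Function.Injective (KaehlerDifferential.mapBaseChange ℤ K L) :=
      LinearMap.ker_eq_bot.mp hbot
    have hgr : Algebra.IsGeometricallyReduced K L :=
      isGeometricallyReduced_iff_int_mapBaseChange_injective.mpr hinj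
    have hfs : Algebra.FormallySmooth K L := formallySmooth_iff_isGeometricallyReduced.mpr hgr
    haveI := hfs.subsingleton_h1Cotangent
    exact Module.finrank_zero_of_subsingleton
  omega

end Groth.Agent.Lib.Helper13.SimpleExt
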