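import Mathlib
import Groth.Agent.Lib.Helper13.SimpleExt2
import Groth.Agent.Lib.Helper86.KaehlerField

/-!
# Cartier's equality (EGA 0_IV 21.7.1)

For a finitely generated field extension `L/K`:
`rank Ω[L⁄K] - rank Υ_{L/K/ℤ} = trdeg_K L`.
-/

set_option autoImplicit false

namespace Groth.Agent.Lib.Helper13.Cartier

open TensorProduct IntermediateField Groth.Agent.Lib.Helper13.Fred Groth.Agent.Lib.Helper13.SimpleExt
  Groth.Agent.Lib.Helper13.SepDiff

universe u

section Finite

/-- finite extensions have index `0` -/
theorem isFred_of_finite : ∀ (n : ℕ) (M L : Type u) [Field M] [Field L] [Algebra M L]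
    [FiniteDimensional M L], Module.finrank M L = n →
    IsFred (KaehlerDifferential.mapBaseChange ℤ M L) ∧
      (KaehlerDifferential.mapBaseChange ℤ M L).index = 0 := by
  intro n
  induction n using Nat.strong_induction_on with
  | _ n ih =>
    intro M L _ _ _ _ hn
    by_cases hall : ∀ x : L, x ∈ (⊥ : IntermediateField M L)
    · apply isFred_of_adjoin_eq_top (0 : L)
      rw [eq_top_iff]
      intro y _
      obtain ⟨m, rfl⟩ := IntermediateField.mem_bot.mp (hall y)
      exact Subalgebra.algebraMap_mem _ m
    · push Not at hall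
      obtain ⟨x, hx⟩ := hall
      have hxint : IsIntegral M x := Algebra.IsIntegral.isIntegral x
      have hgen : Algebra.adjoin M {AdjoinSimple.gen M x} = ⊤ := by
        apply Subalgebra.map_injective (f := (M⟮x⟯).val) (M⟮x⟯).val.injective
        rw [Algebra.map_top, AlgHom.map_adjoin, Set.image_singleton, IntermediateField.range_val,
          IntermediateField.adjoin_simple_toSubalgebra_of_isAlgebraic hxint.isAlgebraic]
        rfl
      obtain ⟨hN, hNi⟩ := isFred_of_adjoin_eq_top (AdjoinSimple.gen M x) hgen
      have hmul : Module.finrank M M⟮x⟯ * Module.finrank M⟮x⟯ L = Module.finrank M L :=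
        Module.finrank_mul_finrank M M⟮x⟯ L
      have h1 : Module.finrank M M⟮x⟯ ≠ 1 := fun h =>
        hx (IntermediateField.finrank_adjoin_simple_eq_one_iff.mp h)
      have h2 : 0 < Module.finrank M M⟮x⟯ := Module.finrank_pos
      have h3 : 0 < Module.finrank M⟮x⟯ L := Module.finrank_pos
      have hlt : Module.finrank M⟮x⟯ L < n := by
        rw [← hn, ← hmul]
        have : 2 ≤ Module.finrank M M⟮x⟯ := by omega
        nlinarith
      obtain ⟨hL, hLi⟩ := ih _ hlt M⟮x⟯ L rfl
      obtain ⟨h, hi⟩ := isFred_tower ℤ M M⟮x⟯ L hN hL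
      exact ⟨h, by rw [hi, hLi, hNi]; rfl⟩

end Finite

section Transcendental

variable {K L : Type u} [Field K] [Field L] [Algebra K L]

/-- purely transcendental extensions `K(x)` of finite transcendence degree have index `-#ι` -/
theorem isFred_adjoin_of_algebraicIndependent {ι : Type u} [Finite ι] (x : ι → L)
    (hx : AlgebraicIndependent K x) :
    IsFred (KaehlerDifferential.mapBaseChange ℤ K (IntermediateField.adjoin K (Set.range x))) ∧
      (KaehlerDifferential.mapBaseChange ℤ K (IntermediateField.adjoin K (Set.range x))).index =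
        -(Nat.card ι : ℤ) := by
  set M := IntermediateField.adjoin K (Set.range x) with hM
  haveI : Algebra.FormallySmooth K M := Algebra.FormallySmooth.adjoin_of_algebraicIndependent hx
  have hinj : Function.Injective (KaehlerDifferential.mapBaseChange ℤ K M) :=
    mapBaseChange_injective_of_formallySmooth
  have hker : LinearMap.ker (KaehlerDifferential.mapBaseChange ℤ K M) = ⊥ :=
    LinearMap.ker_eq_bot.mpr hinj
  -- the generators inside `M`
  let x' : ι → M := fun i => ⟨x i, IntermediateField.subset_adjoin K _ ⟨i, rfl⟩⟩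
  have hx' : AlgebraicIndependent K x' := AlgebraicIndependent.of_comp M.val hx
  have htop : IntermediateField.adjoin K (Set.range x') = ⊤ := by
    apply IntermediateField.map_injective M.val
    rw [IntermediateField.adjoin_map, ← Set.range_comp, ← AlgHom.fieldRange_eq_map,
      IntermediateField.fieldRange_val]
    rfl
  haveI : Algebra.IsSeparable (IntermediateField.adjoin K (Set.range x')) M := by
    refine ⟨fun m => ?_⟩
    have hm : m ∈ IntermediateField.adjoin K (Set.range x') := htop ▸ IntermediateField.mem_top
    have : m = algebraMap (IntermediateField.adjoin K (Set.range x')) M ⟨m, hm⟩ := rfl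
    rw [this]
    exact isSeparable_algebraMap _
  obtain ⟨b, -⟩ := Groth.Agent.Lib.Helper86.exists_basis_D_of_isSeparable x' hx'
  haveI : Fintype ι := Fintype.ofFinite ι
  have hfin : Module.Finite M (Ω[M⁄K]) := Module.Finite.of_basis b
  have hrk : Module.finrank M (Ω[M⁄K]) = Nat.card ι := by
    rw [Module.finrank_eq_card_basis b, Nat.card_eq_fintype_card]
  have hfinK : Module.Finite M (LinearMap.ker (KaehlerDifferential.mapBaseChange ℤ K M)) := by
    rw [hker]; infer_instance
  refine ⟨(isFred_mapBaseChange_iff ℤ K M).mpr ⟨hfinK, hfin⟩, ?_⟩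
  rw [index_mapBaseChange, hrk, hker, finrank_bot]
  simp

end Transcendental

section Main

variable (K L : Type u) [Field K] [Field L] [Algebra K L] [Algebra.EssFiniteType K L]

/-- **Cartier's equality** -/
theorem isFred_of_essFiniteType :
    IsFred (KaehlerDifferential.mapBaseChange ℤ K L) ∧
      (KaehlerDifferential.mapBaseChange ℤ K L).index =
        -(Cardinal.toNat (Algebra.trdeg K L) : ℤ) := by
  obtain ⟨s, hs⟩ := exists_isTranscendenceBasis K L
  haveI : Finite s := finite_of_isTranscendenceBasis hs
  set M := IntermediateField.adjoin K (Set.range ((↑) : s → L)) with hM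
  haveI : Algebra.IsAlgebraic M L := hs.isAlgebraic_field
  haveI : Algebra.EssFiniteType M L := Algebra.EssFiniteType.of_comp K M L
  haveI : FiniteDimensional M L := Algebra.finite_of_essFiniteType_of_isAlgebraic
  obtain ⟨h1, h1i⟩ := isFred_adjoin_of_algebraicIndependent ((↑) : s → L) hs.1
  obtain ⟨h2, h2i⟩ := isFred_of_finite _ M L rfl
  obtain ⟨h, hi⟩ := isFred_tower ℤ K M L h1 h2
  refine ⟨h, ?_⟩
  rw [hi, h2i, h1i, zero_add, ← hs.cardinalMk_eq_trdeg]
  rfl

end Main

end Groth.Agent.Lib.Helper13.Cartier
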