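import Mathlib
import Groth.Agent.Lib.Helper13.Fred

/-!
# Ring-level tower lemma for `C ⊗ Ω_A → Ω_C`, and base change of kernels/cokernels to a field
-/

set_option autoImplicit false

namespace Groth.Agent.Lib.Helper13.Fred

open TensorProduct

section RingTower

variable (k A B C : Type*) [CommRing k] [CommRing A] [CommRing B] [CommRing C] [Algebra k A]
  [Algebra k B] [Algebra k C] [Algebra A B] [Algebra B C] [Algebra A C] [IsScalarTower k A B]
  [IsScalarTower k B C] [IsScalarTower k A C] [IsScalarTower A B C]

theorem map_map_comp' (ω : Ω[A⁄k]) :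
    KaehlerDifferential.map k k B C (KaehlerDifferential.map k k A B ω) =
      KaehlerDifferential.map k k A C ω := by
  have h : ((KaehlerDifferential.map k k B C).restrictScalars A) ∘ₗ
      (KaehlerDifferential.map k k A B) = KaehlerDifferential.map k k A C := by
    apply Derivation.liftKaehlerDifferential_unique
    ext a
    simp [← IsScalarTower.algebraMap_apply]
  exact LinearMap.congr_fun h ω

theorem mapBaseChange_tower' (z : C ⊗[B] (B ⊗[A] Ω[A⁄k])) :
    KaehlerDifferential.mapBaseChange k B C
        ((KaehlerDifferential.mapBaseChange k A B).baseChange C z) =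
      KaehlerDifferential.mapBaseChange k A C
        (TensorProduct.AlgebraTensorModule.cancelBaseChange A B C C (Ω[A⁄k]) z) := by
  induction z using TensorProduct.induction_on with
  | zero => simp
  | add y z hy hz => rw [map_add, map_add, map_add, map_add, hy, hz]
  | tmul c y =>
    induction y using TensorProduct.induction_on with
    | zero => simp
    | add y z hy hz => rw [TensorProduct.tmul_add, map_add, map_add, map_add, map_add, hy, hz]
    | tmul m ω =>
      rw [LinearMap.baseChange_tmul, KaehlerDifferential.mapBaseChange_tmul,
        KaehlerDifferential.mapBaseChange_tmul,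
        TensorProduct.AlgebraTensorModule.cancelBaseChange_tmul,
        KaehlerDifferential.mapBaseChange_tmul, map_smul, smul_assoc]
      rw [smul_comm m c, map_map_comp']

end RingTower

section RingTowerFred

variable (k A B C : Type*) [CommRing k] [CommRing A] [CommRing B] [Field C] [Algebra k A]
  [Algebra k B] [Algebra k C] [Algebra A B] [Algebra B C] [Algebra A C] [IsScalarTower k A B]
  [IsScalarTower k B C] [IsScalarTower k A C] [IsScalarTower A B C]

theorem isFred_tower_ring
    (h1 : IsFred ((KaehlerDifferential.mapBaseChange k A B).baseChange C))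
    (h2 : IsFred (KaehlerDifferential.mapBaseChange k B C)) :
    IsFred (KaehlerDifferential.mapBaseChange k A C) ∧
      (KaehlerDifferential.mapBaseChange k A C).index =
        (KaehlerDifferential.mapBaseChange k B C).index +
          ((KaehlerDifferential.mapBaseChange k A B).baseChange C).index := by
  obtain ⟨hc, hci⟩ := h1.comp h2
  let a : C ⊗[A] Ω[A⁄k] ≃ₗ[C] C ⊗[B] (B ⊗[A] Ω[A⁄k]) :=
    (TensorProduct.AlgebraTensorModule.cancelBaseChange A B C C (Ω[A⁄k])).symm
  obtain ⟨hf, hfi⟩ := IsFred.congr (f := KaehlerDifferential.mapBaseChange k A C) a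
    (LinearEquiv.refl C (Ω[C⁄k])) (fun u => by
      rw [LinearEquiv.refl_apply, LinearMap.comp_apply, mapBaseChange_tower',
        LinearEquiv.apply_symm_apply]) hc
  exact ⟨hf, by rw [hfi, hci]⟩

end RingTowerFred

section BaseChangeRing

variable {P C M N : Type*} [CommRing P] [Field C] [Algebra P C] [AddCommGroup M] [Module P M]
  [AddCommGroup N] [Module P N]

/-- cokernels commute with base change -/
noncomputable def cokerBaseChangeEquiv (f : M →ₗ[P] N) :
    ((C ⊗[P] N) ⧸ LinearMap.range (f.baseChange C)) ≃ₗ[C] C ⊗[P] (N ⧸ LinearMap.range f) :=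
  have hq : Function.Surjective (LinearMap.range f).mkQ := Submodule.mkQ_surjective _
  have hex : Function.Exact f (LinearMap.range f).mkQ := LinearMap.exact_map_mkQ_range f
  have hex' : Function.Exact (f.baseChange C) ((LinearMap.range f).mkQ.baseChange C) := by
    have := lTensor_exact C hex hq
    rwa [← LinearMap.baseChange_eq_ltensor, ← LinearMap.baseChange_eq_ltensor] at this
  (Submodule.quotEquivOfEq _ _ hex'.linearMap_ker_eq.symm).trans
    (((LinearMap.range f).mkQ.baseChange C).quotKerEquivOfSurjective
      (LinearMap.baseChange_surjective C hq))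

theorem baseChange_injective_of_retraction (f : M →ₗ[P] N) (l : N →ₗ[P] M)
    (h : l ∘ₗ f = LinearMap.id) : Function.Injective (f.baseChange C) := by
  have h2 : (l.baseChange C) ∘ₗ (f.baseChange C) = LinearMap.id := by
    rw [← LinearMap.baseChange_comp, h, LinearMap.baseChange_id]
  exact Function.LeftInverse.injective (g := l.baseChange C) fun x => LinearMap.congr_fun h2 x

/-- kernel of the base change of a surjective map -/
theorem ker_baseChange_of_surjective (g : M →ₗ[P] N) (hg : Function.Surjective g) :
    LinearMap.ker (g.baseChange C) = (LinearMap.ker g).baseChange C := by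
  have hex : Function.Exact (LinearMap.ker g).subtype g := LinearMap.exact_subtype_ker_map g
  have hex' : Function.Exact ((LinearMap.ker g).subtype.baseChange C) (g.baseChange C) := by
    have := lTensor_exact C hex hg
    rwa [← LinearMap.baseChange_eq_ltensor, ← LinearMap.baseChange_eq_ltensor] at this
  exact hex'.linearMap_ker_eq

end BaseChangeRing

section IntTower

variable (A B C : Type*) [CommRing A] [CommRing B] [Field C]
  [Algebra A B] [Algebra B C] [Algebra A C] [IsScalarTower A B C]

/-- `isFred_tower_ring` over `ℤ` with the canonical `ℤ`-algebra structures -/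
theorem isFred_tower_int
    (h1 : IsFred ((KaehlerDifferential.mapBaseChange ℤ A B).baseChange C))
    (h2 : IsFred (KaehlerDifferential.mapBaseChange ℤ B C)) :
    IsFred (KaehlerDifferential.mapBaseChange ℤ A C) ∧
      (KaehlerDifferential.mapBaseChange ℤ A C).index =
        (KaehlerDifferential.mapBaseChange ℤ B C).index +
          ((KaehlerDifferential.mapBaseChange ℤ A B).baseChange C).index :=
  isFred_tower_ring ℤ A B C h1 h2

end IntTower

end Groth.Agent.Lib.Helper13.Fred
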