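import Mathlib
import Groth.Agent.Lib.Helper13.Fred2

/-!
# `κ ⊗ Ω_R → Ω_κ` for a local ring `R` with a coefficient field: kernel = cotangent space
-/

set_option autoImplicit false

namespace Groth.Agent.Lib.Helper13.CotKer

open TensorProduct IsLocalRing Groth.Agent.Lib.Helper13.Fred

universe u

variable {R : Type u} [CommRing R] [IsLocalRing R]

theorem ker_algebraMap_residueField :
    RingHom.ker (algebraMap R (ResidueField R)) = maximalIdeal R :=
  IsLocalRing.ker_residue

/-- the map `m/m² → κ ⊗ Ω_R`, `R`-linear version -/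
noncomputable def cotToTensor₀ :
    CotangentSpace R →ₗ[R] (ResidueField R) ⊗[R] Ω[R⁄ℤ] :=
  (KaehlerDifferential.kerCotangentToTensor ℤ R (ResidueField R)) ∘ₗ
    (Ideal.Cotangent.equivOfEq _ _ (ker_algebraMap_residueField (R := R)).symm).toLinearMap

/-- the map `m/m² → κ ⊗ Ω_R`, `κ`-linear version -/
noncomputable def cotToTensor :
    CotangentSpace R →ₗ[ResidueField R] (ResidueField R) ⊗[R] Ω[R⁄ℤ] :=
  LinearMap.extendScalarsOfSurjective (residue_surjective (R := R)) cotToTensor₀

theorem cotToTensor_toCotangent (x : maximalIdeal R) :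
    cotToTensor ((maximalIdeal R).toCotangent x) =
      (1 : ResidueField R) ⊗ₜ[R] KaehlerDifferential.D ℤ R (x : R) := rfl

theorem range_cotToTensor :
    LinearMap.range (cotToTensor (R := R)) =
      LinearMap.ker (KaehlerDifferential.mapBaseChange ℤ R (ResidueField R)) := by
  have h := KaehlerDifferential.range_kerCotangentToTensor ℤ R (ResidueField R)
    (residue_surjective (R := R))
  ext y
  have h2 := SetLike.ext_iff.mp h y
  rw [Submodule.restrictScalars_mem] at h2
  rw [← h2]
  constructor
  · rintro ⟨x, rfl⟩
    exact ⟨(Ideal.Cotangent.equivOfEq _ _ (ker_algebraMap_residueField (R := R)).symm) x, rfl⟩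
  · rintro ⟨x, rfl⟩
    refine ⟨(Ideal.Cotangent.equivOfEq _ _ (ker_algebraMap_residueField (R := R)).symm).symm x, ?_⟩
    show KaehlerDifferential.kerCotangentToTensor ℤ R (ResidueField R)
      ((Ideal.Cotangent.equivOfEq _ _ (ker_algebraMap_residueField (R := R)).symm)
        ((Ideal.Cotangent.equivOfEq _ _ (ker_algebraMap_residueField (R := R)).symm).symm x)) = _
    rw [LinearEquiv.apply_symm_apply]

/-- with a coefficient field, `m/m² → κ ⊗ Ω_R` is injective -/
theorem cotToTensor_injective (σ : ResidueField R →+* R)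
    (hσ : ∀ x : ResidueField R, residue R (σ x) = x) :
    Function.Injective (cotToTensor (R := R)) := by
  -- section of `R/I² → κ`
  let I := RingHom.ker (algebraMap R (ResidueField R))
  let g : ResidueField R →ₐ[ℤ] R ⧸ I ^ 2 :=
    ((Ideal.Quotient.mk (I ^ 2)).comp σ).toIntAlgHom
  have hg : (IsScalarTower.toAlgHom ℤ R (ResidueField R)).kerSquareLift.comp g =
      AlgHom.id ℤ (ResidueField R) := by
    ext x
    show (IsScalarTower.toAlgHom ℤ R (ResidueField R)).kerSquareLift
      (Ideal.Quotient.mk (I ^ 2) (σ x)) = x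
    exact hσ x
  obtain ⟨l, hl⟩ := (retractionKerCotangentToTensorEquivSection (R := ℤ)
    (residue_surjective (R := R))).symm ⟨g, hg⟩
  have hinj : Function.Injective (KaehlerDifferential.kerCotangentToTensor ℤ R (ResidueField R)) :=
    Function.LeftInverse.injective (g := l) fun x => LinearMap.congr_fun hl x
  intro x y hxy
  have : cotToTensor₀ x = cotToTensor₀ y := hxy
  exact (Ideal.Cotangent.equivOfEq _ _ (ker_algebraMap_residueField (R := R)).symm).injective
    (hinj this)

/-- **kernel of `κ ⊗ Ω_R → Ω_κ`** for a Noetherian local ring with a coefficient field -/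
theorem isFred_residue [IsNoetherianRing R] (σ : ResidueField R →+* R)
    (hσ : ∀ x : ResidueField R, residue R (σ x) = x) :
    IsFred (KaehlerDifferential.mapBaseChange ℤ R (ResidueField R)) ∧
      (KaehlerDifferential.mapBaseChange ℤ R (ResidueField R)).index =
        (Module.finrank (ResidueField R) (CotangentSpace R) : ℤ) := by
  have hsurj : Function.Surjective (KaehlerDifferential.mapBaseChange ℤ R (ResidueField R)) :=
    KaehlerDifferential.mapBaseChange_surjective ℤ R (ResidueField R) (residue_surjective (R := R))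
  let e : CotangentSpace R ≃ₗ[ResidueField R]
      LinearMap.ker (KaehlerDifferential.mapBaseChange ℤ R (ResidueField R)) :=
    (LinearEquiv.ofInjective cotToTensor (cotToTensor_injective σ hσ)).trans
      (LinearEquiv.ofEq _ _ range_cotToTensor)
  have hfin : FiniteDimensional (ResidueField R)
      (LinearMap.ker (KaehlerDifferential.mapBaseChange ℤ R (ResidueField R))) :=
    Module.Finite.equiv e
  have hrange : LinearMap.range (KaehlerDifferential.mapBaseChange ℤ R (ResidueField R)) = ⊤ :=
    LinearMap.range_eq_top.mpr hsurj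
  refine ⟨⟨hfin, ?_⟩, ?_⟩
  · rw [hrange]; infer_instance
  · rw [LinearMap.index_of_surjective hsurj, e.finrank_eq]

end Groth.Agent.Lib.Helper13.CotKer
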