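import Mathlib
import Groth.Agent.Lib.Helper13.Fred2

/-!
# The step `C ⊗ Ω_P → C ⊗ Ω_B` for a quotient `B = P/(F_i)`
-/

set_option autoImplicit false

namespace Groth.Agent.Lib.Helper13.Fred

open TensorProduct

section Ker

variable {P B : Type*} [CommRing P] [CommRing B] [Algebra P B]
  (hsurj : Function.Surjective (algebraMap P B)) {ι : Type*} (F : ι → P)
  (hF : RingHom.ker (algebraMap P B) = Ideal.span (Set.range F))

include hsurj hF in
theorem ker_mapBaseChange_eq_span :
    LinearMap.ker (KaehlerDifferential.mapBaseChange ℤ P B) =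
      Submodule.span B (Set.range fun i => (1 : B) ⊗ₜ[P] KaehlerDifferential.D ℤ P (F i)) := by
  have hrange := KaehlerDifferential.range_kerCotangentToTensor ℤ P B hsurj
  have hmemF : ∀ i, F i ∈ RingHom.ker (algebraMap P B) := fun i => by
    rw [hF]; exact Ideal.subset_span ⟨i, rfl⟩
  apply le_antisymm
  · intro y hy
    have hy' : y ∈ (LinearMap.ker (KaehlerDifferential.mapBaseChange ℤ P B)).restrictScalars P := hy
    rw [← hrange] at hy'
    obtain ⟨x, rfl⟩ := hy'
    obtain ⟨⟨q, hq⟩, rfl⟩ := Ideal.toCotangent_surjective _ x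
    rw [KaehlerDifferential.kerCotangentToTensor_toCotangent]
    show (1 : B) ⊗ₜ[P] KaehlerDifferential.D ℤ P q ∈ _
    have hq' : q ∈ Ideal.span (Set.range F) := hF ▸ hq
    clear hy hq
    induction hq' using Submodule.span_induction with
    | mem q hq =>
      obtain ⟨i, rfl⟩ := hq
      exact Submodule.subset_span ⟨i, rfl⟩
    | zero => rw [map_zero, TensorProduct.tmul_zero]; exact Submodule.zero_mem _
    | add q q' _ _ h1 h2 =>
      rw [map_add, TensorProduct.tmul_add]; exact Submodule.add_mem _ h1 h2
    | smul a q hq h1 =>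
      have hqk : algebraMap P B q = 0 := by
        have : q ∈ RingHom.ker (algebraMap P B) := hF ▸ hq
        exact this
      rw [smul_eq_mul, Derivation.leibniz, TensorProduct.tmul_add, TensorProduct.tmul_smul,
        TensorProduct.tmul_smul]
      refine Submodule.add_mem _ ?_ ?_
      · rw [← algebraMap_smul B a]
        exact Submodule.smul_mem _ _ h1
      · rw [TensorProduct.smul_tmul', Algebra.smul_def, mul_one, hqk, TensorProduct.zero_tmul]
        exact Submodule.zero_mem _
  · rw [Submodule.span_le]
    rintro _ ⟨i, rfl⟩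
    have : (1 : B) ⊗ₜ[P] KaehlerDifferential.D ℤ P (F i) ∈
        LinearMap.range (KaehlerDifferential.kerCotangentToTensor ℤ P B) :=
      ⟨Ideal.toCotangent _ ⟨F i, hmemF i⟩, rfl⟩
    rw [hrange] at this
    exact this

end Ker

section Step

variable {P B C : Type*} [CommRing P] [CommRing B] [Field C] [Algebra P B] [Algebra B C]
  (hsurj : Function.Surjective (algebraMap P B)) {ι : Type*} [Finite ι] (F : ι → P)
  (hF : RingHom.ker (algebraMap P B) = Ideal.span (Set.range F))

variable (B C) in
/-- the vectors `1 ⊗ (1 ⊗ dF_i)` in `C ⊗[B] (B ⊗[P] Ω[P⁄ℤ])` -/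
noncomputable def relVec (i : ι) : C ⊗[B] (B ⊗[P] Ω[P⁄ℤ]) :=
  (1 : C) ⊗ₜ[B] ((1 : B) ⊗ₜ[P] KaehlerDifferential.D ℤ P (F i))

include hsurj hF in
theorem ker_baseChange_mapBaseChange_eq_span :
    LinearMap.ker ((KaehlerDifferential.mapBaseChange ℤ P B).baseChange C) =
      Submodule.span C (Set.range (relVec B C F)) := by
  rw [ker_baseChange_of_surjective _
    (KaehlerDifferential.mapBaseChange_surjective ℤ P B hsurj),
    ker_mapBaseChange_eq_span hsurj F hF, Submodule.baseChange_span, ← Set.range_comp]
  rfl

include hsurj hF in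
theorem isFred_baseChange_mapBaseChange_of_surjective :
    IsFred ((KaehlerDifferential.mapBaseChange ℤ P B).baseChange C) ∧
      ((KaehlerDifferential.mapBaseChange ℤ P B).baseChange C).index =
        (Module.finrank C (Submodule.span C (Set.range (relVec B C F))) : ℤ) := by
  have hs : Function.Surjective ((KaehlerDifferential.mapBaseChange ℤ P B).baseChange C) :=
    LinearMap.baseChange_surjective C (KaehlerDifferential.mapBaseChange_surjective ℤ P B hsurj)
  have hker := ker_baseChange_mapBaseChange_eq_span (C := C) hsurj F hF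
  have hrange : LinearMap.range ((KaehlerDifferential.mapBaseChange ℤ P B).baseChange C) = ⊤ :=
    LinearMap.range_eq_top.mpr hs
  refine ⟨⟨?_, ?_⟩, ?_⟩
  · rw [hker]
    exact FiniteDimensional.span_of_finite C (Set.finite_range _)
  · rw [hrange]; infer_instance
  · rw [LinearMap.index_of_surjective hs, hker]

end Step

end Groth.Agent.Lib.Helper13.Fred
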