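import Mathlib
import Groth.Agent.Lib.Helper13.QuotStep

/-!
# Transfer of linear independence of `1 ⊗ d f_i` from `K ⊗ Ω_A` to `C ⊗ (B ⊗ Ω_P)`
-/

set_option autoImplicit false

namespace Groth.Agent.Lib.Helper13.Fred

open TensorProduct

section FieldExt

variable {K C V ι : Type*} [Field K] [Field C] [Algebra K C] [AddCommGroup V] [Module K V]

theorem linearIndependent_one_tmul_iff (v : ι → V) :
    LinearIndependent C (fun i => (1 : C) ⊗ₜ[K] v i) ↔ LinearIndependent K v := by
  constructor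
  · intro h
    have h1 : LinearIndependent K (fun i => (1 : C) ⊗ₜ[K] v i) :=
      h.restrict_scalars' K
    exact LinearIndependent.of_comp (TensorProduct.mk K C V 1) h1
  · intro h
    exact Module.Flat.linearIndependent_one_tmul h

end FieldExt

section Chain

variable {A P B K C : Type*} [CommRing A] [CommRing P] [CommRing B] [Field K] [Field C]
  [Algebra A P] [Algebra P B] [Algebra B C] [Algebra P C] [IsScalarTower P B C]
  [Algebra A C] [IsScalarTower A P C]
  [Algebra A K] [Algebra K C] [IsScalarTower A K C]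
  {ι : Type*} (F : ι → P) (f : ι → A)

theorem linearIndependent_relVec_iff
    (hd : ∀ i, KaehlerDifferential.D ℤ P (F i) =
      -KaehlerDifferential.D ℤ P (algebraMap A P (f i)))
    (hinj : Function.Injective ((KaehlerDifferential.mapBaseChange ℤ A P).baseChange C)) :
    LinearIndependent C (relVec B C F) ↔
      LinearIndependent K (fun i => (1 : K) ⊗ₜ[A] KaehlerDifferential.D ℤ A (f i)) := by
  let c₀ := TensorProduct.AlgebraTensorModule.cancelBaseChange A K C C (Ω[A⁄ℤ])
  let c₁ := TensorProduct.AlgebraTensorModule.cancelBaseChange A P C C (Ω[A⁄ℤ])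
  let c₂ := TensorProduct.AlgebraTensorModule.cancelBaseChange P B C C (Ω[P⁄ℤ])
  let Ψ : C ⊗[K] (K ⊗[A] Ω[A⁄ℤ]) →ₗ[C] C ⊗[B] (B ⊗[P] Ω[P⁄ℤ]) :=
    c₂.symm.toLinearMap ∘ₗ ((KaehlerDifferential.mapBaseChange ℤ A P).baseChange C) ∘ₗ
      c₁.symm.toLinearMap ∘ₗ c₀.toLinearMap
  have hΨ : Function.Injective Ψ :=
    c₂.symm.injective.comp (hinj.comp (c₁.symm.injective.comp c₀.injective))
  have hrel : relVec B C F = -(Ψ ∘ fun i =>
      (1 : C) ⊗ₜ[K] ((1 : K) ⊗ₜ[A] KaehlerDifferential.D ℤ A (f i))) := by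
    funext i
    show (1 : C) ⊗ₜ[B] ((1 : B) ⊗ₜ[P] KaehlerDifferential.D ℤ P (F i)) =
      -(c₂.symm (((KaehlerDifferential.mapBaseChange ℤ A P).baseChange C)
        (c₁.symm (c₀ ((1 : C) ⊗ₜ[K] ((1 : K) ⊗ₜ[A] KaehlerDifferential.D ℤ A (f i)))))))
    rw [TensorProduct.AlgebraTensorModule.cancelBaseChange_tmul, one_smul,
      TensorProduct.AlgebraTensorModule.cancelBaseChange_symm_tmul, LinearMap.baseChange_tmul,
      KaehlerDifferential.mapBaseChange_tmul, one_smul, KaehlerDifferential.map_D,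
      TensorProduct.AlgebraTensorModule.cancelBaseChange_symm_tmul, hd i,
      TensorProduct.tmul_neg, TensorProduct.tmul_neg]
  rw [hrel, linearIndependent_neg_iff, LinearMap.linearIndependent_iff Ψ
    (LinearMap.ker_eq_bot.mpr hΨ), linearIndependent_one_tmul_iff]

end Chain

end Groth.Agent.Lib.Helper13.Fred
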