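import Mathlib
import Groth.Agent.Lib.Helper13.Fred2
import Groth.Agent.Lib.Helper13.SepDiff2

/-!
# The step `C ⊗ Ω_A → C ⊗ Ω_P` for `P` formally smooth over `A` with `Ω[P⁄A]` finite free
-/

set_option autoImplicit false

namespace Groth.Agent.Lib.Helper13.Fred

open TensorProduct Groth.Agent.Lib.Helper13.SepDiff

variable (A P C : Type*) [CommRing A] [CommRing P] [Field C] [Algebra A P] [Algebra P C]
  [Algebra.FormallySmooth A P] [Module.Free P (Ω[P⁄A])] [Module.Finite P (Ω[P⁄A])]

theorem isFred_baseChange_mapBaseChange_of_formallySmooth :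
    Function.Injective ((KaehlerDifferential.mapBaseChange ℤ A P).baseChange C) ∧
    IsFred ((KaehlerDifferential.mapBaseChange ℤ A P).baseChange C) ∧
    ((KaehlerDifferential.mapBaseChange ℤ A P).baseChange C).index =
      -(Module.finrank P (Ω[P⁄A]) : ℤ) := by
  have hf : Function.Injective (KaehlerDifferential.mapBaseChange ℤ A P) :=
    mapBaseChange_injective_of_formallySmooth
  have hg : Function.Surjective (KaehlerDifferential.map ℤ A P P) :=
    KaehlerDifferential.map_surjective ℤ A P
  have hex := KaehlerDifferential.exact_mapBaseChange_map ℤ A P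
  obtain ⟨s, hs⟩ := Module.projective_lifting_property (KaehlerDifferential.map ℤ A P P)
    LinearMap.id hg
  have h01 := (hex.split_tfae hf hg).out 0 1
  obtain ⟨l, hl⟩ := h01.mp ⟨s, hs⟩
  haveI : Nontrivial P := (algebraMap P C).domain_nontrivial
  have hinj := baseChange_injective_of_retraction (C := C)
    (KaehlerDifferential.mapBaseChange ℤ A P) l hl
  let eC := cokerBaseChangeEquiv (C := C) (KaehlerDifferential.mapBaseChange ℤ A P)
  let e2 : (Ω[P⁄ℤ] ⧸ LinearMap.range (KaehlerDifferential.mapBaseChange ℤ A P)) ≃ₗ[P] Ω[P⁄A] :=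
    (Submodule.quotEquivOfEq _ _ hex.linearMap_ker_eq.symm).trans
      ((KaehlerDifferential.map ℤ A P P).quotKerEquivOfSurjective hg)
  let e3 := eC.trans (e2.baseChange P C _ _)
  have hker : LinearMap.ker ((KaehlerDifferential.mapBaseChange ℤ A P).baseChange C) = ⊥ :=
    LinearMap.ker_eq_bot.mpr hinj
  have hfinC : FiniteDimensional C ((C ⊗[P] Ω[P⁄ℤ]) ⧸
      LinearMap.range ((KaehlerDifferential.mapBaseChange ℤ A P).baseChange C)) :=
    Module.Finite.equiv e3.symm
  have hfinK : FiniteDimensional C
      (LinearMap.ker ((KaehlerDifferential.mapBaseChange ℤ A P).baseChange C)) := by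
    rw [hker]; infer_instance
  refine ⟨hinj, ⟨hfinK, hfinC⟩, ?_⟩
  rw [LinearMap.index_of_injective hinj, e3.finrank_eq, Module.finrank_baseChange]

end Groth.Agent.Lib.Helper13.Fred
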