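import Mathlib
import Groth.Agent.Lib.Helper13.ArtinPoly
import Groth.Agent.Lib.Helper13.CotKer
import Groth.Agent.Lib.Helper13.SmoothStep
import Groth.Agent.Lib.Helper13.LIChain
import Groth.Agent.Lib.Helper13.Cartier

/-!
# Embedding dimension of `A[T]/(T_i^p - f_i)` (EGA 0_IV 22.x)
-/

set_option autoImplicit false

namespace Groth.Agent.Lib.Helper13.ArtinPoly

open IsLocalRing MvPolynomial TensorProduct Groth.Agent.Lib.Helper13.Fred
  Groth.Agent.Lib.Helper13.CotKer Groth.Agent.Lib.Helper13.Cartier
  Groth.Agent.Lib.Helper13.SepDiff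

universe u

variable {A : Type u} [CommRing A] [IsArtinianRing A] [IsLocalRing A] (p : ℕ) [hp : Fact p.Prime]
  [CharP A p] {r : ℕ} (f : Fin r → A)

/-- **index formula**: `embdim A = embdim B + rank ⟨1 ⊗ dF_i⟩ - r` -/
theorem finrank_cotangentSpace_eq :
    (Module.finrank (ResidueField A) (CotangentSpace A) : ℤ) =
      (Module.finrank (ResidueField (Quot p f)) (CotangentSpace (Quot p f)) : ℤ) +
        (Module.finrank (ResidueField (Quot p f))
          (Submodule.span (ResidueField (Quot p f))
            (Set.range (relVec (Quot p f) (ResidueField (Quot p f)) (rel p f)))) : ℤ) - r := by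
  obtain ⟨σA, hσA⟩ := exists_section (R := A) p (CharP.cast_eq_zero A p)
  obtain ⟨σB, hσB⟩ := exists_section (R := Quot p f) p (natCast_eq_zero p f)
  have hsurjPB : Function.Surjective (algebraMap (MvPolynomial (Fin r) A) (Quot p f)) :=
    Ideal.Quotient.mk_surjective
  have hkerPB : RingHom.ker (algebraMap (MvPolynomial (Fin r) A) (Quot p f)) =
      Ideal.span (Set.range (rel p f)) := Ideal.mk_ker
  -- the pieces
  obtain ⟨hθ₂, hθ₂i⟩ := isFred_baseChange_mapBaseChange_of_surjective
    (C := ResidueField (Quot p f)) hsurjPB (rel p f) hkerPB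
  obtain ⟨-, hθ₁, hθ₁i⟩ := isFred_baseChange_mapBaseChange_of_formallySmooth A
    (MvPolynomial (Fin r) A) (ResidueField (Quot p f))
  have hrk : Module.finrank (MvPolynomial (Fin r) A) (Ω[MvPolynomial (Fin r) A⁄A]) = r := by
    rw [Module.finrank_eq_card_basis (KaehlerDifferential.mvPolynomialBasis A (Fin r)),
      Fintype.card_fin]
  obtain ⟨hB, hBi⟩ := isFred_residue σB hσB
  obtain ⟨hA, hAi⟩ := isFred_residue σA hσA
  obtain ⟨hφ, hφi⟩ := isFred_of_finite _ (ResidueField A) (ResidueField (Quot p f)) rfl
  obtain ⟨hγ, hγi⟩ := hA.baseChange (L := ResidueField (Quot p f))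
  -- the towers
  obtain ⟨h1, h1i⟩ := isFred_tower_int A (ResidueField A) (ResidueField (Quot p f)) hγ hφ
  obtain ⟨h3, h3i⟩ := isFred_tower_int (MvPolynomial (Fin r) A) (Quot p f)
    (ResidueField (Quot p f)) hθ₂ hB
  obtain ⟨h2, h2i⟩ := isFred_tower_int A (MvPolynomial (Fin r) A)
    (ResidueField (Quot p f)) hθ₁ h3
  have e1 := h1i.trans (congrArg₂ (· + ·) hφi (hγi.trans hAi))
  have e3 := h3i.trans (congrArg₂ (· + ·) hBi hθ₂i)
  have e2 := h2i.trans (congrArg₂ (· + ·) e3 hθ₁i)
  have e := e1.symm.trans e2
  rw [hrk] at e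
  simp only [zero_add] at e
  linarith

theorem linearIndependent_relVec_iff' :
    LinearIndependent (ResidueField (Quot p f))
        (relVec (Quot p f) (ResidueField (Quot p f)) (rel p f)) ↔
      LinearIndependent (ResidueField A)
        (fun i => (1 : ResidueField A) ⊗ₜ[A] KaehlerDifferential.D ℤ A (f i)) := by
  obtain ⟨hinj, -, -⟩ := isFred_baseChange_mapBaseChange_of_formallySmooth A
    (MvPolynomial (Fin r) A) (ResidueField (Quot p f))
  refine linearIndependent_relVec_iff (rel p f) f (fun i => ?_) hinj
  show KaehlerDifferential.D ℤ _ (X i ^ p - C (f i)) = -KaehlerDifferential.D ℤ _ (C (f i))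
  rw [map_sub, derivation_pow_char p, zero_sub]

/-- **EGA 0_IV 22.x**: `embdim A = embdim B` iff the `d f_i ⊗ 1` are linearly independent -/
theorem finrank_cotangentSpace_eq_iff :
    Module.finrank (ResidueField A) (CotangentSpace A) =
        Module.finrank (ResidueField (Quot p f)) (CotangentSpace (Quot p f)) ↔
      LinearIndependent (ResidueField A)
        (fun i => (1 : ResidueField A) ⊗ₜ[A] KaehlerDifferential.D ℤ A (f i)) := by
  rw [← linearIndependent_relVec_iff' p f, linearIndependent_iff_card_eq_finrank_span,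
    Fintype.card_fin]
  have h := finrank_cotangentSpace_eq p f
  rw [Set.finrank]
  constructor
  · intro h1
    rw [h1] at h
    have : (r : ℤ) = (Module.finrank (ResidueField (Quot p f))
          (Submodule.span (ResidueField (Quot p f))
            (Set.range (relVec (Quot p f) (ResidueField (Quot p f)) (rel p f)))) : ℤ) := by
      linarith
    exact_mod_cast this
  · intro h1
    rw [← h1] at h
    have : (Module.finrank (ResidueField A) (CotangentSpace A) : ℤ) =
        Module.finrank (ResidueField (Quot p f)) (CotangentSpace (Quot p f)) := by linarith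
    exact_mod_cast this

end Groth.Agent.Lib.Helper13.ArtinPoly
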