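import Mathlib
import Groth.Agent.Lib.Helper13.Cartier
import Groth.Agent.Lib.Helper96.PerfectSmooth

/-!
# Cartier's equality in terms of `H¹(L_{L/K})` (helper13)

For a finitely generated field extension `L/K`:
`rank Ω[L⁄K] - rank H¹(L_{L/K}) = trdeg_K L`.
-/

set_option autoImplicit false

namespace Groth.Agent.Lib.Helper13.CartierH1

open TensorProduct KaehlerDifferential Algebra Groth.Agent.Lib.Helper13.Fred

universe u

section Delta

variable {F K L : Type*} [CommRing F] [CommRing K] [CommRing L] [Algebra F K] [Algebra K L]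
  [Algebra F L] [IsScalarTower F K L]

theorem h1map_comp (y : H1Cotangent ℤ L) :
    H1Cotangent.map ℤ K L L y = H1Cotangent.map F K L L (H1Cotangent.map ℤ F L L y) := by
  unfold H1Cotangent.map
  rw [← Extension.H1Cotangent.map_comp_apply]
  exact congrFun (congrArg DFunLike.coe (Extension.H1Cotangent.map_eq _ _)) y

/-- if `H¹(L_{L/F}) = 0` then `δ : H¹(L_{L/K}) → L ⊗ Ω_{K/ℤ}` is injective -/
theorem δ_int_injective [Subsingleton (H1Cotangent F L)] :
    Function.Injective (H1Cotangent.δ ℤ K L) := by
  rw [injective_iff_map_eq_zero]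
  intro x hx
  obtain ⟨y, rfl⟩ := (H1Cotangent.exact_map_δ ℤ K L x).mp hx
  rw [h1map_comp (F := F), Subsingleton.elim (H1Cotangent.map ℤ F L L y) 0, map_zero]

end Delta

section Main

variable (K L : Type u) [Field K] [Field L] [Algebra K L]

/-- for fields, `δ : H¹(L_{L/K}) → L ⊗ Ω_{K/ℤ}` is injective -/
theorem δ_int_injective_of_field : Function.Injective (H1Cotangent.δ ℤ K L) := by
  obtain ⟨p, hp⟩ := CharP.exists K
  rcases CharP.char_is_prime_or_zero K p with hpp | rfl
  · have : Fact p.Prime := ⟨hpp⟩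
    have : CharP L p := charP_of_injective_algebraMap (algebraMap K L).injective p
    let aK : Algebra (ULift.{u} (ZMod p)) K :=
      ((ZMod.castHom (dvd_refl p) K).comp
        (ULift.ringEquiv : ULift.{u} (ZMod p) ≃+* ZMod p).toRingHom).toAlgebra
    let aL : Algebra (ULift.{u} (ZMod p)) L :=
      ((algebraMap K L).comp (algebraMap (ULift.{u} (ZMod p)) K)).toAlgebra
    have : IsScalarTower (ULift.{u} (ZMod p)) K L := IsScalarTower.of_algebraMap_eq (fun _ => rfl)
    have : Algebra.FormallySmooth (ULift.{u} (ZMod p)) L :=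
      Groth.Agent.Lib.Helper96.formallySmooth_of_perfectRing_charP p
    have : Subsingleton (Algebra.H1Cotangent (ULift.{u} (ZMod p)) L) :=
      Algebra.FormallySmooth.subsingleton_h1Cotangent
    exact δ_int_injective (F := ULift.{u} (ZMod p))
  · have : CharZero K := CharP.charP_to_charZero K
    have : CharZero L := charZero_of_injective_algebraMap (algebraMap K L).injective
    have : Algebra.FormallySmooth ℚ L := Groth.Agent.Lib.Helper96.formallySmooth_of_charZero
    have : Subsingleton (Algebra.H1Cotangent ℚ L) :=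
      Algebra.FormallySmooth.subsingleton_h1Cotangent
    exact δ_int_injective (F := ℚ)

/-- `H¹(L_{L/K}) ≃ Υ_{L/K/ℤ}` -/
noncomputable def h1Equiv :
    H1Cotangent K L ≃ₗ[L] LinearMap.ker (KaehlerDifferential.mapBaseChange ℤ K L) :=
  (LinearEquiv.ofInjective (H1Cotangent.δ ℤ K L) (δ_int_injective_of_field K L)).trans
    (LinearEquiv.ofEq _ _ (H1Cotangent.exact_δ_mapBaseChange ℤ K L).linearMap_ker_eq.symm)

variable [Algebra.EssFiniteType K L]

/-- **Cartier's equality**, `H¹` form -/
theorem cartier :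
    Module.Finite L (H1Cotangent K L) ∧ Module.Finite L (Ω[L⁄K]) ∧
      (Module.finrank L (Ω[L⁄K]) : ℤ) - Module.finrank L (H1Cotangent K L) =
        Cardinal.toNat (Algebra.trdeg K L) := by
  obtain ⟨h, hi⟩ := Groth.Agent.Lib.Helper13.Cartier.isFred_of_essFiniteType K L
  obtain ⟨h1, h2⟩ := (isFred_mapBaseChange_iff ℤ K L).mp h
  rw [index_mapBaseChange] at hi
  refine ⟨Module.Finite.equiv (h1Equiv K L).symm, h2, ?_⟩
  rw [(h1Equiv K L).finrank_eq]
  omega

end Main

end Groth.Agent.Lib.Helper13.CartierH1
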