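import Mathlib
import Groth.Agent.Lib.Helper96.PSKaehler

/-!
# The completion of a derivation (helper13)

For a ring map `R → A`, an ideal `I` of `A`, and an `R`-derivation `d : A → M`, the derivation
`d̂ : Â → M̂` between `I`-adic completions (`d (I^(n+1)) ⊆ I^n M`).
-/

set_option autoImplicit false

universe u

namespace Groth.Agent.Lib.Helper13.ComplDer

open Groth.Agent.Lib.Helper96.PSKaehler

variable {R A M : Type*} [CommRing R] [CommRing A] [Algebra R A] (I : Ideal A)
  [AddCommGroup M] [Module A M] [Module R M] [IsScalarTower R A M] (d : Derivation R A M)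

/-- a representative of the `n`-th component -/
noncomputable def rep (x : AdicCompletion I A) (n : ℕ) : A :=
  (Submodule.Quotient.mk_surjective _ (x.val n)).choose

theorem mk_rep (x : AdicCompletion I A) (n : ℕ) :
    (Submodule.Quotient.mk (rep I x n) : A ⧸ (I ^ n • ⊤ : Ideal A)) = x.val n :=
  (Submodule.Quotient.mk_surjective _ (x.val n)).choose_spec

theorem sub_mem_of_mk_eq {a b : A} {n : ℕ}
    (h : (Submodule.Quotient.mk a : A ⧸ (I ^ n • ⊤ : Ideal A)) = Submodule.Quotient.mk b) :
    a - b ∈ I ^ n := by
  rw [Submodule.Quotient.eq] at h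
  simpa using h

include d in
theorem d_sub_mem {a b : A} {n : ℕ} (h : a - b ∈ I ^ (n + 1)) :
    d a - d b ∈ (I ^ n • ⊤ : Submodule A M) := by
  rw [← map_sub]
  exact derivation_mem_pow_smul_top d I n h

theorem val_eq_of_le (x : AdicCompletion I A) {m n : ℕ} (hmn : m ≤ n) (a : A)
    (h : x.val n = Submodule.Quotient.mk a) : x.val m = Submodule.Quotient.mk a := by
  rw [← x.property hmn, h]
  rfl

/-- the underlying function of the completed derivation -/
noncomputable def dHatFun (x : AdicCompletion I A) : AdicCompletion I M :=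
  ⟨fun n => Submodule.Quotient.mk (d (rep I x (n + 1))), by
    intro m n hmn
    show Submodule.Quotient.mk (d (rep I x (n + 1))) = Submodule.Quotient.mk (d (rep I x (m + 1)))
    rw [Submodule.Quotient.eq]
    apply d_sub_mem
    apply sub_mem_of_mk_eq
    rw [mk_rep, ← val_eq_of_le I x (Nat.succ_le_succ hmn) _ (mk_rep I x (n + 1)).symm]⟩

theorem dHatFun_val (x : AdicCompletion I A) (n : ℕ) (a : A)
    (h : x.val (n + 1) = Submodule.Quotient.mk a) :
    (dHatFun I d x).val n = Submodule.Quotient.mk (d a) := by
  show Submodule.Quotient.mk (d (rep I x (n + 1))) = Submodule.Quotient.mk (d a)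
  rw [Submodule.Quotient.eq]
  apply d_sub_mem
  apply sub_mem_of_mk_eq
  rw [mk_rep, h]

theorem exists_rep (x : AdicCompletion I A) (n : ℕ) :
    ∃ a : A, x.val (n + 1) = Submodule.Quotient.mk a ∧ x.val n = Submodule.Quotient.mk a := by
  obtain ⟨a, ha⟩ := Submodule.Quotient.mk_surjective _ (x.val (n + 1))
  exact ⟨a, ha.symm, val_eq_of_le I x (Nat.le_succ n) a ha.symm⟩

theorem dHatFun_add (x y : AdicCompletion I A) :
    dHatFun I d (x + y) = dHatFun I d x + dHatFun I d y := by
  apply AdicCompletion.ext
  intro n
  obtain ⟨a, ha, -⟩ := exists_rep I x n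
  obtain ⟨b, hb, -⟩ := exists_rep I y n
  rw [AdicCompletion.val_add_apply, dHatFun_val I d x n a ha, dHatFun_val I d y n b hb,
    dHatFun_val I d (x + y) n (a + b) (by rw [AdicCompletion.val_add_apply, ha, hb]; rfl), map_add]
  rfl

theorem dHatFun_smul (c : R) (x : AdicCompletion I A) :
    dHatFun I d (c • x) = c • dHatFun I d x := by
  apply AdicCompletion.ext
  intro n
  obtain ⟨a, ha, -⟩ := exists_rep I x n
  rw [AdicCompletion.val_smul_apply, dHatFun_val I d x n a ha,
    dHatFun_val I d (c • x) n (c • a) (by rw [AdicCompletion.val_smul_apply, ha]; rfl), Derivation.map_smul]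
  rfl

theorem dHatFun_one : dHatFun I d 1 = 0 := by
  apply AdicCompletion.ext
  intro n
  rw [dHatFun_val I d 1 n 1 rfl, Derivation.map_one_eq_zero]
  rfl

theorem dHatFun_mul (x y : AdicCompletion I A) :
    dHatFun I d (x * y) = x • dHatFun I d y + y • dHatFun I d x := by
  apply AdicCompletion.ext
  intro n
  obtain ⟨a, ha, ha'⟩ := exists_rep I x n
  obtain ⟨b, hb, hb'⟩ := exists_rep I y n
  rw [AdicCompletion.val_add_apply, AdicCompletion.smul_eval, AdicCompletion.smul_eval,
    dHatFun_val I d x n a ha, dHatFun_val I d y n b hb,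
    dHatFun_val I d (x * y) n (a * b) (by rw [AdicCompletion.val_mul, ha, hb]; rfl), ha', hb',
    Derivation.leibniz]
  rfl

theorem dHatFun_of (a : A) :
    dHatFun I d (AdicCompletion.of I A a) = AdicCompletion.of I M (d a) := by
  apply AdicCompletion.ext
  intro n
  rw [dHatFun_val I d _ n a rfl]
  rfl

instance isScalarTower : IsScalarTower R (AdicCompletion I A) (AdicCompletion I M) := by
  apply IsScalarTower.of_algebraMap_smul
  intro r x
  rw [AdicCompletion.algebraMap_apply]
  apply AdicCompletion.ext
  intro n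
  rw [AdicCompletion.smul_eval, AdicCompletion.val_smul_apply]
  obtain ⟨m, hm⟩ := Submodule.Quotient.mk_surjective _ (x.val n)
  rw [← hm, ← Submodule.Quotient.mk_smul, ← algebraMap_smul A r m, Submodule.Quotient.mk_smul]
  rfl

/-- The completion of a derivation. -/
noncomputable def complDer : Derivation R (AdicCompletion I A) (AdicCompletion I M) where
  toFun := dHatFun I d
  map_add' := dHatFun_add I d
  map_smul' := dHatFun_smul I d
  map_one_eq_zero' := dHatFun_one I d
  leibniz' := dHatFun_mul I d

theorem complDer_of (a : A) :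
    complDer I d (AdicCompletion.of I A a) = AdicCompletion.of I M (d a) :=
  dHatFun_of I d a

end Groth.Agent.Lib.Helper13.ComplDer
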