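import Mathlib

/-!
# Completed differentials of finite separable extensions of power series rings (helper13)

Generic pieces for EGA 0_IV 21.9.? (`rk Ω̂_{A/k} = r`).
-/

namespace Groth.Agent.Lib.Helper13.ComplDiff

open TensorProduct

universe u

section Ext

/-- a derivation of `P` extends to a formally étale `P`-algebra -/
theorem exists_derivation_extension (k P E : Type*) [CommRing k] [CommRing P] [CommRing E]
    [Algebra k P] [Algebra k E] [Algebra P E] [IsScalarTower k P E] [Algebra.FormallyEtale P E]
    (δ : Derivation k P P) :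
    ∃ D : Derivation k E E, ∀ f : P, D (algebraMap P E f) = algebraMap P E (δ f) := by
  let ψ : Ω[P⁄k] →ₗ[P] E := (Algebra.linearMap P E) ∘ₗ δ.liftKaehlerDifferential
  let Ψ : E ⊗[P] Ω[P⁄k] →ₗ[E] E := LinearMap.liftBaseChange E ψ
  let e := KaehlerDifferential.tensorKaehlerEquivOfFormallyEtale k P E
  refine ⟨(Ψ ∘ₗ e.symm.toLinearMap).compDer (KaehlerDifferential.D k E), fun f => ?_⟩
  show Ψ (e.symm (KaehlerDifferential.D k E (algebraMap P E f))) = _
  rw [KaehlerDifferential.tensorKaehlerEquivOfFormallyEtale_symm_D_algebraMap]
  show LinearMap.liftBaseChange E ψ (1 ⊗ₜ _) = _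
  rw [LinearMap.liftBaseChange_tmul, one_smul]
  show algebraMap P E (δ.liftKaehlerDifferential (KaehlerDifferential.D k P f)) = _
  rw [Derivation.liftKaehlerDifferential_comp_D]

end Ext

section Poly

variable {k P A M : Type*} [CommRing k] [CommRing P] [CommRing A] [Algebra k P] [Algebra k A]
  [Algebra P A] [IsScalarTower k P A] [AddCommGroup M] [Module A M] [Module k M]
  [IsScalarTower k A M] (D : Derivation k A M)

/-- the submodule generated by `D (P)` -/
def U : Submodule A M := Submodule.span A (Set.range fun c : P => D (algebraMap P A c))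

theorem derivation_aeval_sub_mem (a : A) (q : Polynomial P) :
    D (Polynomial.aeval a q) - Polynomial.aeval a (Polynomial.derivative q) • D a ∈
      U (P := P) D := by
  induction q using Polynomial.induction_on' with
  | add q₁ q₂ h₁ h₂ =>
    rw [map_add, map_add, Polynomial.derivative_add, map_add, add_smul]
    have : D (Polynomial.aeval a q₁) + D (Polynomial.aeval a q₂) -
        (Polynomial.aeval a (Polynomial.derivative q₁) • D a +
          Polynomial.aeval a (Polynomial.derivative q₂) • D a) =
        (D (Polynomial.aeval a q₁) - Polynomial.aeval a (Polynomial.derivative q₁) • D a) +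
        (D (Polynomial.aeval a q₂) - Polynomial.aeval a (Polynomial.derivative q₂) • D a) := by
      abel
    rw [this]; exact add_mem h₁ h₂
  | monomial n c =>
    rw [Polynomial.aeval_monomial, Polynomial.derivative_monomial, Polynomial.aeval_monomial,
      Derivation.leibniz, Derivation.leibniz_pow, map_mul, map_natCast]
    have : algebraMap P A c • n • a ^ (n - 1) • D a + a ^ n • D (algebraMap P A c) -
        (algebraMap P A c * (n : A) * a ^ (n - 1)) • D a = a ^ n • D (algebraMap P A c) := by
      rw [← Nat.cast_smul_eq_nsmul A n, smul_smul, smul_smul, mul_assoc]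
      abel
    rw [this]
    exact Submodule.smul_mem _ _ (Submodule.subset_span ⟨c, rfl⟩)

theorem prod_smul_D_mem {m : ℕ} (a : Fin m → A) (ha : Submodule.span P (Set.range a) = ⊤)
    (s : Fin m → A) (hs : ∀ j, s j • D (a j) ∈ U (P := P) D) (x : A) :
    (∏ j, s j) • D x ∈ U (P := P) D := by
  have hx : x ∈ Submodule.span P (Set.range a) := by rw [ha]; trivial
  obtain ⟨f, rfl⟩ := (Submodule.mem_span_range_iff_exists_fun P).mp hx
  rw [map_sum, Finset.smul_sum]
  refine Submodule.sum_mem _ fun j _ => ?_
  rw [Algebra.smul_def, Derivation.leibniz, smul_add]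
  refine add_mem ?_ ?_
  · obtain ⟨c, hc⟩ := Finset.dvd_prod_of_mem s (Finset.mem_univ j)
    rw [hc, smul_smul]
    have : (s j * c * algebraMap P A (f j)) • D (a j) =
        (c * algebraMap P A (f j)) • (s j • D (a j)) := by
      rw [smul_smul]; congr 1; ring
    rw [this]
    exact Submodule.smul_mem _ _ (hs j)
  · rw [smul_smul]
    exact Submodule.smul_mem _ _ (Submodule.subset_span ⟨f j, rfl⟩)

end Poly

end Groth.Agent.Lib.Helper13.ComplDiff
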