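import Mathlib
import Groth.Agent.Lib.Helper96.PSKaehler
import Groth.Agent.Lib.Helper13.ComplDiff

/-!
# Completed differentials, power series part (helper13)
-/

namespace Groth.Agent.Lib.Helper13.ComplDiff

open TensorProduct MvPowerSeries Groth.Agent.Lib.Helper96.PSKaehler
  Groth.Agent.Lib.Helper76.PSComplete

universe u

section PS

variable {k : Type u} [CommRing k] (r : ℕ) {A M : Type*} [CommRing A] [Algebra k A]
  [Algebra (MvPowerSeries (Fin r) k) A] [IsScalarTower k (MvPowerSeries (Fin r) k) A]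
  [AddCommGroup M] [Module A M] [Module k M] [IsScalarTower k A M]
  [Module (MvPowerSeries (Fin r) k) M] [IsScalarTower (MvPowerSeries (Fin r) k) A M]
  [IsScalarTower k (MvPowerSeries (Fin r) k) M]
  (D : Derivation k A M) (J : Ideal A)

theorem U_le (hJ : (varIdeal (Fin r) k).map (algebraMap (MvPowerSeries (Fin r) k) A) ≤ J) (n : ℕ) :
    U (P := MvPowerSeries (Fin r) k) D ≤
      Submodule.span A (Set.range fun i : Fin r =>
        D (algebraMap (MvPowerSeries (Fin r) k) A (X i))) ⊔ (J ^ n • ⊤ : Submodule A M) := by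
  let P := MvPowerSeries (Fin r) k
  let ℓ : Ω[P⁄k] →ₗ[P] M := (D.compAlgebraMap P).liftKaehlerDifferential
  have hℓ : ∀ f : P, ℓ (KaehlerDifferential.D k P f) = D (algebraMap P A f) := fun f =>
    Derivation.liftKaehlerDifferential_comp_D _ f
  have hmem : ∀ ω ∈ (varIdeal (Fin r) k ^ n • ⊤ : Submodule P (Ω[P⁄k])),
      ℓ ω ∈ (J ^ n • ⊤ : Submodule A M) := by
    intro ω hω
    refine Submodule.smul_induction_on hω ?_ ?_
    · intro c hc ω' _
      rw [map_smul, ← algebraMap_smul A c (ℓ ω')]
      refine Submodule.smul_mem_smul ?_ Submodule.mem_top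
      have h1 : algebraMap P A c ∈ ((varIdeal (Fin r) k) ^ n).map (algebraMap P A) :=
        Ideal.mem_map_of_mem _ hc
      rw [Ideal.map_pow] at h1
      exact Ideal.pow_right_mono hJ n h1
    · intro x y hx hy
      rw [map_add]; exact add_mem hx hy
  unfold U
  rw [Submodule.span_le]
  rintro _ ⟨c, rfl⟩
  show D (algebraMap P A c) ∈ _
  have h := hmem _ (sub_sMap_mem k r n (KaehlerDifferential.D k P c))
  rw [map_sub, hℓ, sMap_apply, map_sum] at h
  have h2 : D (algebraMap P A c) =
      (∑ i, ℓ (dform k r i (KaehlerDifferential.D k P c) • KaehlerDifferential.D k P (X i))) +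
      (D (algebraMap P A c) -
        ∑ i, ℓ (dform k r i (KaehlerDifferential.D k P c) • KaehlerDifferential.D k P (X i))) := by
    abel
  rw [h2]
  refine Submodule.add_mem_sup (Submodule.sum_mem _ fun i _ => ?_) h
  rw [map_smul, hℓ, ← algebraMap_smul A (dform k r i (KaehlerDifferential.D k P c))]
  exact Submodule.smul_mem _ _ (Submodule.subset_span ⟨i, rfl⟩)

end PS

end Groth.Agent.Lib.Helper13.ComplDiff
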