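import Mathlib
import Groth.Agent.S3866

/-!
# Completed differentials: completion lemmas (helper13)
-/

namespace Groth.Agent.Lib.Helper13.ComplDiff

open TensorProduct IsLocalRing

universe u

section Aux

theorem map_mem_smul_top {R M N : Type*} [CommRing R] [AddCommGroup M] [Module R M]
    [AddCommGroup N] [Module R N] (f : M →ₗ[R] N) (I : Ideal R) {x : M}
    (hx : x ∈ (I • ⊤ : Submodule R M)) : f x ∈ (I • ⊤ : Submodule R N) := by
  have h1 : f x ∈ (I • ⊤ : Submodule R M).map f := Submodule.mem_map_of_mem hx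
  rw [Submodule.map_smul''] at h1
  exact Submodule.smul_mono le_rfl le_top h1

end Aux

section Compl

variable {A : Type u} [CommRing A] [IsLocalRing A] [IsNoetherianRing A] {M : Type u}
  [AddCommGroup M] [Module A M] [Module.Finite A (AdicCompletion (maximalIdeal A) M)]

theorem smul_mem_span_of_forall {ι : Type*} (t : ι → M) (s : A)
    (h : ∀ (ω : M) (n : ℕ), s • ω ∈
      Submodule.span A (Set.range t) ⊔ (maximalIdeal A ^ n • ⊤ : Submodule A M)) :
    ∀ ω' : AdicCompletion (maximalIdeal A) M, s • ω' ∈ Submodule.span A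
      (Set.range fun i => AdicCompletion.of (maximalIdeal A) M (t i)) := by
  set 𝔪 := maximalIdeal A with h𝔪
  set M' := Submodule.span A (Set.range fun i => AdicCompletion.of 𝔪 M (t i)) with hM'
  intro ω'
  have hH : IsHausdorff 𝔪 (AdicCompletion 𝔪 M ⧸ M') := inferInstance
  rw [← Submodule.Quotient.mk_eq_zero]
  apply hH.haus'
  intro n
  rw [SModEq.zero]
  obtain ⟨ω, hω⟩ := Submodule.mkQ_surjective _ (AdicCompletion.eval 𝔪 M n ω')
  have hker : ω' - AdicCompletion.of 𝔪 M ω ∈
      (𝔪 ^ n • ⊤ : Submodule A (AdicCompletion 𝔪 M)) := by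
    rw [AdicCompletion.pow_smul_top_eq_ker_eval (IsNoetherian.noetherian _), LinearMap.mem_ker,
      map_sub, AdicCompletion.eval_of, ← hω, sub_self]
  obtain ⟨m₀, hm₀, ρ, hρ, hsum⟩ := Submodule.mem_sup.mp (h ω n)
  have hdec : s • ω' = AdicCompletion.of 𝔪 M m₀ +
      (AdicCompletion.of 𝔪 M ρ + s • (ω' - AdicCompletion.of 𝔪 M ω)) := by
    rw [← add_assoc, ← map_add, hsum, map_smul, smul_sub]; abel
  have hm₀' : AdicCompletion.of 𝔪 M m₀ ∈ M' := by
    have : Submodule.span A (Set.range t) ≤ M'.comap (AdicCompletion.of 𝔪 M) := by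
      rw [Submodule.span_le]
      rintro _ ⟨i, rfl⟩
      exact Submodule.subset_span ⟨i, rfl⟩
    exact this hm₀
  have hin : AdicCompletion.of 𝔪 M ρ + s • (ω' - AdicCompletion.of 𝔪 M ω) ∈
      (𝔪 ^ n • ⊤ : Submodule A (AdicCompletion 𝔪 M)) :=
    add_mem (map_mem_smul_top (AdicCompletion.of 𝔪 M) _ hρ) (Submodule.smul_mem _ _ hker)
  rw [hdec, Submodule.Quotient.mk_add, (Submodule.Quotient.mk_eq_zero _).mpr hm₀', zero_add]
  exact map_mem_smul_top M'.mkQ _ hin

end Compl

section Extend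

variable {A : Type u} [CommRing A] [IsNoetherianRing A] (I : Ideal A) [IsAdicComplete I A]
  {M E : Type u} [AddCommGroup M] [Module A M] [AddCommGroup E] [Module A E]

/-- a linear map into a finitely generated submodule extends to the completion -/
theorem exists_extend (ψ : M →ₗ[A] E) (N : Submodule A E) (hN : N.FG)
    (hψ : LinearMap.range ψ ≤ N) :
    ∃ ψ' : AdicCompletion I M →ₗ[A] E, ∀ m, ψ' (AdicCompletion.of I M m) = ψ m := by
  haveI : Module.Finite A N := Module.Finite.iff_fg.mpr hN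
  haveI : IsAdicComplete I N := Groth.Agent.S3866.result A I N
  let ψ₀ : M →ₗ[A] N := ψ.codRestrict N fun m => hψ ⟨m, rfl⟩
  let μ : AdicCompletion I M →ₗ[A] AdicCompletion I N :=
    (AdicCompletion.map I ψ₀).restrictScalars A
  refine ⟨N.subtype ∘ₗ (AdicCompletion.ofLinearEquiv I N).symm.toLinearMap ∘ₗ μ, fun m => ?_⟩
  show ((AdicCompletion.ofLinearEquiv I N).symm (AdicCompletion.map I ψ₀ (AdicCompletion.of I M m)) : E)
    = ψ m
  rw [AdicCompletion.map_of, AdicCompletion.ofLinearEquiv_symm_of]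
  rfl

end Extend

end Groth.Agent.Lib.Helper13.ComplDiff
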