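import Mathlib
import Groth.Agent.Lib.Helper13.ComplDiff

/-!
# Completed differentials: separability part (helper13)
-/

namespace Groth.Agent.Lib.Helper13.ComplDiff

open TensorProduct Polynomial

universe u

section Sep

variable (P : Type u) [CommRing P] [IsDomain P] (A : Type u) [CommRing A] [IsDomain A]
  [Algebra P A]

theorem formallyEtale_and_ne_zero
    (hinj : Function.Injective (algebraMap P A))
    (hsep : ∀ a : A, ∃ Q : Polynomial P, Polynomial.aeval a Q = 0 ∧
      (Q.map (algebraMap P (FractionRing P))).Separable) :
    Algebra.FormallyEtale P (FractionRing A) ∧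
    ∀ (a : A) (Q : Polynomial P), Polynomial.aeval a Q = 0 →
      (Q.map (algebraMap P (FractionRing P))).Separable →
      Polynomial.aeval a (Polynomial.derivative Q) ≠ 0 := by
  set E := FractionRing A with hE
  have hinjE : Function.Injective (algebraMap P E) := by
    rw [IsScalarTower.algebraMap_eq P A E]
    exact (IsFractionRing.injective A E).comp hinj
  haveI : FaithfulSMul P E := (faithfulSMul_iff_algebraMap_injective P E).mpr hinjE
  letI := FractionRing.liftAlgebra P E
  haveI : IsScalarTower P (FractionRing P) E := FractionRing.isScalarTower_liftAlgebra P E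
  have hroot : ∀ (a : A) (Q : Polynomial P), Polynomial.aeval a Q = 0 →
      Polynomial.aeval (algebraMap A E a) (Q.map (algebraMap P (FractionRing P))) = 0 := by
    intro a Q hQ
    rw [Polynomial.aeval_map_algebraMap, Polynomial.aeval_algebraMap_apply, hQ, map_zero]
  refine ⟨?_, ?_⟩
  · haveI : Algebra.IsSeparable (FractionRing P) E := by
      rw [← separableClosure.eq_top_iff, eq_top_iff]
      intro x _
      obtain ⟨a, s, hs, rfl⟩ := IsFractionRing.div_surjective A x
      have key : ∀ a : A, algebraMap A E a ∈ separableClosure (FractionRing P) E := by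
        intro a
        rw [mem_separableClosure_iff]
        obtain ⟨Q, hQ0, hQs⟩ := hsep a
        exact hQs.of_dvd (minpoly.dvd _ _ (hroot a Q hQ0))
      exact div_mem (key a) (key s)
    haveI : Algebra.FormallyEtale (FractionRing P) E := .of_isSeparable _ _
    haveI : Algebra.FormallyEtale P (FractionRing P) := .of_isLocalization (nonZeroDivisors P)
    exact Algebra.FormallyEtale.comp P (FractionRing P) E
  · intro a Q hQ0 hQs h0
    have h1 := hQs.aeval_derivative_ne_zero (hroot a Q hQ0)
    apply h1
    rw [Polynomial.derivative_map, Polynomial.aeval_map_algebraMap,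
      Polynomial.aeval_algebraMap_apply, h0, map_zero]

end Sep

end Groth.Agent.Lib.Helper13.ComplDiff
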