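import Mathlib
import Groth.Agent.Lib.Helper13.ComplDiff2
import Groth.Agent.Lib.Helper13.ComplDiff3
import Groth.Agent.Lib.Helper13.ComplDiff4
import Groth.Agent.S4558
import Groth.Agent.Lib.Helper76.PSCRing

/-!
# `rk Ω̂_{A/k} = r` for `A` finite separable over `k[[T_1..T_r]]` (helper13, EGA 0_IV 21.9.?)
-/

namespace Groth.Agent.Lib.Helper13.ComplDiff

open TensorProduct IsLocalRing MvPowerSeries Polynomial
  Groth.Agent.Lib.Helper76.PSComplete

universe u

set_option maxHeartbeats 800000 in
theorem main (k : Type u) [Field k] (r : ℕ) (A : Type u) [CommRing A]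
    [IsDomain A] [IsLocalRing A] [IsNoetherianRing A] [IsAdicComplete (maximalIdeal A) A]
    [Algebra (MvPowerSeries (Fin r) k) A] [Algebra k A]
    [IsScalarTower k (MvPowerSeries (Fin r) k) A]
    (hinj : Function.Injective (algebraMap (MvPowerSeries (Fin r) k) A))
    [Module.Finite (MvPowerSeries (Fin r) k) A]
    (hsep : ∀ a : A, ∃ P : Polynomial (MvPowerSeries (Fin r) k), Polynomial.aeval a P = 0 ∧
      (P.map (algebraMap (MvPowerSeries (Fin r) k)
        (FractionRing (MvPowerSeries (Fin r) k)))).Separable) :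
    Module.finrank (FractionRing A)
      (FractionRing A ⊗[A] AdicCompletion (maximalIdeal A) (Ω[A⁄k])) = r := by
  classical
  let P := MvPowerSeries (Fin r) k
  let E := FractionRing A
  let 𝔪 := maximalIdeal A
  haveI : IsDomain P := NoZeroDivisors.to_isDomain _
  obtain ⟨hfe, hne⟩ := formallyEtale_and_ne_zero P A hinj hsep
  haveI := hfe
  obtain ⟨m, a, ha⟩ := Module.Finite.exists_fin (R := P) (M := A)
  let d := KaehlerDifferential.D k A
  let φ := algebraMap P A
  let t : Fin r → Ω[A⁄k] := fun i => d (φ (X i))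
  have hdspan : ∀ ω : Ω[A⁄k], ω ∈ Submodule.span A (Set.range d) := fun ω => by
    rw [KaehlerDifferential.span_range_derivation]; trivial
  -- the structure map is local
  have hJ : (varIdeal (Fin r) k).map φ ≤ 𝔪 := by
    have h1 : (𝔪.comap φ) = maximalIdeal P := by
      haveI : (𝔪.comap φ).IsMaximal := Ideal.isMaximal_comap_of_isIntegral_of_isMaximal 𝔪
      exact IsLocalRing.eq_maximalIdeal inferInstance
    calc (varIdeal (Fin r) k).map φ ≤ (maximalIdeal P).map φ :=
          Ideal.map_mono Groth.Agent.Lib.Helper76.PSCRing.varIdeal_le_maximalIdeal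
      _ = (𝔪.comap φ).map φ := by rw [h1]
      _ ≤ 𝔪 := Ideal.map_comap_le
  -- the element `s`
  have hQ : ∀ j, ∃ Q : Polynomial P, Polynomial.aeval (a j) Q = 0 ∧
      (Q.map (algebraMap P (FractionRing P))).Separable := fun j => hsep (a j)
  choose Q hQ0 hQs using hQ
  let sj : Fin m → A := fun j => Polynomial.aeval (a j) (Polynomial.derivative (Q j))
  have hsj : ∀ j, sj j ≠ 0 := fun j => hne (a j) (Q j) (hQ0 j) (hQs j)
  let s : A := ∏ j, sj j
  have hs0 : s ≠ 0 := Finset.prod_ne_zero_iff.mpr fun j _ => hsj j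
  have hsjU : ∀ j, sj j • d (a j) ∈ U (P := P) d := by
    intro j
    have h := derivation_aeval_sub_mem (P := P) d (a j) (Q j)
    rw [hQ0 j, map_zero, zero_sub] at h
    exact neg_mem_iff.mp h
  have hsU : ∀ ω : Ω[A⁄k], s • ω ∈ U (P := P) d := by
    intro ω
    induction hdspan ω using Submodule.span_induction with
    | mem x hx => obtain ⟨y, rfl⟩ := hx; exact prod_smul_D_mem d a ha sj hsjU y
    | zero => rw [smul_zero]; exact zero_mem _
    | add x y _ _ hx hy => rw [smul_add]; exact add_mem hx hy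
    | smul c x _ hx => rw [smul_comm]; exact Submodule.smul_mem _ _ hx
  have hsn : ∀ (ω : Ω[A⁄k]) (n : ℕ), s • ω ∈
      Submodule.span A (Set.range t) ⊔ (𝔪 ^ n • ⊤ : Submodule A (Ω[A⁄k])) :=
    fun ω n => U_le r d 𝔪 hJ n (hsU ω)
  -- finiteness of the completion
  haveI : Module.Finite A (Ω[A⁄k] ⧸ (𝔪 • ⊤ : Submodule A (Ω[A⁄k]))) := by
    let G : Set (Ω[A⁄k]) := Set.range t ∪ Set.range fun j => d (a j)
    have hGfin : G.Finite := (Set.finite_range _).union (Set.finite_range _)
    have hGtop : ∀ ω : Ω[A⁄k], ω ∈ Submodule.span A G ⊔ (𝔪 • ⊤ : Submodule A (Ω[A⁄k])) := by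
      intro ω
      induction hdspan ω using Submodule.span_induction with
      | mem x hx =>
        obtain ⟨y, rfl⟩ := hx
        have hy : y ∈ Submodule.span P (Set.range a) := by rw [ha]; trivial
        obtain ⟨f, rfl⟩ := (Submodule.mem_span_range_iff_exists_fun P).mp hy
        rw [map_sum]
        refine Submodule.sum_mem _ fun j _ => ?_
        rw [Algebra.smul_def, Derivation.leibniz]
        refine add_mem (Submodule.smul_mem _ _ (Submodule.mem_sup_left
          (Submodule.subset_span (Or.inr ⟨j, rfl⟩)))) (Submodule.smul_mem _ _ ?_)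
        have h1 : d (algebraMap P A (f j)) ∈ U (P := P) d := Submodule.subset_span ⟨f j, rfl⟩
        have h2 := U_le r d 𝔪 hJ 1 h1
        rw [pow_one] at h2
        have h3 : Submodule.span A (Set.range t) ⊔ (𝔪 • ⊤ : Submodule A (Ω[A⁄k])) ≤
            Submodule.span A G ⊔ (𝔪 • ⊤ : Submodule A (Ω[A⁄k])) :=
          sup_le_sup_right (Submodule.span_mono Set.subset_union_left) _
        exact h3 h2
      | zero => exact zero_mem _
      | add x y _ _ hx hy => exact add_mem hx hy
      | smul c x _ hx => exact Submodule.smul_mem _ _ hx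
    haveI : Module.Finite A (Submodule.span A G) :=
      Module.Finite.iff_fg.mpr (Submodule.fg_span hGfin)
    refine Module.Finite.of_surjective
      ((𝔪 • ⊤ : Submodule A (Ω[A⁄k])).mkQ ∘ₗ (Submodule.span A G).subtype) ?_
    intro z
    obtain ⟨ω, rfl⟩ := Submodule.Quotient.mk_surjective _ z
    obtain ⟨g, hg, ρ, hρ, hsum⟩ := Submodule.mem_sup.mp (hGtop ω)
    refine ⟨⟨g, hg⟩, ?_⟩
    show Submodule.Quotient.mk g = Submodule.Quotient.mk ω
    rw [Submodule.Quotient.eq, ← hsum]
    simpa using hρ
  haveI : Module.Finite A (AdicCompletion 𝔪 (Ω[A⁄k])) :=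
    Groth.Agent.S4558.finite_adicCompletion_of_finite_quotient 𝔪 (IsNoetherian.noetherian _) _
  -- the derivations `D_i`
  have hD : ∀ i : Fin r, ∃ D : Derivation k E E,
      ∀ f : P, D (algebraMap P E f) = algebraMap P E (pderiv k i f) :=
    fun i => exists_derivation_extension k P E (pderiv k i)
  choose DE hDE using hD
  let Di : Fin r → Derivation k A E := fun i => (DE i).compAlgebraMap A
  have hDi : ∀ i (f : P), Di i (φ f) = algebraMap A E (φ (pderiv k i f)) := by
    intro i f
    show DE i (algebraMap A E (algebraMap P A f)) = _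
    rw [← IsScalarTower.algebraMap_apply P A E, hDE, IsScalarTower.algebraMap_apply P A E]
  let ψ : Fin r → Ω[A⁄k] →ₗ[A] E := fun i => (Di i).liftKaehlerDifferential
  have hψ : ∀ i x, ψ i (d x) = Di i x := fun i x =>
    Derivation.liftKaehlerDifferential_comp_D _ x
  have hN : ∀ i, ∃ N : Submodule A E, N.FG ∧ LinearMap.range (ψ i) ≤ N := by
    intro i
    refine ⟨Submodule.span A ({1} ∪ Set.range fun j => Di i (a j)),
      Submodule.fg_span ((Set.finite_singleton _).union (Set.finite_range _)), ?_⟩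
    rintro _ ⟨ω, rfl⟩
    induction hdspan ω using Submodule.span_induction with
    | mem x hx =>
      obtain ⟨y, rfl⟩ := hx
      rw [hψ]
      have hy : y ∈ Submodule.span P (Set.range a) := by rw [ha]; trivial
      obtain ⟨f, rfl⟩ := (Submodule.mem_span_range_iff_exists_fun P).mp hy
      rw [map_sum]
      refine Submodule.sum_mem _ fun j _ => ?_
      rw [Algebra.smul_def, Derivation.leibniz, hDi]
      refine add_mem (Submodule.smul_mem _ _ (Submodule.subset_span (Or.inr ⟨j, rfl⟩))) ?_
      rw [Algebra.algebraMap_eq_smul_one, smul_smul]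
      exact Submodule.smul_mem _ _ (Submodule.subset_span (Or.inl rfl))
    | zero => rw [map_zero]; exact zero_mem _
    | add x y _ _ hx hy => rw [map_add]; exact add_mem hx hy
    | smul c x _ hx => rw [map_smul]; exact Submodule.smul_mem _ _ hx
  have hext : ∀ i, ∃ ψ' : AdicCompletion 𝔪 (Ω[A⁄k]) →ₗ[A] E,
      ∀ ω, ψ' (AdicCompletion.of 𝔪 _ ω) = ψ i ω := by
    intro i
    obtain ⟨N, hNfg, hNr⟩ := hN i
    exact exists_extend 𝔪 (ψ i) N hNfg hNr
  choose ψ' hψ' using hext
  let β : Fin r → E ⊗[A] AdicCompletion 𝔪 (Ω[A⁄k]) →ₗ[E] E :=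
    fun i => LinearMap.liftBaseChange E (ψ' i)
  let t' : Fin r → AdicCompletion 𝔪 (Ω[A⁄k]) := fun j => AdicCompletion.of 𝔪 _ (t j)
  let v : Fin r → E ⊗[A] AdicCompletion 𝔪 (Ω[A⁄k]) := fun j => 1 ⊗ₜ t' j
  have hβv : ∀ i j, β i (v j) = if i = j then 1 else 0 := by
    intro i j
    show LinearMap.liftBaseChange E (ψ' i) (1 ⊗ₜ t' j) = _
    rw [LinearMap.liftBaseChange_tmul, one_smul, hψ', hψ, hDi]
    split_ifs with h
    · subst h; rw [pderiv_X_self, map_one, map_one]
    · rw [pderiv_X_of_ne (fun e => h e.symm), map_zero, map_zero]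
  have hli : LinearIndependent E v := by
    rw [Fintype.linearIndependent_iff]
    intro c hc i
    have h1 := congrArg (β i) hc
    rw [map_sum, map_zero] at h1
    simp_rw [map_smul, hβv, smul_eq_mul, mul_ite, mul_one, mul_zero] at h1
    rw [Finset.sum_ite_eq Finset.univ i] at h1
    simpa using h1
  have hsp : ⊤ ≤ Submodule.span E (Set.range v) := by
    have hcompl := smul_mem_span_of_forall t s hsn
    have hs' : algebraMap A E s ≠ 0 := fun h =>
      hs0 (IsFractionRing.injective A E (by rw [h, map_zero]))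
    rintro z -
    induction z using TensorProduct.induction_on with
    | zero => exact zero_mem _
    | add x y hx hy => exact add_mem hx hy
    | tmul e ω' =>
      have h1 : e ⊗ₜ[A] ω' = (e / algebraMap A E s) ⊗ₜ[A] (s • ω') := by
        rw [← TensorProduct.smul_tmul, Algebra.smul_def, mul_div_cancel₀ _ hs']
      obtain ⟨c, hc⟩ := (Submodule.mem_span_range_iff_exists_fun A).mp (hcompl ω')
      rw [h1, ← hc, TensorProduct.tmul_sum]
      refine Submodule.sum_mem _ fun j _ => ?_
      have h2 : (e / algebraMap A E s) ⊗ₜ[A] (c j • t' j) =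
          (c j • (e / algebraMap A E s)) • v j := by
        show _ = (c j • (e / algebraMap A E s)) • ((1 : E) ⊗ₜ[A] t' j)
        rw [TensorProduct.smul_tmul', smul_eq_mul, mul_one, TensorProduct.smul_tmul]
      rw [h2]
      exact Submodule.smul_mem _ _ (Submodule.subset_span ⟨j, rfl⟩)
  let b : Module.Basis (Fin r) E (E ⊗[A] AdicCompletion 𝔪 (Ω[A⁄k])) := Module.Basis.mk hli hsp
  rw [Module.finrank_eq_card_basis b, Fintype.card_fin]

end Groth.Agent.Lib.Helper13.ComplDiff
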