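import Mathlib
import Groth.Agent.Lib.Helper13.ComplDiff3

/-!
# Exactness of completion when the completed middle term is finite (helper13)
-/

namespace Groth.Agent.Lib.Helper13.ComplDiff

open IsLocalRing

universe u

theorem ker_le_range {S : Type u} [CommRing S] [IsLocalRing S] [IsNoetherianRing S]
    {K' M N : Type u} [AddCommGroup K'] [Module S K'] [AddCommGroup M] [Module S M]
    [AddCommGroup N] [Module S N]
    [Module.Finite S (AdicCompletion (maximalIdeal S) M)]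
    (f : K' →ₗ[S] M) (g : M →ₗ[S] N) (hfg : Function.Exact f g) (hg : Function.Surjective g) :
    ∀ x : AdicCompletion (maximalIdeal S) M, AdicCompletion.map (maximalIdeal S) g x = 0 →
      ∃ y, AdicCompletion.map (maximalIdeal S) f y = x := by
  set 𝔪 := maximalIdeal S with h𝔪
  have hfgI : (𝔪).FG := IsNoetherian.noetherian _
  let F : AdicCompletion 𝔪 K' →ₗ[S] AdicCompletion 𝔪 M := (AdicCompletion.map 𝔪 f).restrictScalars S
  let G : AdicCompletion 𝔪 M →ₗ[S] AdicCompletion 𝔪 N := (AdicCompletion.map 𝔪 g).restrictScalars S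
  have hGF : ∀ y, G (F y) = 0 := by
    intro y
    show AdicCompletion.map 𝔪 g (AdicCompletion.map 𝔪 f y) = 0
    rw [AdicCompletion.map_comp_apply, hfg.linearMap_comp_eq_zero, AdicCompletion.map_zero]
    rfl
  set I : Submodule S (AdicCompletion 𝔪 M) := LinearMap.range F with hI
  set K₁ : Submodule S (AdicCompletion 𝔪 M) := LinearMap.ker G with hK₁
  have hIK : I ≤ K₁ := by
    rintro _ ⟨y, rfl⟩
    exact hGF y
  haveI : IsNoetherian S (AdicCompletion 𝔪 M) := isNoetherian_of_isNoetherianRing_of_finite S _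
  have hK₁fg : K₁.FG := IsNoetherian.noetherian K₁
  obtain ⟨c, hc⟩ := Ideal.exists_pow_inf_eq_pow_smul 𝔪 K₁
  have hAR : (𝔪 ^ (c + 1) • ⊤ : Submodule S (AdicCompletion 𝔪 M)) ⊓ K₁ ≤ 𝔪 • K₁ := by
    rw [hc (c + 1) (Nat.le_succ c), Nat.add_sub_cancel_left, pow_one]
    exact Submodule.smul_mono le_rfl inf_le_right
  have hmain : K₁ ≤ I ⊔ 𝔪 • K₁ := by
    intro x hx
    set n := c + 1 with hn
    obtain ⟨m, hm⟩ := Submodule.mkQ_surjective _ (AdicCompletion.eval 𝔪 M n x)
    have hy : x - AdicCompletion.of 𝔪 M m ∈ (𝔪 ^ n • ⊤ : Submodule S (AdicCompletion 𝔪 M)) := by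
      rw [AdicCompletion.pow_smul_top_eq_ker_eval hfgI, LinearMap.mem_ker, map_sub,
        AdicCompletion.eval_of, ← hm, sub_self]
    have hGy : G (x - AdicCompletion.of 𝔪 M m) ∈
        (𝔪 ^ n • ⊤ : Submodule S (AdicCompletion 𝔪 N)) := map_mem_smul_top G _ hy
    have hgm : g m ∈ (𝔪 ^ n • ⊤ : Submodule S N) := by
      have h1 : G (AdicCompletion.of 𝔪 M m) = AdicCompletion.of 𝔪 N (g m) :=
        AdicCompletion.map_of 𝔪 g m
      have hx0 : G x = 0 := hx
      rw [map_sub, hx0, zero_sub, h1, neg_mem_iff,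
        AdicCompletion.pow_smul_top_eq_ker_eval hfgI, LinearMap.mem_ker,
        AdicCompletion.eval_of] at hGy
      exact (Submodule.Quotient.mk_eq_zero _).mp hGy
    have hmap : (𝔪 ^ n • ⊤ : Submodule S N) = (𝔪 ^ n • ⊤ : Submodule S M).map g := by
      rw [Submodule.map_smul'', Submodule.map_top, LinearMap.range_eq_top.mpr hg]
    rw [hmap] at hgm
    obtain ⟨m', hm', hgm'⟩ := hgm
    obtain ⟨κ, hκ⟩ := (hfg (m - m')).mp (by rw [map_sub, hgm', sub_self])
    have hz : x - F (AdicCompletion.of 𝔪 K' κ) ∈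
        (𝔪 ^ n • ⊤ : Submodule S (AdicCompletion 𝔪 M)) ⊓ K₁ := by
      have hFκ : F (AdicCompletion.of 𝔪 K' κ) = AdicCompletion.of 𝔪 M (m - m') := by
        show AdicCompletion.map 𝔪 f (AdicCompletion.of 𝔪 K' κ) = _
        rw [AdicCompletion.map_of, hκ]
      refine ⟨?_, K₁.sub_mem hx (hIK ⟨_, rfl⟩)⟩
      have : x - F (AdicCompletion.of 𝔪 K' κ) =
          (x - AdicCompletion.of 𝔪 M m) + AdicCompletion.of 𝔪 M m' := by
        rw [hFκ, map_sub]; abel
      rw [this]
      exact add_mem hy (map_mem_smul_top (AdicCompletion.of 𝔪 M) _ hm')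
    have : x = F (AdicCompletion.of 𝔪 K' κ) + (x - F (AdicCompletion.of 𝔪 K' κ)) := by abel
    rw [this]
    exact Submodule.add_mem_sup ⟨_, rfl⟩ (hAR hz)
  have hle : K₁ ≤ I :=
    Submodule.le_of_le_smul_of_le_jacobson_bot hK₁fg (IsLocalRing.maximalIdeal_le_jacobson ⊥) hmain
  intro x hx
  obtain ⟨y, hy⟩ := hle (show x ∈ K₁ from hx)
  exact ⟨y, hy⟩

end Groth.Agent.Lib.Helper13.ComplDiff
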