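import Mathlib
import Groth.Agent.Lib.Helper13.PBasis

/-!
# Adjoining `p`-th roots of `p`-independent elements gives a field; Eisenstein-type quotients
-/

set_option autoImplicit false

namespace Groth.Agent.Lib.Helper13.Eisen

open Groth.Agent.Lib.Helper13.PBasis MvPolynomial

section Field

variable {K : Type*} [Field K] (p : ℕ) [hp : Fact p.Prime] [CharP K p] {ι : Type*} (a : ι → K)

/-- `K[T_i]/(T_i^p - a_i)` is a field when the `a_i` are `p`-independent over `K^p`. -/
theorem isMaximal_span_X_pow_sub_C
    (hind : LinearIndependent (↥(frobenius K p).fieldRange)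
      (fun e : RedE p ι => (e.1.prod fun i n => a i ^ n))) :
    (Ideal.span (Set.range fun i => (X i : MvPolynomial ι K) ^ p - C (a i))).IsMaximal := by
  classical
  set I := Ideal.span (Set.range fun i => (X i : MvPolynomial ι K) ^ p - C (a i)) with hI
  let Ω := AlgebraicClosure K
  haveI : CharP Ω p := charP_of_injective_algebraMap (algebraMap K Ω).injective p
  choose θ hθ using fun i => IsAlgClosed.exists_pow_nat_eq (algebraMap K Ω (a i)) hp.out.pos
  let φ : MvPolynomial ι K →ₐ[K] Ω := aeval θ
  have hc : ∀ i, algebraMap K Ω (a i) = θ i ^ p := fun i => (hθ i).symm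
  -- independence of reduced monomials in `θ`
  have hindΩ : LinearIndependent K (fun e : RedE p ι => (e.1.prod fun i n => θ i ^ n)) := by
    rw [linearIndependent_iff'] at hind ⊢
    intro s l hsum e he
    have hmon : ∀ e : RedE p ι, (e.1.prod fun i n => θ i ^ n) ^ p =
        algebraMap K Ω (e.1.prod fun i n => a i ^ n) := by
      intro e
      rw [map_finsuppProd, Finsupp.prod, Finsupp.prod, ← Finset.prod_pow]
      refine Finset.prod_congr rfl fun i _ => ?_
      rw [map_pow, hc, ← pow_mul, ← pow_mul, mul_comm]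
    have h1 : ∑ e ∈ s, (l e) ^ p * (e.1.prod fun i n => a i ^ n) = 0 := by
      apply (algebraMap K Ω).injective
      rw [map_zero, map_sum]
      have h2 : (∑ e ∈ s, l e • (e.1.prod fun i n => θ i ^ n)) ^ p = (0 : Ω) ^ p := by rw [hsum]
      rw [sum_pow_char, zero_pow hp.out.ne_zero] at h2
      rw [← h2]
      refine Finset.sum_congr rfl fun e _ => ?_
      rw [Algebra.smul_def, mul_pow, hmon, map_mul, map_pow]
    have h3 := hind s (fun e => ⟨(l e) ^ p, RingHom.mem_fieldRange.mpr ⟨l e, rfl⟩⟩) (by
      rw [← h1]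
      refine Finset.sum_congr rfl fun e _ => ?_
      rfl) e he
    have h4 : (l e) ^ p = 0 := congrArg Subtype.val h3
    exact pow_eq_zero_iff hp.out.ne_zero |>.mp h4
  have hker : RingHom.ker φ.toRingHom = I := by
    apply le_antisymm
    · intro f hf
      rw [RingHom.mem_ker] at hf
      have hf' : aeval θ f = 0 := hf
      let z : ι → MvPolynomial ι K ⧸ I := fun i => Ideal.Quotient.mk I (X i)
      have hz : ∀ i, algebraMap K (MvPolynomial ι K ⧸ I) (a i) = z i ^ p := by
        intro i
        show Ideal.Quotient.mk I (C (a i)) = (Ideal.Quotient.mk I (X i)) ^ p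
        rw [← map_pow, eq_comm, Ideal.Quotient.eq]
        exact Ideal.subset_span ⟨i, rfl⟩
      have haev : (aeval z : MvPolynomial ι K →ₐ[K] MvPolynomial ι K ⧸ I) =
          Ideal.Quotient.mkₐ K I := by
        apply MvPolynomial.algHom_ext
        intro i
        simp [z]
      have h0 := eq_zero_of_aeval_eq_zero p θ a hc hindΩ
        ((aeval z : MvPolynomial ι K →ₐ[K] MvPolynomial ι K ⧸ I) :
          MvPolynomial ι K →+ MvPolynomial ι K ⧸ I)
        (fun g c => aeval_monomial_red p a z hz g c) f hf'
      have h0' : Ideal.Quotient.mkₐ K I f = 0 := by rw [← haev]; exact h0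
      exact Ideal.Quotient.eq_zero_iff_mem.mp h0'
    · rw [hI, Ideal.span_le]
      rintro _ ⟨i, rfl⟩
      show φ (X i ^ p - C (a i)) = 0
      simp only [φ, map_sub, map_pow, aeval_X, aeval_C]
      rw [hc, sub_self]
  rw [← hker]
  haveI : (RingHom.ker φ.toRingHom).IsPrime := RingHom.ker_isPrime _
  haveI : Algebra.IsIntegral K (MvPolynomial ι K ⧸ RingHom.ker φ.toRingHom) :=
    Algebra.IsIntegral.of_injective (Ideal.kerLiftAlg φ) (Ideal.kerLiftAlg_injective φ)
  exact Ideal.Quotient.maximal_of_isField _
    (isField_of_isIntegral_of_isField' (Field.toIsField K))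

end Field

end Groth.Agent.Lib.Helper13.Eisen
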