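import Mathlib
import Groth.Agent.Lib.Helper13.Fred2
import Groth.Agent.Lib.Helper96.SmoothField

/-!
# Formal smoothness of a regular local `k`-algebra from enough derivations (EGA 0_IV 22.2.6)
-/

set_option autoImplicit false

namespace Groth.Agent.Lib.Helper13.ExistFS

universe u

open IsLocalRing TensorProduct

section LinAlg

variable {K V : Type*} [Field K] [AddCommGroup V] [Module K V]

theorem exists_separating (Υ : Submodule K V) [Module.Finite K Υ] (n : ℕ)
    (hn : Module.finrank K Υ ≤ n) :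
    ∃ l : Fin n → (V →ₗ[K] K), ∀ w ∈ Υ, (∀ i, l i w = 0) → w = 0 := by
  classical
  let b := Module.finBasis K Υ
  choose ext hext using fun j : Fin (Module.finrank K Υ) => LinearMap.exists_extend (b.coord j)
  refine ⟨fun i => if h : (i : ℕ) < Module.finrank K Υ then ext ⟨i, h⟩ else 0, ?_⟩
  intro w hw hz
  have h0 : b.repr ⟨w, hw⟩ = 0 := by
    ext j
    have hlt : ((Fin.castLE hn j : Fin n) : ℕ) < Module.finrank K Υ := j.2
    have h1 : (if h : ((Fin.castLE hn j : Fin n) : ℕ) < Module.finrank K Υ then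
        ext ⟨((Fin.castLE hn j : Fin n) : ℕ), h⟩ else (0 : V →ₗ[K] K)) w = 0 :=
      hz (Fin.castLE hn j)
    rw [dif_pos hlt] at h1
    have h2 : ext j w = b.coord j ⟨w, hw⟩ := LinearMap.congr_fun (hext j) ⟨w, hw⟩
    have h3 : (⟨((Fin.castLE hn j : Fin n) : ℕ), hlt⟩ : Fin (Module.finrank K Υ)) = j := rfl
    rw [h3] at h1
    rw [Finsupp.zero_apply, ← h1, h2]
    rfl
  have h1 : (⟨w, hw⟩ : Υ) = 0 := b.repr.map_eq_zero_iff.mp h0
  exact congrArg Subtype.val h1

end LinAlg

section Ext

variable {k K M : Type*} [CommRing k] [CommRing K] [Algebra k K] [AddCommGroup M] [Module K M]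

theorem ext_tmul_D {f g : K ⊗[k] Ω[k⁄ℤ] →ₗ[K] M}
    (h : ∀ x, f ((1 : K) ⊗ₜ[k] KaehlerDifferential.D ℤ k x) =
      g ((1 : K) ⊗ₜ[k] KaehlerDifferential.D ℤ k x)) : f = g := by
  refine LinearMap.ext fun w => ?_
  induction w using TensorProduct.induction_on with
  | zero => rw [map_zero, map_zero]
  | add x y hx hy => rw [map_add, map_add, hx, hy]
  | tmul c ω =>
    have hω : ω ∈ Submodule.span k (Set.range (KaehlerDifferential.D ℤ k)) := by
      rw [KaehlerDifferential.span_range_derivation]; trivial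
    induction hω using Submodule.span_induction generalizing c with
    | mem ω hω =>
      obtain ⟨x, rfl⟩ := hω
      have : c ⊗ₜ[k] KaehlerDifferential.D ℤ k x =
          c • ((1 : K) ⊗ₜ[k] KaehlerDifferential.D ℤ k x) := by
        rw [TensorProduct.smul_tmul', smul_eq_mul, mul_one]
      rw [this, map_smul, map_smul, h]
    | zero => rw [tmul_zero, map_zero, map_zero]
    | add x y _ _ hx hy => rw [tmul_add, map_add, map_add, hx, hy]
    | smul a ω _ ih =>
      have : c ⊗ₜ[k] (a • ω) = (a • c) ⊗ₜ[k] ω := by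
        rw [TensorProduct.tmul_smul, TensorProduct.smul_tmul']
      rw [this]
      exact ih (a • c)

end Ext

section AbsInj

variable {k K A : Type u} [Field k] [Field K] [Algebra k K] [CommRing A] [Algebra k A]
  [Algebra A K] [IsScalarTower k A K]

/-- the comparison map `K ⊗_k Ω_k → K ⊗_A Ω_A` -/
noncomputable def Φ : K ⊗[k] Ω[k⁄ℤ] →ₗ[K] K ⊗[A] Ω[A⁄ℤ] :=
  ((KaehlerDifferential.mapBaseChange ℤ k A).baseChange K) ∘ₗ
    (TensorProduct.AlgebraTensorModule.cancelBaseChange k A K K (Ω[k⁄ℤ])).symm.toLinearMap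

theorem Φ_tmul_D (x : k) :
    Φ (A := A) ((1 : K) ⊗ₜ[k] KaehlerDifferential.D ℤ k x) =
      (1 : K) ⊗ₜ[A] KaehlerDifferential.D ℤ A (algebraMap k A x) := by
  unfold Φ
  rw [LinearMap.comp_apply, LinearEquiv.coe_coe,
    TensorProduct.AlgebraTensorModule.cancelBaseChange_symm_tmul, LinearMap.baseChange_tmul,
    KaehlerDifferential.mapBaseChange_tmul, one_smul, KaehlerDifferential.map_D]

/-- the functional on `K ⊗ Ω_A` attached to a derivation -/
noncomputable def μ (Δ : Derivation ℤ A K) : K ⊗[A] Ω[A⁄ℤ] →ₗ[K] K :=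
  LinearMap.liftBaseChange K Δ.liftKaehlerDifferential

theorem μ_tmul_D (Δ : Derivation ℤ A K) (a : A) :
    μ Δ ((1 : K) ⊗ₜ[A] KaehlerDifferential.D ℤ A a) = Δ a := by
  show LinearMap.liftBaseChange K Δ.liftKaehlerDifferential _ = _
  rw [LinearMap.liftBaseChange_tmul, Derivation.liftKaehlerDifferential_comp_D, one_smul]

theorem Φ_injective {ι : Type*} (l : ι → (K ⊗[k] Ω[k⁄ℤ] →ₗ[K] K))
    (hl : ∀ w ∈ LinearMap.ker (KaehlerDifferential.mapBaseChange ℤ k K),
      (∀ i, l i w = 0) → w = 0)
    (hΔ : ∀ i, ∃ Δ : Derivation ℤ A K, ∀ x : k,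
      Δ (algebraMap k A x) = l i ((1 : K) ⊗ₜ[k] KaehlerDifferential.D ℤ k x)) :
    Function.Injective (Φ (k := k) (K := K) (A := A)) := by
  rw [injective_iff_map_eq_zero]
  intro w hw
  refine hl w ?_ fun i => ?_
  · -- `w` lies in the imperfection module
    rw [LinearMap.mem_ker, ← Module.forall_dual_apply_eq_zero_iff K]
    intro φ
    let D₀ : Derivation ℤ K K := φ.compDer (KaehlerDifferential.D ℤ K)
    let Δ : Derivation ℤ A K := D₀.compAlgebraMap A
    have h1 : (μ Δ) ∘ₗ (Φ (k := k) (K := K) (A := A)) =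
        φ ∘ₗ (KaehlerDifferential.mapBaseChange ℤ k K) := by
      refine ext_tmul_D fun x => ?_
      rw [LinearMap.comp_apply, LinearMap.comp_apply, Φ_tmul_D, μ_tmul_D,
        KaehlerDifferential.mapBaseChange_tmul, one_smul, KaehlerDifferential.map_D]
      show φ (KaehlerDifferential.D ℤ K (algebraMap A K (algebraMap k A x))) = _
      rw [← IsScalarTower.algebraMap_apply]
    have h2 := LinearMap.congr_fun h1 w
    rw [LinearMap.comp_apply, LinearMap.comp_apply, hw, map_zero] at h2
    exact h2.symm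
  · obtain ⟨Δ, hΔi⟩ := hΔ i
    have h1 : (μ Δ) ∘ₗ (Φ (k := k) (K := K) (A := A)) = l i := by
      refine ext_tmul_D fun x => ?_
      rw [LinearMap.comp_apply, Φ_tmul_D, μ_tmul_D, hΔi]
    have h2 := LinearMap.congr_fun h1 w
    rw [LinearMap.comp_apply, hw, map_zero] at h2
    exact h2.symm

theorem baseChange_injective_of_Φ_injective
    (h : Function.Injective (Φ (k := k) (K := K) (A := A))) :
    Function.Injective ((KaehlerDifferential.mapBaseChange ℤ k A).baseChange K) := by
  have h' : Function.Injective (((KaehlerDifferential.mapBaseChange ℤ k A).baseChange K) ∘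
      (TensorProduct.AlgebraTensorModule.cancelBaseChange k A K K (Ω[k⁄ℤ])).symm) := h
  exact Function.Injective.of_comp_right h'
    (TensorProduct.AlgebraTensorModule.cancelBaseChange k A K K (Ω[k⁄ℤ])).symm.surjective

end AbsInj


section Transfer

variable {R P Q M N : Type*} [CommRing R] [AddCommGroup P] [Module R P] [AddCommGroup Q]
  [Module R Q] [AddCommGroup M] [Module R M] [AddCommGroup N] [Module R N]

theorem lTensor_injective_congr (ε : P ≃ₗ[R] Q) (g : M →ₗ[R] N)
    (h : Function.Injective (g.lTensor Q)) : Function.Injective (g.lTensor P) := by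
  have h1 : (ε.toLinearMap.rTensor N) ∘ₗ (g.lTensor P) =
      (g.lTensor Q) ∘ₗ (ε.toLinearMap.rTensor M) := by
    rw [LinearMap.rTensor_comp_lTensor, LinearMap.lTensor_comp_rTensor]
  intro x y hxy
  have h2 := LinearMap.congr_fun h1 x
  have h3 := LinearMap.congr_fun h1 y
  rw [LinearMap.comp_apply, LinearMap.comp_apply] at h2 h3
  rw [hxy, h3] at h2
  have h4 := h h2
  exact (LinearEquiv.rTensor M ε).injective h4.symm

end Transfer


section DerHelper

variable {A M : Type*} [CommRing A] [AddCommGroup M] [Module A M]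

/-- a `ℤ`-derivation from an additive map satisfying the Leibniz rule -/
def derOfLeibniz (d : A →+ M) (h : ∀ a b, d (a * b) = a • d b + b • d a) : Derivation ℤ A M :=
  Derivation.mk' d.toIntLinearMap h

@[simp]
theorem derOfLeibniz_apply (d : A →+ M) (h : ∀ a b, d (a * b) = a • d b + b • d a) (a : A) :
    derOfLeibniz d h a = d a := rfl

end DerHelper

section AbsFS

variable {k K A : Type u} [Field k] [Field K] [Algebra k K] [CommRing A] [IsLocalRing A]
  [Algebra k A] [Algebra A K] [IsScalarTower k A K]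

theorem ker_ofId_eq (hsurj : Function.Surjective (algebraMap A K)) :
    RingHom.ker (Algebra.ofId A K) = maximalIdeal A := by
  haveI : (RingHom.ker (algebraMap A K)).IsMaximal :=
    RingHom.ker_isMaximal_of_surjective _ hsurj
  exact IsLocalRing.eq_maximalIdeal this

/-- the residue field of `A` is `K` -/
noncomputable def residueEquiv (hsurj : Function.Surjective (algebraMap A K)) :
    ResidueField A ≃ₐ[A] K :=
  (Ideal.quotientEquivAlgOfEq A (ker_ofId_eq hsurj).symm).trans
    (Ideal.quotientKerAlgEquivOfSurjective (f := Algebra.ofId A K) hsurj)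

theorem formallySmooth_of_derivations [IsNoetherianRing A]
    (hsurj : Function.Surjective (algebraMap A K)) (hreg : IsRegularLocalRing A)
    {ι : Type*} (l : ι → (K ⊗[k] Ω[k⁄ℤ] →ₗ[K] K))
    (hl : ∀ w ∈ LinearMap.ker (KaehlerDifferential.mapBaseChange ℤ k K),
      (∀ i, l i w = 0) → w = 0)
    (hΔ : ∀ i, ∃ Δ : Derivation ℤ A K, ∀ x : k,
      Δ (algebraMap k A x) = l i ((1 : K) ⊗ₜ[k] KaehlerDifferential.D ℤ k x)) :
    CAlgX.IsAdicFormallySmooth k A (maximalIdeal A) ∧ Nonempty (ResidueField A ≃ₐ[k] K) := by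
  have hinj := baseChange_injective_of_Φ_injective (Φ_injective l hl hΔ)
  refine ⟨Groth.Agent.Lib.Helper96.isAdicFormallySmooth_iff_regular_and_injective.mpr
    ⟨hreg, ?_⟩, ⟨(residueEquiv hsurj).restrictScalars k⟩⟩
  refine lTensor_injective_congr (residueEquiv hsurj).toLinearEquiv _ ?_
  rw [← LinearMap.baseChange_eq_ltensor]
  exact hinj

end AbsFS

end Groth.Agent.Lib.Helper13.ExistFS
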