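import Mathlib
import Groth.Agent.Lib.Helper13.AdicPow
import Groth.Agent.Lib.Helper76.PSCRing
import Groth.Agent.Lib.Helper96.PerfectSmooth

/-!
# Ring maps `k → K[[T_1..T_n]]` with prescribed first order part
-/

set_option autoImplicit false

namespace Groth.Agent.Lib.Helper13.PSDer

open MvPowerSeries IsLocalRing

universe u

section Basic

variable {K : Type u} [Field K] {n : ℕ}

theorem coeff_single_one_mul (i : Fin n) (f g : MvPowerSeries (Fin n) K) :
    coeff (Finsupp.single i 1) (f * g) =
      constantCoeff f * coeff (Finsupp.single i 1) g +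
        constantCoeff g * coeff (Finsupp.single i 1) f := by
  classical
  rw [coeff_mul, Finsupp.antidiagonal_single, Finset.sum_map]
  have : Finset.HasAntidiagonal.antidiagonal 1 =
      ({((0 : ℕ), (1 : ℕ)), (1, 0)} : Finset (ℕ × ℕ)) := by
    decide
  rw [this, Finset.sum_insert (by decide), Finset.sum_singleton]
  simp only [Function.Embedding.coe_prodMap, Function.Embedding.coeFn_mk, Prod.map_apply,
    Finsupp.single_zero, coeff_zero_eq_constantCoeff_apply]
  ring

theorem mem_maximalIdeal_iff (f : MvPowerSeries (Fin n) K) :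
    f ∈ maximalIdeal (MvPowerSeries (Fin n) K) ↔ constantCoeff f = 0 := by
  rw [mem_maximalIdeal, mem_nonunits_iff, MvPowerSeries.isUnit_iff_constantCoeff,
    isUnit_iff_ne_zero, not_not]

theorem X_mem (i : Fin n) : (X i : MvPowerSeries (Fin n) K) ∈
    maximalIdeal (MvPowerSeries (Fin n) K) :=
  (mem_maximalIdeal_iff _).mpr (constantCoeff_X i)

theorem constantCoeff_eq_zero_of_mem_sq {f : MvPowerSeries (Fin n) K}
    (hf : f ∈ maximalIdeal (MvPowerSeries (Fin n) K) ^ 2) : constantCoeff f = 0 :=
  (mem_maximalIdeal_iff f).mp (Ideal.pow_le_self two_ne_zero hf)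

theorem coeff_single_one_eq_zero_of_mem_sq (i : Fin n) {f : MvPowerSeries (Fin n) K}
    (hf : f ∈ maximalIdeal (MvPowerSeries (Fin n) K) ^ 2) :
    coeff (Finsupp.single i 1) f = 0 := by
  rw [pow_two] at hf
  refine Submodule.mul_induction_on hf (fun a ha b hb => ?_) (fun x y hx hy => ?_)
  · rw [coeff_single_one_mul, (mem_maximalIdeal_iff a).mp ha, (mem_maximalIdeal_iff b).mp hb,
      zero_mul, zero_mul, add_zero]
  · rw [map_add, hx, hy, add_zero]

end Basic

section PrimeField

variable {k : Type*} [Field k] {M : Type*} [AddCommGroup M] [Module k M]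

theorem derivation_eq_zero_of_mem_bot (D : Derivation ℤ k M) {c : k}
    (hc : c ∈ (⊥ : Subfield k)) : D c = 0 := by
  rw [← Subfield.closure_empty] at hc
  induction hc using Subfield.closure_induction with
  | mem x hx => exact absurd hx (Set.notMem_empty x)
  | one => exact D.map_one_eq_zero
  | add x y _ _ hx hy => rw [map_add, hx, hy, add_zero]
  | neg x _ hx => rw [map_neg, hx, neg_zero]
  | inv x _ hx => rw [Derivation.leibniz_inv, hx, smul_zero]
  | mul x y _ _ hx hy => rw [Derivation.leibniz, hx, hy, smul_zero, smul_zero, add_zero]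

end PrimeField

section Lin

variable {k K : Type u} [Field k] [Field K] [Algebra k K] {n : ℕ}
  (D : Fin n → Derivation ℤ k K)

/-- the linear part -/
noncomputable def P (x : k) : MvPowerSeries (Fin n) K := ∑ i, C (D i x) * X i

/-- the first order truncation `x ↦ x + Σ D_i(x) T_i` -/
noncomputable def lin (x : k) : MvPowerSeries (Fin n) K := C (algebraMap k K x) + P D x

theorem P_mem (x : k) : P D x ∈ maximalIdeal (MvPowerSeries (Fin n) K) :=
  Ideal.sum_mem _ fun i _ => Ideal.mul_mem_left _ _ (X_mem i)

theorem P_mul (x y : k) :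
    P D (x * y) = C (algebraMap k K x) * P D y + C (algebraMap k K y) * P D x := by
  simp only [P, Finset.mul_sum, ← Finset.sum_add_distrib]
  refine Finset.sum_congr rfl fun i _ => ?_
  rw [Derivation.leibniz, Algebra.smul_def, Algebra.smul_def, map_add, map_mul, map_mul]
  ring

theorem P_add (x y : k) : P D (x + y) = P D x + P D y := by
  simp only [P, ← Finset.sum_add_distrib]
  refine Finset.sum_congr rfl fun i _ => ?_
  rw [map_add, map_add, add_mul]

theorem P_zero : P D 0 = 0 := by
  simp [P]

theorem P_one : P D 1 = 0 := by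
  simp [P]

theorem lin_mul (x y : k) : lin D x * lin D y - lin D (x * y) = P D x * P D y := by
  unfold lin
  rw [P_mul, map_mul, map_mul]
  ring

theorem constantCoeff_P (x : k) : constantCoeff (P D x) = 0 :=
  (mem_maximalIdeal_iff _).mp (P_mem D x)

theorem constantCoeff_lin (x : k) : constantCoeff (lin D x) = algebraMap k K x := by
  unfold lin
  rw [map_add, constantCoeff_P, add_zero, constantCoeff_C]

theorem coeff_lin (i : Fin n) (x : k) : coeff (Finsupp.single i 1) (lin D x) = D i x := by
  classical
  unfold lin P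
  rw [map_add, map_sum, coeff_C, if_neg (by simp), zero_add]
  rw [Finset.sum_eq_single i]
  · rw [coeff_C_mul, coeff_X, if_pos rfl, mul_one]
  · intro j _ hji
    rw [coeff_C_mul, coeff_X, if_neg, mul_zero]
    intro h
    exact hji ((Finsupp.single_left_inj one_ne_zero).mp h).symm
  · intro h; exact absurd (Finset.mem_univ i) h

/-- the first order ring map -/
noncomputable def ubar : k →+* MvPowerSeries (Fin n) K ⧸
    maximalIdeal (MvPowerSeries (Fin n) K) ^ 2 where
  toFun x := Ideal.Quotient.mk _ (lin D x)
  map_one' := by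
    show Ideal.Quotient.mk _ (lin D 1) = 1
    unfold lin
    rw [P_one, add_zero, map_one, map_one, map_one]
  map_mul' x y := by
    rw [← map_mul, eq_comm, Ideal.Quotient.eq, lin_mul, pow_two]
    exact Ideal.mul_mem_mul (P_mem D x) (P_mem D y)
  map_zero' := by
    show Ideal.Quotient.mk _ (lin D 0) = 0
    unfold lin
    rw [P_zero, add_zero, map_zero, map_zero, map_zero]
  map_add' x y := by
    rw [← map_add]
    congr 1
    unfold lin
    rw [P_add, map_add, map_add]
    ring

theorem exists_ringHom : ∃ u : k →+* MvPowerSeries (Fin n) K,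
    (∀ x, constantCoeff (u x) = algebraMap k K x) ∧
      ∀ i x, coeff (Finsupp.single i 1) (u x) = D i x := by
  haveI key : Algebra.FormallySmooth (⊥ : Subfield k) k := by
    obtain ⟨p, hp⟩ := CharP.exists k
    rcases CharP.char_is_prime_or_zero k p with hp' | rfl
    · haveI : Fact p.Prime := ⟨hp'⟩
      haveI : CharP (⊥ : Subfield k) p :=
        (RingHom.charP_iff _ (algebraMap (⊥ : Subfield k) k).injective p).mpr inferInstance
      haveI : Fintype (⊥ : Subfield k) := Subfield.fintypeBot k p
      haveI : PerfectRing (⊥ : Subfield k) p := PerfectRing.ofFiniteOfIsReduced p _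
      exact Groth.Agent.Lib.Helper96.formallySmooth_of_perfectRing_charP p
    · haveI : CharZero k := CharP.charP_to_charZero k
      haveI : CharZero (⊥ : Subfield k) :=
        (RingHom.charZero_iff (algebraMap (⊥ : Subfield k) k).injective).mpr inferInstance
      exact Groth.Agent.Lib.Helper96.formallySmooth_of_charZero
  haveI : IsAdicComplete (maximalIdeal (MvPowerSeries (Fin n) K) ^ 2)
      (MvPowerSeries (Fin n) K) := AdicPow.isAdicComplete_pow _ two_pos
  let f : k →ₐ[(⊥ : Subfield k)] MvPowerSeries (Fin n) K ⧸
      maximalIdeal (MvPowerSeries (Fin n) K) ^ 2 :=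
    { ubar D with
      commutes' := fun c => by
        have h1 : algebraMap (⊥ : Subfield k) (MvPowerSeries (Fin n) K ⧸
            maximalIdeal (MvPowerSeries (Fin n) K) ^ 2) c =
            Ideal.Quotient.mk _ (algebraMap (⊥ : Subfield k) (MvPowerSeries (Fin n) K) c) := rfl
        have h2 : algebraMap (⊥ : Subfield k) (MvPowerSeries (Fin n) K) c =
            C (algebraMap (⊥ : Subfield k) K c) := by
          rw [MvPowerSeries.algebraMap_apply]
        have h3 : algebraMap (⊥ : Subfield k) K c = algebraMap k K (c : k) := rfl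
        have h4 : lin D (c : k) = C (algebraMap k K (c : k)) := by
          unfold lin P
          have : ∀ i, D i (c : k) = 0 := fun i => derivation_eq_zero_of_mem_bot (D i) c.2
          simp only [this, map_zero, zero_mul, Finset.sum_const_zero, add_zero]
        rw [h1, h2, h3, ← h4]
        rfl }
  obtain ⟨g, hg⟩ := Algebra.FormallySmooth.exists_mkₐ_comp_eq_of_isAdicComplete
    (I := maximalIdeal (MvPowerSeries (Fin n) K) ^ 2) f
  have hmem : ∀ x, g x - lin D x ∈ maximalIdeal (MvPowerSeries (Fin n) K) ^ 2 := fun x => by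
    have h : Ideal.Quotient.mk (maximalIdeal (MvPowerSeries (Fin n) K) ^ 2) (g x) =
        Ideal.Quotient.mk (maximalIdeal (MvPowerSeries (Fin n) K) ^ 2) (lin D x) :=
      DFunLike.congr_fun hg x
    exact Ideal.Quotient.eq.mp h
  refine ⟨g.toRingHom, fun x => ?_, fun i x => ?_⟩
  · have h := constantCoeff_eq_zero_of_mem_sq (hmem x)
    rw [map_sub, sub_eq_zero] at h
    exact h.trans (constantCoeff_lin D x)
  · have h := coeff_single_one_eq_zero_of_mem_sq i (hmem x)
    rw [map_sub, sub_eq_zero] at h
    exact h.trans (coeff_lin D i x)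

end Lin

end Groth.Agent.Lib.Helper13.PSDer
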