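import Mathlib
import Groth.Agent.Lib.Helper13.ExistFS
import Groth.Agent.Lib.Helper13.PSDer
import Groth.Agent.Lib.Helper76.PSCohen
import Groth.Prelude.Def_EGA41

/-!
# Existence of complete formally smooth local algebras with given residue field (EGA 0_IV 22.2.6)
-/

set_option autoImplicit false

namespace Groth.Agent.Lib.Helper13.ExistFS

universe u

open IsLocalRing TensorProduct

theorem exists_of_finite {k K : Type u} [Field k] [Field K] [Algebra k K]
    [hfin : Module.Finite K (EGA41.imperfection ℤ k K)] (n : ℕ)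
    (hn : Module.finrank K (EGA41.imperfection ℤ k K) ≤ n) :
    ∃ (A : Type u) (_ : CommRing A) (_ : IsLocalRing A) (_ : IsNoetherianRing A)
      (_ : Algebra k A),
        IsAdicComplete (maximalIdeal A) A ∧ CAlgX.IsAdicFormallySmooth k A (maximalIdeal A) ∧
        Nonempty (ResidueField A ≃ₐ[k] K) ∧ ringKrullDim A = n := by
  obtain ⟨l, hl⟩ := exists_separating (EGA41.imperfection ℤ k K) n hn
  let D : Fin n → Derivation ℤ k K := fun i =>
    (((l i).restrictScalars k) ∘ₗ (TensorProduct.mk k K (Ω[k⁄ℤ]) 1)).compDer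
      (KaehlerDifferential.D ℤ k)
  have hD : ∀ i x, D i x = l i ((1 : K) ⊗ₜ[k] KaehlerDifferential.D ℤ k x) := fun i x => rfl
  obtain ⟨u, hu1, hu3⟩ := PSDer.exists_ringHom D
  letI algS : Algebra k (MvPowerSeries (Fin n) K) := u.toAlgebra
  letI algK : Algebra (MvPowerSeries (Fin n) K) K :=
    (MvPowerSeries.constantCoeff (σ := Fin n) (R := K)).toAlgebra
  haveI : IsScalarTower k (MvPowerSeries (Fin n) K) K :=
    IsScalarTower.of_algebraMap_eq (fun x => (hu1 x).symm)
  have hsurj : Function.Surjective (algebraMap (MvPowerSeries (Fin n) K) K) := fun a =>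
    ⟨MvPowerSeries.C a, MvPowerSeries.constantCoeff_C a⟩
  obtain ⟨hfs, hres⟩ := formallySmooth_of_derivations (k := k) (K := K)
    (A := MvPowerSeries (Fin n) K) hsurj inferInstance l (fun w hw => hl w hw)
    (fun i => ⟨derOfLeibniz
        (MvPowerSeries.coeff (R := K) (Finsupp.single i 1)).toAddMonoidHom
      (fun f g => by
        show MvPowerSeries.coeff (Finsupp.single i 1) (f * g) =
          MvPowerSeries.constantCoeff f * MvPowerSeries.coeff (Finsupp.single i 1) g +
          MvPowerSeries.constantCoeff g * MvPowerSeries.coeff (Finsupp.single i 1) f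
        exact PSDer.coeff_single_one_mul i f g),
      fun x => (hu3 i x).trans (hD i x)⟩)
  exact ⟨MvPowerSeries (Fin n) K, inferInstance, inferInstance, inferInstance, algS,
    inferInstance, hfs, hres, Groth.Agent.Lib.Helper76.PSComplete.ringKrullDim_eq_card K n⟩

end Groth.Agent.Lib.Helper13.ExistFS
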