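import Mathlib
import Groth.Prelude.Def_CAlgX

/-!
# Lifting ring maps and derivations through square-zero extensions via adic formal smoothness
-/

set_option autoImplicit false

namespace Groth.Agent.Lib.Helper13.FSLift

universe u

open TrivSqZeroExt

section General

variable {k₀ A : Type u} [CommRing k₀] [CommRing A] [Algebra k₀ A] {𝔫 : Ideal A}

/-- general lifting lemma for `CAlgX.IsAdicFormallySmooth`, with the base structure on the test
algebra given by an arbitrary ring map `θ` -/
theorem exists_lift (hfs : CAlgX.IsAdicFormallySmooth k₀ A 𝔫) {C C' : Type u} [CommRing C]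
    [CommRing C'] (g : C →+* C') (hg : Function.Surjective g) (hker : RingHom.ker g ^ 2 = ⊥)
    (θ : k₀ →+* C) (ψ₀ : A →+* C') (hcomm : ∀ x, ψ₀ (algebraMap k₀ A x) = g (θ x))
    (hcont : ∃ j : ℕ, ∀ a ∈ 𝔫 ^ j, ψ₀ a = 0) :
    ∃ χ : A →+* C, (∀ a, g (χ a) = ψ₀ a) ∧ ∀ x, χ (algebraMap k₀ A x) = θ x := by
  letI : Algebra k₀ C := θ.toAlgebra
  let e : C ⧸ RingHom.ker g ≃+* C' := RingHom.quotientKerEquivOfSurjective hg
  let ψ : A →ₐ[k₀] C ⧸ RingHom.ker g :=
    { (e.symm.toRingHom.comp ψ₀) with
      commutes' := fun x => by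
        show e.symm (ψ₀ (algebraMap k₀ A x)) = _
        rw [hcomm, RingEquiv.symm_apply_eq]
        exact (RingHom.quotientKerEquivOfSurjective_apply_mk hg (θ x)).symm }
  obtain ⟨χ, hχ⟩ := hfs C (RingHom.ker g) hker ψ (by
    obtain ⟨j, hj⟩ := hcont
    exact ⟨j, fun a ha => by
      show e.symm (ψ₀ a) = 0
      rw [hj a ha, map_zero]⟩)
  refine ⟨χ.toRingHom, fun a => ?_, fun x => χ.commutes x⟩
  have h1 : Ideal.Quotient.mk (RingHom.ker g) (χ a) = e.symm (ψ₀ a) := DFunLike.congr_fun hχ a
  have h2 : e (Ideal.Quotient.mk (RingHom.ker g) (χ a)) = g (χ a) :=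
    RingHom.quotientKerEquivOfSurjective_apply_mk hg (χ a)
  show g (χ a) = ψ₀ a
  rw [← h2, h1, RingEquiv.apply_symm_apply]

end General

section Tsze

variable {A R M : Type*} [CommRing A] [CommRing R] [AddCommGroup M] [Module R M]
  [Module Rᵐᵒᵖ M] [IsCentralScalar R M]

/-- a ring hom `A → R` and a derivation-like map `A → M` give a ring hom into the trivial
square zero extension -/
def tszeHom (π : A →+* R) (D : A →+ M)
    (hD : ∀ a b, D (a * b) = π a • D b + π b • D a) : A →+* TrivSqZeroExt R M where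
  toFun a := inl (π a) + inr (D a)
  map_one' := by
    have h1 : D 1 = 0 := by
      have := hD 1 1
      rw [mul_one, RingHom.map_one π, one_smul] at this
      exact left_eq_add.mp this
    rw [map_one, h1, inr_zero, add_zero, inl_one]
  map_mul' a b := by
    refine TrivSqZeroExt.ext ?_ ?_
    · simp
    · simp only [snd_add, snd_inl, snd_inr, zero_add, snd_mul, fst_add, fst_inl, fst_inr,
        add_zero, op_smul_eq_smul]
      rw [hD]
  map_zero' := by rw [map_zero, map_zero, inl_zero, inr_zero, add_zero]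
  map_add' a b := by
    rw [map_add, map_add, inl_add, inr_add]
    abel

@[simp]
theorem fst_tszeHom (π : A →+* R) (D : A →+ M)
    (hD : ∀ a b, D (a * b) = π a • D b + π b • D a) (a : A) :
    (tszeHom π D hD a).fst = π a := by
  simp [tszeHom]

@[simp]
theorem snd_tszeHom (π : A →+* R) (D : A →+ M)
    (hD : ∀ a b, D (a * b) = π a • D b + π b • D a) (a : A) :
    (tszeHom π D hD a).snd = D a := by
  simp [tszeHom]

/-- the second component of a ring hom into a trivial square zero extension -/
def sndAddHom (χ : A →+* TrivSqZeroExt R M) : A →+ M where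
  toFun a := (χ a).snd
  map_zero' := by rw [map_zero, snd_zero]
  map_add' a b := by rw [map_add, snd_add]

theorem sndAddHom_mul (χ : A →+* TrivSqZeroExt R M) (a b : A) :
    sndAddHom χ (a * b) = (χ a).fst • sndAddHom χ b + (χ b).fst • sndAddHom χ a := by
  show (χ (a * b)).snd = (χ a).fst • (χ b).snd + (χ b).fst • (χ a).snd
  rw [map_mul, snd_mul, op_smul_eq_smul]

/-- the kernel of `fst` is square zero -/
theorem ker_fstHom_sq : RingHom.ker (fstHom R R M).toRingHom ^ 2 = ⊥ := by
  rw [pow_two, eq_bot_iff, Ideal.mul_le]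
  intro x hx y hy
  have hx' : x.fst = 0 := hx
  have hy' : y.fst = 0 := hy
  rw [Ideal.mem_bot]
  refine TrivSqZeroExt.ext ?_ ?_
  · rw [fst_mul, hx', zero_mul, fst_zero]
  · rw [snd_mul, hx', hy', zero_smul, MulOpposite.op_zero, zero_smul, add_zero, snd_zero]

variable {N : Type*} [AddCommGroup N] [Module R N] [Module Rᵐᵒᵖ N] [IsCentralScalar R N]

/-- the kernel of `map f` is square zero -/
theorem ker_map_sq (f : M →ₗ[R] N) : RingHom.ker (TrivSqZeroExt.map f).toRingHom ^ 2 = ⊥ := by
  rw [pow_two, eq_bot_iff, Ideal.mul_le]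
  intro x hx y hy
  have hx' : (TrivSqZeroExt.map f x).fst = 0 := by
    have : TrivSqZeroExt.map f x = 0 := hx
    rw [this, fst_zero]
  have hy' : (TrivSqZeroExt.map f y).fst = 0 := by
    have : TrivSqZeroExt.map f y = 0 := hy
    rw [this, fst_zero]
  rw [fst_map] at hx' hy'
  rw [Ideal.mem_bot]
  refine TrivSqZeroExt.ext ?_ ?_
  · rw [fst_mul, hx', zero_mul, fst_zero]
  · rw [snd_mul, hx', hy', zero_smul, MulOpposite.op_zero, zero_smul, add_zero, snd_zero]

theorem map_surjective (f : M →ₗ[R] N) (hf : Function.Surjective f) :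
    Function.Surjective (TrivSqZeroExt.map f) := by
  intro y
  obtain ⟨m, hm⟩ := hf y.snd
  refine ⟨inl y.fst + inr m, ?_⟩
  rw [map_add, map_inl, map_inr, hm, inl_fst_add_inr_snd_eq]

end Tsze

end Groth.Agent.Lib.Helper13.FSLift
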