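import Mathlib
import Groth.Agent.Lib.Helper13.FSLift

/-!
# Adic formal smoothness over a field forces `Ω_{k/ℤ} ⊗ K → Ω_{A/ℤ} ⊗_A K` to be injective
-/

set_option autoImplicit false

namespace Groth.Agent.Lib.Helper13.FSInj

universe u

open TrivSqZeroExt IsLocalRing TensorProduct Groth.Agent.Lib.Helper13.FSLift

variable {k₀ A : Type u} [Field k₀] [CommRing A] [IsLocalRing A] [Algebra k₀ A]

/-- every `ℤ`-derivation `k₀ → K` (given as a functional) extends to `A` -/
theorem exists_dual_comp_eq (hfs : CAlgX.IsAdicFormallySmooth k₀ A (maximalIdeal A))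
    (l : ResidueField A ⊗[A] (A ⊗[k₀] Ω[k₀⁄ℤ]) →ₗ[ResidueField A] ResidueField A) :
    ∃ μ : ResidueField A ⊗[A] Ω[A⁄ℤ] →ₗ[ResidueField A] ResidueField A,
      ∀ w, μ ((KaehlerDifferential.mapBaseChange ℤ k₀ A).baseChange (ResidueField A) w) = l w := by
  set K := ResidueField A with hK
  -- the derivation `k₀ → K`
  let D₁ : k₀ →+ K :=
    { toFun := fun x => l ((1 : K) ⊗ₜ[A] ((1 : A) ⊗ₜ[k₀] KaehlerDifferential.D ℤ k₀ x))
      map_zero' := by simp
      map_add' := fun x y => by rw [map_add, tmul_add, tmul_add, map_add] }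
  have hsm : ∀ (c : K) (a : A) (ω : Ω[k₀⁄ℤ]),
      c ⊗ₜ[A] (a ⊗ₜ[k₀] ω) = (c * residue A a) • ((1 : K) ⊗ₜ[A] ((1 : A) ⊗ₜ[k₀] ω)) := by
    intro c a ω
    have h1 : a ⊗ₜ[k₀] ω = a • ((1 : A) ⊗ₜ[k₀] ω) := by
      rw [TensorProduct.smul_tmul', smul_eq_mul, mul_one]
    rw [h1, TensorProduct.tmul_smul, TensorProduct.smul_tmul', TensorProduct.smul_tmul',
      Algebra.smul_def, smul_eq_mul, mul_one, mul_comm]
    rfl
  have hsm2 : ∀ (x : k₀) (ω : Ω[k₀⁄ℤ]), (1 : K) ⊗ₜ[A] ((1 : A) ⊗ₜ[k₀] (x • ω)) =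
      algebraMap k₀ K x • ((1 : K) ⊗ₜ[A] ((1 : A) ⊗ₜ[k₀] ω)) := by
    intro x ω
    have h1 : (1 : A) ⊗ₜ[k₀] (x • ω) = (algebraMap k₀ A x) ⊗ₜ[k₀] ω := by
      rw [TensorProduct.tmul_smul, TensorProduct.smul_tmul', Algebra.smul_def, mul_one]
    rw [h1, hsm, one_mul]
    rfl
  have hD₁ : ∀ x y, D₁ (x * y) = algebraMap k₀ K x • D₁ y + algebraMap k₀ K y • D₁ x := by
    intro x y
    show l ((1 : K) ⊗ₜ[A] ((1 : A) ⊗ₜ[k₀] KaehlerDifferential.D ℤ k₀ (x * y))) =
      algebraMap k₀ K x • l ((1 : K) ⊗ₜ[A] ((1 : A) ⊗ₜ[k₀] KaehlerDifferential.D ℤ k₀ y)) +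
      algebraMap k₀ K y • l ((1 : K) ⊗ₜ[A] ((1 : A) ⊗ₜ[k₀] KaehlerDifferential.D ℤ k₀ x))
    rw [Derivation.leibniz, tmul_add, tmul_add, map_add, hsm2, hsm2, map_smul, map_smul]
  let θ : k₀ →+* TrivSqZeroExt K K := tszeHom (algebraMap k₀ K) D₁ hD₁
  obtain ⟨χ, hχ1, hχ2⟩ := exists_lift hfs (fstHom K K K).toRingHom
    (fun r => ⟨inl r, fst_inl K r⟩) ker_fstHom_sq θ (residue A)
    (fun x => by
      show residue A (algebraMap k₀ A x) = (θ x).fst
      rw [fst_tszeHom]
      rfl)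
    ⟨1, fun a ha => by
      rw [pow_one] at ha
      exact (residue_eq_zero_iff a).mpr ha⟩
  have hfst : ∀ a, (χ a).fst = residue A a := hχ1
  -- the extended derivation
  let D' : Derivation ℤ A K := Derivation.mk' (sndAddHom χ).toIntLinearMap (fun a b => by
    show sndAddHom χ (a * b) = a • sndAddHom χ b + b • sndAddHom χ a
    rw [sndAddHom_mul, hfst, hfst, Algebra.smul_def, Algebra.smul_def]
    rfl)
  have hD' : ∀ x : k₀, D' (algebraMap k₀ A x) = D₁ x := by
    intro x
    show (χ (algebraMap k₀ A x)).snd = D₁ x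
    rw [hχ2, snd_tszeHom]
  refine ⟨LinearMap.liftBaseChange K D'.liftKaehlerDifferential, fun w => ?_⟩
  induction w using TensorProduct.induction_on with
  | zero => simp
  | add x y hx hy => rw [map_add, map_add, map_add, hx, hy]
  | tmul c y =>
    induction y using TensorProduct.induction_on with
    | zero => simp
    | add x y hx hy => rw [tmul_add, map_add, map_add, map_add, hx, hy]
    | tmul a ω =>
      have hω : ω ∈ Submodule.span k₀ (Set.range (KaehlerDifferential.D ℤ k₀)) := by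
        rw [KaehlerDifferential.span_range_derivation]; trivial
      induction hω using Submodule.span_induction generalizing a with
      | mem ω hω =>
        obtain ⟨x, rfl⟩ := hω
        rw [LinearMap.baseChange_tmul, KaehlerDifferential.mapBaseChange_tmul,
          KaehlerDifferential.map_D, LinearMap.liftBaseChange_tmul, map_smul,
          Derivation.liftKaehlerDifferential_comp_D, hD', hsm, map_smul]
        show c • (a • D₁ x) = (c * residue A a) • D₁ x
        rw [Algebra.smul_def a, smul_eq_mul, smul_eq_mul, mul_assoc]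
        rfl
      | zero => simp
      | add x y _ _ hx hy =>
        rw [tmul_add, tmul_add, map_add, map_add, map_add, hx, hy]
      | smul x ω _ h =>
        have : a ⊗ₜ[k₀] (x • ω) = (x • a) ⊗ₜ[k₀] ω := by
          rw [TensorProduct.tmul_smul, TensorProduct.smul_tmul']
        rw [this]
        exact h (x • a)

/-- **EGA 0_IV 22.x (⇒)** -/
theorem baseChange_mapBaseChange_injective
    (hfs : CAlgX.IsAdicFormallySmooth k₀ A (maximalIdeal A)) :
    Function.Injective
      ((KaehlerDifferential.mapBaseChange ℤ k₀ A).baseChange (ResidueField A)) := by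
  rw [injective_iff_map_eq_zero]
  intro w hw
  rw [← Module.forall_dual_apply_eq_zero_iff (ResidueField A)]
  intro l
  obtain ⟨μ, hμ⟩ := exists_dual_comp_eq hfs l
  rw [← hμ, hw, map_zero]

end Groth.Agent.Lib.Helper13.FSInj
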