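import Mathlib
import Groth.Agent.Lib.Helper13.ExistFS
import Groth.Agent.Lib.Helper13.FSInj
import Groth.Agent.Lib.Helper13.QuotStep
import Groth.Prelude.Def_EGA41

/-!
# Necessity: a formally smooth Noetherian local `k`-algebra has finite imperfection module of its
residue field (EGA 0_IV 22.2.6, first half)
-/

set_option autoImplicit false

namespace Groth.Agent.Lib.Helper13.ExistFS

universe u

open IsLocalRing TensorProduct Groth.Agent.Lib.Helper13.Fred

section Necessity

variable {k K A : Type u} [Field k] [Field K] [Algebra k K] [CommRing A] [IsLocalRing A]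
  [IsNoetherianRing A] [Algebra k A] [Algebra A K] [IsScalarTower k A K]

theorem finite_ker_mapBaseChange (hsurj : Function.Surjective (algebraMap A K)) :
    Module.Finite K (LinearMap.ker (KaehlerDifferential.mapBaseChange ℤ A K)) := by
  obtain ⟨s, hs⟩ := (isNoetherianRing_iff_ideal_fg A).mp inferInstance
    (RingHom.ker (algebraMap A K))
  have hF : RingHom.ker (algebraMap A K) = Ideal.span (Set.range ((↑) : s → A)) := by
    rw [Subtype.range_coe_subtype]
    exact hs.symm
  rw [ker_mapBaseChange_eq_span hsurj ((↑) : s → A) hF]
  exact Module.Finite.span_of_finite K (Set.finite_range _)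

theorem finite_imperfection_aux (hsurj : Function.Surjective (algebraMap A K))
    (hfs : CAlgX.IsAdicFormallySmooth k A (maximalIdeal A)) :
    Module.Finite K (LinearMap.ker (KaehlerDifferential.mapBaseChange ℤ k K)) := by
  -- injectivity for `K`
  have h1 : Function.Injective
      ((KaehlerDifferential.mapBaseChange ℤ k A).lTensor (ResidueField A)) := by
    rw [← LinearMap.baseChange_eq_ltensor]
    exact FSInj.baseChange_mapBaseChange_injective hfs
  have h2 : Function.Injective ((KaehlerDifferential.mapBaseChange ℤ k A).lTensor K) :=
    lTensor_injective_congr (residueEquiv (K := K) hsurj).toLinearEquiv.symm _ h1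
  have h3 : Function.Injective (Φ (k := k) (K := K) (A := A)) := by
    have : Function.Injective (((KaehlerDifferential.mapBaseChange ℤ k A).baseChange K) ∘
        (TensorProduct.AlgebraTensorModule.cancelBaseChange k A K K (Ω[k⁄ℤ])).symm) := by
      refine Function.Injective.comp ?_
        (TensorProduct.AlgebraTensorModule.cancelBaseChange k A K K (Ω[k⁄ℤ])).symm.injective
      rw [LinearMap.baseChange_eq_ltensor]
      exact h2
    exact this
  haveI := finite_ker_mapBaseChange (A := A) (K := K) hsurj
  have hmem : ∀ w ∈ LinearMap.ker (KaehlerDifferential.mapBaseChange ℤ k K),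
      Φ (A := A) w ∈ LinearMap.ker (KaehlerDifferential.mapBaseChange ℤ A K) := by
    intro w hw
    rw [LinearMap.mem_ker]
    have := mapBaseChange_tower' ℤ k A K
      ((TensorProduct.AlgebraTensorModule.cancelBaseChange k A K K (Ω[k⁄ℤ])).symm w)
    rw [LinearEquiv.apply_symm_apply] at this
    exact this.trans hw
  have hle : (LinearMap.ker (KaehlerDifferential.mapBaseChange ℤ k K)).map
      (Φ (k := k) (K := K) (A := A)) ≤
      LinearMap.ker (KaehlerDifferential.mapBaseChange ℤ A K) := by
    rintro _ ⟨w, hw, rfl⟩
    exact hmem w hw
  haveI : FiniteDimensional K ((LinearMap.ker (KaehlerDifferential.mapBaseChange ℤ k K)).map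
      (Φ (k := k) (K := K) (A := A))) := Submodule.finiteDimensional_of_le hle
  exact Module.Finite.equiv (Submodule.equivMapOfInjective (Φ (k := k) (K := K) (A := A)) h3
    (LinearMap.ker (KaehlerDifferential.mapBaseChange ℤ k K))).symm

end Necessity

theorem finite_of_exists {k K A : Type u} [Field k] [Field K] [Algebra k K] [CommRing A]
    [IsLocalRing A] [IsNoetherianRing A] [Algebra k A]
    (hfs : CAlgX.IsAdicFormallySmooth k A (maximalIdeal A)) (e : ResidueField A ≃ₐ[k] K) :
    Module.Finite K (EGA41.imperfection ℤ k K) := by
  letI : Algebra A K := ((e : ResidueField A →+* K).comp (residue A)).toAlgebra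
  haveI : IsScalarTower k A K := IsScalarTower.of_algebraMap_eq (fun x => by
    show algebraMap k K x = e (residue A (algebraMap k A x))
    have : residue A (algebraMap k A x) = algebraMap k (ResidueField A) x := rfl
    rw [this, e.commutes])
  have hsurj : Function.Surjective (algebraMap A K) :=
    e.surjective.comp residue_surjective
  exact finite_imperfection_aux (A := A) hsurj hfs

end Groth.Agent.Lib.Helper13.ExistFS
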