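import Mathlib
import Groth.Agent.Lib.Helper13.FSLift

/-!
# Adic formal smoothness makes `(A/𝔫^j) ⊗ Ω_{A/k₀}` projective over `A/𝔫^j`
-/

set_option autoImplicit false

namespace Groth.Agent.Lib.Helper13.FSProj

universe u

open TrivSqZeroExt TensorProduct Groth.Agent.Lib.Helper13.FSLift

variable {k₀ A : Type u} [CommRing k₀] [CommRing A] [Algebra k₀ A]

section Sq

variable {C : Type*} [CommRing C] [Algebra A C]

theorem one_tmul_D_eq_zero_of_mem_sq {x : A} (hx : x ∈ RingHom.ker (algebraMap A C) ^ 2) :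
    (1 : C) ⊗ₜ[A] KaehlerDifferential.D k₀ A x = 0 := by
  rw [pow_two] at hx
  refine Submodule.mul_induction_on hx (fun a ha b hb => ?_) (fun x y hx hy => ?_)
  · rw [Derivation.leibniz, TensorProduct.tmul_add, TensorProduct.tmul_smul,
      TensorProduct.tmul_smul, TensorProduct.smul_tmul', TensorProduct.smul_tmul',
      Algebra.smul_def, Algebra.smul_def, mul_one, mul_one,
      (RingHom.mem_ker).mp ha, (RingHom.mem_ker).mp hb, TensorProduct.zero_tmul,
      TensorProduct.zero_tmul, add_zero]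
  · rw [map_add, TensorProduct.tmul_add, hx, hy, add_zero]

end Sq

variable (𝔫 : Ideal A) (j : ℕ)

theorem projective_quotient_tensor_kaehler (hfs : CAlgX.IsAdicFormallySmooth k₀ A 𝔫) :
    Module.Projective (A ⧸ 𝔫 ^ j) ((A ⧸ 𝔫 ^ j) ⊗[A] Ω[A⁄k₀]) := by
  set R := A ⧸ 𝔫 ^ j with hR
  set P := R ⊗[A] Ω[A⁄k₀] with hP
  let M := P →₀ R
  let f : M →ₗ[R] P := Finsupp.linearCombination R id
  have hf : Function.Surjective f := Finsupp.linearCombination_id_surjective R P
  let π : A →+* R := Ideal.Quotient.mk (𝔫 ^ j)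
  have hπ : ∀ a : A, algebraMap A R a = π a := fun a => rfl
  have hsm : ∀ (a : A) (ω : Ω[A⁄k₀]), (1 : R) ⊗ₜ[A] (a • ω) = π a • ((1 : R) ⊗ₜ[A] ω) := by
    intro a ω
    rw [TensorProduct.tmul_smul, TensorProduct.smul_tmul', TensorProduct.smul_tmul',
      Algebra.smul_def, mul_one, smul_eq_mul, mul_one]
    rfl
  -- the universal derivation into `P`
  let D₀ : A →+ P :=
    { toFun := fun a => (1 : R) ⊗ₜ[A] KaehlerDifferential.D k₀ A a
      map_zero' := by simp
      map_add' := fun a b => by rw [map_add, tmul_add] }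
  have hD₀ : ∀ a b, D₀ (a * b) = π a • D₀ b + π b • D₀ a := by
    intro a b
    show (1 : R) ⊗ₜ[A] KaehlerDifferential.D k₀ A (a * b) =
      π a • ((1 : R) ⊗ₜ[A] KaehlerDifferential.D k₀ A b) +
      π b • ((1 : R) ⊗ₜ[A] KaehlerDifferential.D k₀ A a)
    rw [Derivation.leibniz, tmul_add, hsm, hsm]
  let ψ₀ : A →+* TrivSqZeroExt R P := tszeHom π D₀ hD₀
  let θ : k₀ →+* TrivSqZeroExt R M := (inlHom R M).comp (algebraMap k₀ R)
  let g : TrivSqZeroExt R M →+* TrivSqZeroExt R P := (TrivSqZeroExt.map f).toRingHom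
  have hker_π : RingHom.ker (algebraMap A R) = 𝔫 ^ j := Ideal.mk_ker
  obtain ⟨χ, hχ1, hχ2⟩ := exists_lift hfs g (FSLift.map_surjective f hf) (ker_map_sq f) θ ψ₀
    (fun x => by
      show tszeHom π D₀ hD₀ (algebraMap k₀ A x) =
        TrivSqZeroExt.map f (inl (algebraMap k₀ R x))
      rw [map_inl]
      refine TrivSqZeroExt.ext ?_ ?_
      · rw [fst_tszeHom, fst_inl]; rfl
      · rw [snd_tszeHom, snd_inl]
        show (1 : R) ⊗ₜ[A] KaehlerDifferential.D k₀ A (algebraMap k₀ A x) = 0
        rw [Derivation.map_algebraMap, tmul_zero])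
    ⟨2 * j, fun a ha => by
      have ha2 : a ∈ RingHom.ker (algebraMap A R) ^ 2 := by
        rw [hker_π, ← pow_mul, mul_comm]; exact ha
      have ha1 : π a = 0 := by
        have : a ∈ RingHom.ker (algebraMap A R) := Ideal.pow_le_self two_ne_zero ha2
        exact this
      refine TrivSqZeroExt.ext ?_ ?_
      · rw [fst_tszeHom, ha1, fst_zero]
      · rw [snd_tszeHom, snd_zero]
        exact one_tmul_D_eq_zero_of_mem_sq ha2⟩
  have hfst : ∀ a, (χ a).fst = π a := fun a => by
    have h := congrArg TrivSqZeroExt.fst (hχ1 a)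
    rw [fst_tszeHom] at h
    rw [← h]
    exact (fst_map f (χ a)).symm
  have hsnd : ∀ a, f ((χ a).snd) = D₀ a := fun a => by
    have h := congrArg TrivSqZeroExt.snd (hχ1 a)
    rw [snd_tszeHom] at h
    rw [← h]
    exact (snd_map f (χ a)).symm
  have hχk : ∀ x : k₀, (χ (algebraMap k₀ A x)).snd = 0 := fun x => by
    rw [hχ2]
    show (inl (algebraMap k₀ R x) : TrivSqZeroExt R M).snd = 0
    rw [snd_inl]
  have hleib : ∀ a b, sndAddHom χ (a * b) = a • sndAddHom χ b + b • sndAddHom χ a := by
    intro a b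
    rw [sndAddHom_mul, hfst, hfst, ← hπ, ← hπ, algebraMap_smul, algebraMap_smul]
  let Dlin : A →ₗ[k₀] M :=
    { toFun := sndAddHom χ
      map_add' := map_add _
      map_smul' := fun x a => by
        rw [Algebra.smul_def, hleib]
        have : sndAddHom χ (algebraMap k₀ A x) = 0 := hχk x
        rw [this, smul_zero, add_zero, algebraMap_smul]
        rfl }
  let D' : Derivation k₀ A M := Derivation.mk' Dlin hleib
  let h : P →ₗ[R] M := LinearMap.liftBaseChange R D'.liftKaehlerDifferential
  rw [Module.projective_def']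
  refine ⟨h, LinearMap.ext fun w => ?_⟩
  show f (h w) = w
  induction w using TensorProduct.induction_on with
  | zero => simp
  | add x y hx hy => rw [map_add, map_add, hx, hy]
  | tmul c ω =>
    have hω : ω ∈ Submodule.span A (Set.range (KaehlerDifferential.D k₀ A)) := by
      rw [KaehlerDifferential.span_range_derivation]; trivial
    induction hω using Submodule.span_induction generalizing c with
    | mem ω hω =>
      obtain ⟨a, rfl⟩ := hω
      rw [LinearMap.liftBaseChange_tmul, Derivation.liftKaehlerDifferential_comp_D, map_smul]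
      show c • f ((χ a).snd) = _
      rw [hsnd]
      show c • ((1 : R) ⊗ₜ[A] KaehlerDifferential.D k₀ A a) = _
      rw [TensorProduct.smul_tmul', smul_eq_mul, mul_one]
    | zero => simp
    | add x y _ _ hx hy => rw [tmul_add, map_add, map_add, hx, hy]
    | smul a ω _ ih =>
      have : c ⊗ₜ[A] (a • ω) = (a • c) ⊗ₜ[A] ω := by
        rw [TensorProduct.tmul_smul, TensorProduct.smul_tmul']
      rw [this]
      exact ih (a • c)

end Groth.Agent.Lib.Helper13.FSProj
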