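import Mathlib
import Groth.Agent.S14670
import Groth.Agent.S2082
import Groth.Agent.S5671
import Groth.Agent.Lib.Helper29.RegHom

set_option autoImplicit false
universe u

namespace Groth.Agent.Lib.Helper13.FinRegFlat

open IsLocalRing TensorProduct

section alg

variable (A C R S : Type u) [CommRing A] [CommRing C] [CommRing R] [CommRing S]
  [Algebra A C] [Algebra A R] [Algebra C S] [Algebra R S] [Algebra A S]
  [IsScalarTower A R S] [IsScalarTower A C S]

/-- the canonical map `R ⊗[A] C → S` -/
noncomputable def tmap : R ⊗[A] C →ₐ[R] S :=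
  Algebra.TensorProduct.lift (Algebra.ofId R S) (IsScalarTower.toAlgHom A C S)
    (fun _ _ => Commute.all _ _)

/-- the image of `R ⊗[A] C` in `S` -/
noncomputable def D : Subalgebra R S := (tmap A C R S).range

instance [Module.Finite A C] : Module.Finite R (D A C R S) :=
  Module.Finite.of_surjective (tmap A C R S).rangeRestrict.toLinearMap
    (tmap A C R S).rangeRestrict_surjective

theorem algebraMap_mem (c : C) : algebraMap C S c ∈ D A C R S :=
  ⟨1 ⊗ₜ c, by simp [tmap]⟩

variable [IsLocalRing S]

/-- the contraction of the maximal ideal of `S` to `D` -/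
noncomputable def q' : Ideal (D A C R S) := (maximalIdeal S).comap (algebraMap (D A C R S) S)

instance : (q' A C R S).IsPrime := by unfold q'; infer_instance

theorem isLocalization_D (q : Ideal C) [q.IsPrime] [IsLocalization.AtPrime S q] :
    IsLocalization.AtPrime S (q' A C R S) := by
  refine ⟨?_, ?_, ?_⟩
  · rintro ⟨d, hd⟩
    by_contra h
    exact hd ((mem_maximalIdeal _).2 h)
  · intro s
    obtain ⟨⟨c, t⟩, hct⟩ := IsLocalization.surj q.primeCompl s
    refine ⟨⟨⟨algebraMap C S c, algebraMap_mem A C R S c⟩,
      ⟨⟨algebraMap C S t, algebraMap_mem A C R S t⟩, ?_⟩⟩, hct⟩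
    intro h
    exact ((mem_maximalIdeal _).1 h) (IsLocalization.map_units S t)
  · intro a b hab
    exact ⟨1, by rw [Subtype.ext hab]⟩


section main

theorem algebraMap_D_injective (A C R S : Type u) [CommRing A] [CommRing C] [CommRing R] [CommRing S]
    [Algebra A C] [Algebra A R] [Algebra C S] [Algebra R S] [Algebra A S]
    [IsScalarTower A R S] [IsScalarTower A C S]
    (hinj : Function.Injective (algebraMap R S)) :
    Function.Injective (algebraMap R (D A C R S)) := by
  intro a b hab
  apply hinj
  have := congrArg (algebraMap (D A C R S) S) hab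
  simpa [← IsScalarTower.algebraMap_apply] using this

theorem q'_under (A C R S : Type u) [CommRing A] [CommRing C] [CommRing R] [CommRing S]
    [Algebra A C] [Algebra A R] [Algebra C S] [Algebra R S] [Algebra A S]
    [IsScalarTower A R S] [IsScalarTower A C S] [IsLocalRing S] [IsLocalRing R]
    [IsLocalHom (algebraMap R S)] :
    (q' A C R S).comap (algebraMap R (D A C R S)) = maximalIdeal R := by
  unfold q'
  rw [Ideal.comap_comap, ← IsScalarTower.algebraMap_eq]
  exact IsLocalRing.maximalIdeal_comap (algebraMap R S)

theorem q'_isMaximal (A C R S : Type u) [CommRing A] [CommRing C] [CommRing R] [CommRing S]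
    [Algebra A C] [Algebra A R] [Algebra C S] [Algebra R S] [Algebra A S]
    [IsScalarTower A R S] [IsScalarTower A C S] [IsLocalRing S] [IsLocalRing R]
    [Module.Finite A C] [IsLocalHom (algebraMap R S)] : (q' A C R S).IsMaximal := by
  have : Algebra.IsIntegral R (D A C R S) := Algebra.IsIntegral.of_finite R _
  apply Ideal.isMaximal_of_isIntegral_of_isMaximal_comap (R := R)
  rw [q'_under]
  infer_instance

theorem ringKrullDim_eq (A C R S : Type u) [CommRing A] [CommRing C] [CommRing R] [CommRing S]
    [Algebra A C] [Algebra A R] [Algebra C S] [Algebra R S] [Algebra A S]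
    [IsScalarTower A R S] [IsScalarTower A C S] [IsLocalRing S]
    [Module.Finite A C] (q : Ideal C) [q.IsPrime] [IsLocalization.AtPrime S q]
    [IsRegularLocalRing R] [IsDomain S] [IsLocalHom (algebraMap R S)]
    (hinj : Function.Injective (algebraMap R S)) : ringKrullDim S = ringKrullDim R := by
  have := isLocalization_D A C R S q
  have := q'_isMaximal A C R S
  rw [IsLocalization.AtPrime.ringKrullDim_eq_height (q' A C R S) S,
    ← IsLocalization.AtPrime.ringKrullDim_eq_height (q' A C R S) (Localization.AtPrime (q' A C R S))]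
  exact Groth.Agent.S14670.ringKrullDim_localization R (D A C R S)
    (algebraMap_D_injective A C R S hinj) (q' A C R S)

theorem eq_maximalIdeal_of_le (A C R S : Type u) [CommRing A] [CommRing C] [CommRing R] [CommRing S]
    [Algebra A C] [Algebra A R] [Algebra C S] [Algebra R S] [Algebra A S]
    [IsScalarTower A R S] [IsScalarTower A C S] [IsLocalRing S]
    [Module.Finite A C] (q : Ideal C) [q.IsPrime] [IsLocalization.AtPrime S q]
    [IsRegularLocalRing R] [IsDomain S] [IsLocalHom (algebraMap R S)] (Q : Ideal S) [Q.IsPrime]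
    (hQ : (maximalIdeal R).map (algebraMap R S) ≤ Q) : Q = maximalIdeal S := by
  have := isLocalization_D A C R S q
  have : Algebra.IsIntegral R (D A C R S) := Algebra.IsIntegral.of_finite R _
  set Q' : Ideal (D A C R S) := Q.comap (algebraMap (D A C R S) S) with hQ'
  have hQ'under : Q'.comap (algebraMap R (D A C R S)) = maximalIdeal R := by
    have hle : maximalIdeal R ≤ Q'.comap (algebraMap R (D A C R S)) := by
      rw [hQ', Ideal.comap_comap, ← IsScalarTower.algebraMap_eq]
      exact Ideal.map_le_iff_le_comap.1 hQ
    have hne : Q'.comap (algebraMap R (D A C R S)) ≠ ⊤ := Ideal.IsPrime.ne_top inferInstance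
    exact ((IsLocalRing.maximalIdeal.isMaximal R).eq_of_le hne hle).symm
  have hQ'max : Q'.IsMaximal := by
    apply Ideal.isMaximal_of_isIntegral_of_isMaximal_comap (R := R)
    rw [hQ'under]; infer_instance
  have hle : Q' ≤ q' A C R S :=
    Ideal.comap_mono (IsLocalRing.le_maximalIdeal (Ideal.IsPrime.ne_top inferInstance))
  have heq : Q' = q' A C R S := hQ'max.eq_of_le (Ideal.IsPrime.ne_top inferInstance) hle
  rw [← IsLocalization.map_under (q' A C R S).primeCompl S Q,
    ← IsLocalization.map_under (q' A C R S).primeCompl S (maximalIdeal S)]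
  exact congrArg _ heq

theorem ringKrullDim_fibre_eq_zero (A C R S : Type u) [CommRing A] [CommRing C] [CommRing R] [CommRing S]
    [Algebra A C] [Algebra A R] [Algebra C S] [Algebra R S] [Algebra A S]
    [IsScalarTower A R S] [IsScalarTower A C S]
    [Module.Finite A C] (q : Ideal C) [q.IsPrime] [IsLocalization.AtPrime S q]
    [IsRegularLocalRing R] [IsRegularLocalRing S] [IsLocalHom (algebraMap R S)] :
    ringKrullDim (S ⧸ (maximalIdeal R).map (algebraMap R S)) = 0 := by
  have : IsDomain S := Groth.Agent.S0558.result S
  have hlt : (maximalIdeal R).map (algebraMap R S) ≠ ⊤ :=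
    (IsLocalRing.map_maximalIdeal_lt_top (algebraMap R S)).ne
  have : Nontrivial (S ⧸ (maximalIdeal R).map (algebraMap R S)) :=
    Ideal.Quotient.nontrivial_iff.2 hlt
  rw [← ringKrullDimZero_iff_ringKrullDim_eq_zero,
    Ideal.krullDimLE_zero_quotient_iff_forall_minimalPrimes_isMaximal]
  intro J hJ
  have : J.IsPrime := hJ.1.1
  rw [eq_maximalIdeal_of_le A C R S q J hJ.1.2]
  infer_instance

theorem flat_alg (A C R S : Type u) [CommRing A] [CommRing C] [CommRing R] [CommRing S]
    [Algebra A C] [Algebra A R] [Algebra C S] [Algebra R S] [Algebra A S]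
    [IsScalarTower A R S] [IsScalarTower A C S]
    [Module.Finite A C] (q : Ideal C) [q.IsPrime] [IsLocalization.AtPrime S q]
    [IsRegularLocalRing R] [IsRegularLocalRing S] [IsLocalHom (algebraMap R S)]
    (hinj : Function.Injective (algebraMap R S)) : Module.Flat R S := by
  have : IsDomain S := Groth.Agent.S0558.result S
  apply Groth.Agent.Lib.Helper29.RegHom.flat_of_regular_of_isCM R S
    (Groth.Agent.S5671.isCM_of_regular S)
  rw [ringKrullDim_fibre_eq_zero A C R S q, add_zero]
  exact ringKrullDim_eq A C R S q hinj

end main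

end alg

end Groth.Agent.Lib.Helper13.FinRegFlat
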