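import Mathlib

set_option autoImplicit false
universe u

namespace Groth.Agent.Lib.Helper13.FinRegFlatTop

open AlgebraicGeometry CategoryTheory

theorem closure_singleton_mem_irreducibleComponents {X : Type*} [TopologicalSpace X] [QuasiSober X]
    (ξ : X) (h : ∀ ξ', ξ' ⤳ ξ → ξ' = ξ) : closure {ξ} ∈ irreducibleComponents X := by
  refine ⟨isIrreducible_singleton.closure, fun Z hZ hle => ?_⟩
  obtain ⟨ζ, hζ⟩ := QuasiSober.sober hZ.closure isClosed_closure
  have h1 : ζ ⤳ ξ := by
    rw [specializes_iff_mem_closure, hζ.def]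
    exact subset_closure (hle (subset_closure rfl))
  have h2 : Z ⊆ closure {ξ} := by
    rw [← h ζ h1, hζ.def]; exact subset_closure
  exact h2

theorem eq_of_specializes_of_closure_mem {Y : Type*} [TopologicalSpace Y] [T0Space Y] (η η' : Y)
    (h : closure {η} ∈ irreducibleComponents Y) (hs : η' ⤳ η) : η' = η := by
  have h1 : closure {η} ⊆ closure {η'} := specializes_iff_closure_subset.1 hs
  have h2 : closure {η'} ⊆ closure {η} := h.2 isIrreducible_singleton.closure h1
  exact (hs.antisymm (specializes_iff_closure_subset.2 h2)).eq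

theorem stalkMap_injective_of_dom {X Y : Scheme.{u}} (f : X ⟶ Y)
    (hdom : ∀ Z ∈ irreducibleComponents (X : Type u),
      closure (f.base '' Z) ∈ irreducibleComponents (Y : Type u))
    (x : X) [IsDomain (X.presheaf.stalk x)] [IsDomain (Y.presheaf.stalk (f x))] :
    Function.Injective (f.stalkMap x).hom := by
  let b : PrimeSpectrum (X.presheaf.stalk x) := ⟨⊥, Ideal.isPrime_bot⟩
  let b' : PrimeSpectrum (Y.presheaf.stalk (f x)) := ⟨⊥, Ideal.isPrime_bot⟩
  set ξ : X := (X.fromSpecStalk x) b with hξ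
  have hξmin : ∀ ξ', ξ' ⤳ ξ → ξ' = ξ := by
    intro ξ' h
    have hx : ξ ⤳ x := by
      have : ξ ∈ Set.range (X.fromSpecStalk x) := ⟨b, rfl⟩
      rwa [Scheme.range_fromSpecStalk] at this
    have : ξ' ∈ Set.range (X.fromSpecStalk x) := by
      rw [Scheme.range_fromSpecStalk]; exact h.trans hx
    obtain ⟨b'', rfl⟩ := this
    have h2 : b'' ⤳ b := (X.fromSpecStalk x).isEmbedding.isInducing.specializes_iff.1 h
    have h2' : PrimeSpectrum.asIdeal b'' ≤ PrimeSpectrum.asIdeal b :=
      (PrimeSpectrum.le_iff_specializes (R := X.presheaf.stalk x) b'' b).2 h2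
    have : b'' = b := PrimeSpectrum.ext (le_bot_iff.1 h2')
    rw [this]
  have hZ := closure_singleton_mem_irreducibleComponents ξ hξmin
  have hW := hdom _ hZ
  rw [closure_image_closure f.continuous, Set.image_singleton] at hW
  let P : PrimeSpectrum (Y.presheaf.stalk (f x)) := (Spec.map (f.stalkMap x)) b
  have hP : (Y.fromSpecStalk (f x)) P = f ξ := by
    have := Scheme.SpecMap_stalkMap_fromSpecStalk (f := f) (x := x)
    exact congr($(this) b)
  have hb'P : b' ⤳ P := (PrimeSpectrum.le_iff_specializes _ _).1 bot_le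
  have h3 : (Y.fromSpecStalk (f x)) b' ⤳ f ξ := hP ▸ hb'P.map (Y.fromSpecStalk (f x)).continuous
  have h4 := eq_of_specializes_of_closure_mem _ _ hW h3
  have h5 : b' = P := (Y.fromSpecStalk (f x)).isEmbedding.injective (h4.trans hP.symm)
  rw [injective_iff_map_eq_zero]
  intro a ha
  have : a ∈ P.asIdeal := by
    change a ∈ Ideal.comap (f.stalkMap x).hom ⊥
    simpa using ha
  rw [← h5] at this
  exact this

end Groth.Agent.Lib.Helper13.FinRegFlatTop
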