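import Mathlib
import Groth.Prelude.Def_W4c2gaugesfzipsQuiet

set_option autoImplicit false

universe u

namespace Groth.Agent.Lib.Helper13.RootTower

open Polynomial Quiet

/-- the monomials `∏ y_i ^ α_i`, `α_i < p`. -/
def mon (p : ℕ) {S : Type*} [CommMonoid S] {n : ℕ} (y : Fin n → S) (α : Fin n → Fin p) : S :=
  ∏ i, y i ^ (α i : ℕ)

theorem mon_succ (p : ℕ) {S : Type*} [CommMonoid S] {n : ℕ} (y : Fin (n + 1) → S)
    (α : Fin (n + 1) → Fin p) :
    mon p y α = y 0 ^ (α 0 : ℕ) * mon p (fun i => y i.succ) (fun i => α i.succ) := by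
  simp only [mon, Fin.prod_univ_succ]

/-- Tower lemma: if `b i • c k` is an `R`-basis of `S` and `b` an `R`-basis of `R'`, then
`c` is an `R'`-basis of `S`. -/
theorem linearIndependent_of_tower {R R' S : Type*} [CommRing R] [CommRing R'] [CommRing S]
    [Algebra R R'] [Algebra R' S] [Algebra R S] [IsScalarTower R R' S]
    {ι κ : Type*} [Fintype ι] [Fintype κ] (b : Module.Basis ι R R') (c : κ → S)
    (h : LinearIndependent R (fun ik : ι × κ => b ik.1 • c ik.2)) :
    LinearIndependent R' c := by
  classical
  rw [Fintype.linearIndependent_iff] at h ⊢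
  intro g hg k
  have h1 : ∑ ik : ι × κ, (b.repr (g ik.2) ik.1) • (b ik.1 • c ik.2) = 0 := by
    rw [Fintype.sum_prod_type_right]
    rw [← hg]
    refine Finset.sum_congr rfl fun k _ => ?_
    conv_rhs => rw [← b.sum_repr (g k)]
    rw [Finset.sum_smul]
    refine Finset.sum_congr rfl fun i _ => ?_
    rw [smul_assoc]
  have h2 := h (fun ik => b.repr (g ik.2) ik.1) h1
  have h3 : b.repr (g k) = 0 := by
    ext i
    exact h2 (i, k)
  exact (LinearEquiv.map_eq_zero_iff _).mp h3

theorem span_of_tower {R R' S : Type*} [CommRing R] [CommRing R'] [CommRing S]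
    [Algebra R R'] [Algebra R' S] [Algebra R S] [IsScalarTower R R' S]
    {ι κ : Type*} (b : ι → R') (c : κ → S)
    (h : ⊤ ≤ Submodule.span R (Set.range fun ik : ι × κ => b ik.1 • c ik.2)) :
    ⊤ ≤ Submodule.span R' (Set.range c) := by
  intro s _
  have hs : s ∈ Submodule.span R (Set.range fun ik : ι × κ => b ik.1 • c ik.2) := h trivial
  have hle : Submodule.span R (Set.range fun ik : ι × κ => b ik.1 • c ik.2) ≤
      (Submodule.span R' (Set.range c)).restrictScalars R := by
    rw [Submodule.span_le]
    rintro _ ⟨ik, rfl⟩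
    exact Submodule.smul_mem _ _ (Submodule.subset_span (Set.mem_range_self ik.2))
  exact hle hs

theorem isRootTower_of_basis (p : ℕ) (hp : p ≠ 0) : ∀ (n : ℕ) (R S : Type u) [CommRing R]
    [Nontrivial R] [CommRing S] [Algebra R S] (x : Fin n → R) (y : Fin n → S),
    (∀ i, y i ^ p = algebraMap R S (x i)) → LinearIndependent R (mon p y) →
    ⊤ ≤ Submodule.span R (Set.range (mon p y)) → IsRootTower p n R S := by
  intro n
  induction n with
  | zero =>
    intro R S _ _ _ _ x y hxy hli hsp
    have hmon : ∀ α, mon p y α = 1 := fun α => by simp [mon]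
    have hinj : Function.Injective (algebraMap R S) := by
      rw [injective_iff_map_eq_zero]
      intro r hr
      exact Fintype.linearIndependent_iff.mp hli (fun _ => r)
        (by simp [hmon, Algebra.smul_def, hr]) (fun i => i.elim0)
    have hsurj : Function.Surjective (algebraMap R S) := by
      intro s
      have hs : s ∈ Submodule.span R (Set.range (mon p y)) := hsp trivial
      have hr : Set.range (mon p y) = {1} := by
        ext z
        simp [hmon, eq_comm]
      rw [hr, Submodule.mem_span_singleton] at hs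
      obtain ⟨r, rfl⟩ := hs
      exact ⟨r, by rw [Algebra.smul_def, mul_one]⟩
    exact ⟨(AlgEquiv.ofBijective (Algebra.ofId R S) ⟨hinj, hsurj⟩).symm⟩
  | succ n ih =>
    intro R S _ _ _ _ x y hxy hli hsp
    classical
    have hg : (X ^ p - C (x 0) : R[X]).Monic := monic_X_pow_sub_C (x 0) hp
    have hdeg : (X ^ p - C (x 0) : R[X]).natDegree = p := natDegree_X_pow_sub_C
    have h0 : (X ^ p - C (x 0) : R[X]).eval₂ (algebraMap R S) (y 0) = 0 := by
      simp [eval₂_sub, eval₂_pow, eval₂_X, eval₂_C, hxy 0]
    letI alg : Algebra (RootRing p R (x 0)) S :=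
      (AdjoinRoot.lift (algebraMap R S) (y 0) h0).toAlgebra
    have halg : ∀ z, algebraMap (RootRing p R (x 0)) S z =
        AdjoinRoot.lift (algebraMap R S) (y 0) h0 z := fun z => rfl
    haveI tower : IsScalarTower R (RootRing p R (x 0)) S :=
      IsScalarTower.of_algebraMap_eq (fun r => by
        rw [halg]
        exact (AdjoinRoot.lift_of h0).symm)
    haveI : Nontrivial S := ⟨⟨_, _, (hli.ne_zero (fun _ => ⟨0, Nat.pos_of_ne_zero hp⟩))⟩⟩
    haveI : Nontrivial (RootRing p R (x 0)) :=
      (algebraMap (RootRing p R (x 0)) S).domain_nontrivial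
    refine ⟨x 0, alg, tower, ?_⟩
    let b : Module.Basis (Fin p) R (RootRing p R (x 0)) :=
      (AdjoinRoot.powerBasis' hg).basis.reindex
        (finCongr (by rw [AdjoinRoot.powerBasis'_dim, hdeg]))
    have hb : ∀ j, b j = AdjoinRoot.root _ ^ (j : ℕ) := by
      intro j
      simp [b, PowerBasis.basis_eq_pow]
    have hfam : (fun jβ : Fin p × (Fin n → Fin p) =>
        b jβ.1 • mon p (fun i => y i.succ) jβ.2) =
        (mon p y) ∘ (Fin.consEquiv (fun _ : Fin (n + 1) => Fin p)) := by
      funext jβ
      rw [Function.comp_apply, mon_succ]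
      simp only [Fin.consEquiv_apply, Fin.cons_zero, Fin.cons_succ]
      rw [hb, Algebra.smul_def, map_pow, halg, AdjoinRoot.lift_root]
    apply ih (RootRing p R (x 0)) S (fun i => AdjoinRoot.of _ (x i.succ)) (fun i => y i.succ)
    · intro i
      rw [hxy, halg]
      exact (AdjoinRoot.lift_of h0).symm
    · refine linearIndependent_of_tower (R := R) b (fun β => mon p (fun i => y i.succ) β) ?_
      rw [hfam]
      exact hli.comp _ (Equiv.injective _)
    · refine span_of_tower (R := R) (fun j => b j) (fun β => mon p (fun i => y i.succ) β) ?_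
      rw [hfam, Set.range_comp, Equiv.range_eq_univ, Set.image_univ]
      exact hsp

end Groth.Agent.Lib.Helper13.RootTower
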