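import Mathlib
import Groth.Agent.Lib.Helper13.RootTower

set_option autoImplicit false

universe u

namespace Groth.Agent.Lib.Helper13.RootTower

open Polynomial TensorProduct

section Epi

variable {C₀ B : Type u} [CommRing C₀] [CommRing B] [Algebra C₀ B] (p : ℕ) [Fact p.Prime]
  [CharP B p]

/-- A formally unramified finite-type algebra in which every element has its `p`-th power
in the base (char. `p`) is a quotient of the base. -/
theorem surjective_of_formallyUnramified_of_pow_mem [Algebra.FormallyUnramified C₀ B]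
    [Algebra.FiniteType C₀ B] (h : ∀ b : B, b ^ p ∈ (algebraMap C₀ B).range) :
    Function.Surjective (algebraMap C₀ B) := by
  classical
  haveI : Algebra.IsIntegral C₀ B := ⟨fun b => by
    obtain ⟨c, hc⟩ := h b
    refine ⟨X ^ p - C c, monic_X_pow_sub_C c (Fact.out : p.Prime).ne_zero, ?_⟩
    simp [hc]⟩
  haveI : Module.Finite C₀ B := Algebra.IsIntegral.finite
  rw [← Algebra.isEpi_iff_surjective_algebraMap_of_finite, Algebra.isEpi_iff_forall_one_tmul_eq]
  -- the ideal `I`
  have hI2 : IsIdempotentElem (KaehlerDifferential.ideal C₀ B) := by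
    rw [← Ideal.cotangent_subsingleton_iff]
    exact inferInstanceAs (Subsingleton Ω[B⁄C₀])
  have hfg : (KaehlerDifferential.ideal C₀ B).FG := KaehlerDifferential.ideal_fg C₀ B
  obtain ⟨e, he, hIe⟩ := (Ideal.isIdempotentElem_iff_of_fg _ hfg).mp hI2
  haveI : CharP (B ⊗[C₀] B) p := by
    refine ⟨fun n => ⟨fun hn => ?_, fun hn => ?_⟩⟩
    · have := congrArg (Algebra.TensorProduct.lmul' C₀ (S := B)) hn
      simp at this
      exact (CharP.cast_eq_zero_iff B p n).mp this
    · have : (n : B ⊗[C₀] B) = algebraMap B (B ⊗[C₀] B) (n : B) := by simp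
      rw [this, (CharP.cast_eq_zero_iff B p n).mpr hn, map_zero]
  have hnil : KaehlerDifferential.ideal C₀ B ≤ nilradical (B ⊗[C₀] B) := by
    rw [← KaehlerDifferential.span_range_eq_ideal, Ideal.span_le]
    rintro _ ⟨b, rfl⟩
    show IsNilpotent _
    refine ⟨p, ?_⟩
    rw [sub_pow_char, Algebra.TensorProduct.tmul_pow, Algebra.TensorProduct.tmul_pow, one_pow]
    obtain ⟨c, hc⟩ := h b
    rw [← hc, Algebra.algebraMap_eq_smul_one, TensorProduct.tmul_smul, TensorProduct.smul_tmul',
      sub_self]
  have he0 : e = 0 := by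
    have hmem : e ∈ KaehlerDifferential.ideal C₀ B := by
      rw [hIe]; exact Submodule.mem_span_singleton_self e
    exact he.eq_zero_of_isNilpotent (hnil hmem)
  have hI0 : KaehlerDifferential.ideal C₀ B = ⊥ := by
    rw [hIe, he0]; simp
  intro b
  have hb : (1 : B) ⊗ₜ[C₀] b - b ⊗ₜ[C₀] 1 ∈ KaehlerDifferential.ideal C₀ B :=
    KaehlerDifferential.one_smul_sub_smul_one_mem_ideal C₀ b
  rw [hI0] at hb
  exact sub_eq_zero.mp hb

end Epi

section Span

variable (p : ℕ) [Fact p.Prime] {n : ℕ} {R S : Type u} [CommRing R] [CommRing S] [Algebra R S]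
  (x : Fin n → R) (y : Fin n → S) (hxy : ∀ i, y i ^ p = algebraMap R S (x i))

include hxy

theorem y_mul_mon_mem (i : Fin n) (α : Fin n → Fin p) :
    y i * mon p y α ∈ Submodule.span R (Set.range (mon p y)) := by
  classical
  have hp : 0 < p := (Fact.out : p.Prime).pos
  set r' : Fin p := ⟨((α i : ℕ) + 1) % p, Nat.mod_lt _ hp⟩ with hr'
  have h1 : y i * mon p y α =
      algebraMap R S (x i ^ (((α i : ℕ) + 1) / p)) * mon p y (Function.update α i r') := by
    unfold mon
    rw [← Finset.mul_prod_erase Finset.univ _ (Finset.mem_univ i),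
      ← Finset.mul_prod_erase Finset.univ
        (fun j => y j ^ ((Function.update α i r' j : Fin p) : ℕ)) (Finset.mem_univ i)]
    have h2 : ∏ j ∈ Finset.univ.erase i, y j ^ ((Function.update α i r' j : Fin p) : ℕ) =
        ∏ j ∈ Finset.univ.erase i, y j ^ (α j : ℕ) :=
      Finset.prod_congr rfl fun j hj => by
        rw [Function.update_of_ne (Finset.ne_of_mem_erase hj)]
    rw [h2, Function.update_self, map_pow, ← hxy]
    have h3 : y i * y i ^ (α i : ℕ) = (y i ^ p) ^ (((α i : ℕ) + 1) / p) * y i ^ (r' : ℕ) := by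
      rw [← pow_succ', ← pow_mul, ← pow_add, hr']
      congr 1
      exact (Nat.div_add_mod _ _).symm
    rw [← mul_assoc, h3, mul_assoc]
  rw [h1, ← Algebra.smul_def]
  exact Submodule.smul_mem _ _ (Submodule.subset_span (Set.mem_range_self _))

theorem y_mul_mem (i : Fin n) (u : S) (hu : u ∈ Submodule.span R (Set.range (mon p y))) :
    y i * u ∈ Submodule.span R (Set.range (mon p y)) := by
  induction hu using Submodule.span_induction with
  | mem u hu =>
    obtain ⟨α, rfl⟩ := hu
    exact y_mul_mon_mem p x y hxy i α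
  | zero => simp
  | add u v _ _ hu hv => rw [mul_add]; exact add_mem hu hv
  | smul r u _ hu => rw [mul_smul_comm]; exact Submodule.smul_mem _ _ hu

theorem y_pow_mul_mem (i : Fin n) (m : ℕ) (u : S)
    (hu : u ∈ Submodule.span R (Set.range (mon p y))) :
    y i ^ m * u ∈ Submodule.span R (Set.range (mon p y)) := by
  induction m with
  | zero => simpa using hu
  | succ m ih =>
    rw [pow_succ', mul_assoc]
    exact y_mul_mem p x y hxy i _ ih

theorem mon_mul_mem (α : Fin n → Fin p) (u : S)
    (hu : u ∈ Submodule.span R (Set.range (mon p y))) :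
    mon p y α * u ∈ Submodule.span R (Set.range (mon p y)) := by
  classical
  have key : ∀ s : Finset (Fin n),
      (∏ i ∈ s, y i ^ (α i : ℕ)) * u ∈ Submodule.span R (Set.range (mon p y)) := by
    intro s
    induction s using Finset.induction_on with
    | empty => simpa using hu
    | insert a s ha ih =>
      rw [Finset.prod_insert ha, mul_assoc]
      exact y_pow_mul_mem p x y hxy a _ _ ih
  exact key Finset.univ

theorem mul_mem_span (u v : S) (hu : u ∈ Submodule.span R (Set.range (mon p y)))
    (hv : v ∈ Submodule.span R (Set.range (mon p y))) :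
    u * v ∈ Submodule.span R (Set.range (mon p y)) := by
  induction hu using Submodule.span_induction with
  | mem u hu =>
    obtain ⟨α, rfl⟩ := hu
    exact mon_mul_mem p x y hxy α v hv
  | zero => simp
  | add u w _ _ hu hw => rw [add_mul]; exact add_mem hu hw
  | smul r u _ hu => rw [smul_mul_assoc]; exact Submodule.smul_mem _ _ hu

omit hxy in
theorem one_mem_span : (1 : S) ∈ Submodule.span R (Set.range (mon p y)) := by
  have hp : 0 < p := (Fact.out : p.Prime).pos
  refine Submodule.subset_span ⟨fun _ => ⟨0, hp⟩, ?_⟩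
  simp [mon]

omit hxy in
theorem algebraMap_mem_span (r : R) :
    algebraMap R S r ∈ Submodule.span R (Set.range (mon p y)) := by
  rw [Algebra.algebraMap_eq_smul_one]
  exact Submodule.smul_mem _ _ (one_mem_span p y)

end Span

section Span2

variable (p : ℕ) [Fact p.Prime] {k : Type u} [Field k] [CharP k p] [PerfectRing k p] {n : ℕ}
  {R S : Type u} [CommRing R] [CommRing S] [Algebra R S] [Algebra k S] [CharP S p]
  [Algebra (MvPolynomial (Fin n) k) S] [IsScalarTower k (MvPolynomial (Fin n) k) S]
  [Algebra.FormallyUnramified (MvPolynomial (Fin n) k) S]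
  [Algebra.FiniteType (MvPolynomial (Fin n) k) S]

theorem span_mon_eq_top (x : Fin n → R)
    (hx : ∀ i, (algebraMap (MvPolynomial (Fin n) k) S (MvPolynomial.X i)) ^ p =
      algebraMap R S (x i))
    (hpow : ∀ s : S, s ^ p ∈ (algebraMap R S).range) :
    ⊤ ≤ Submodule.span R (Set.range
      (mon p (fun i => algebraMap (MvPolynomial (Fin n) k) S (MvPolynomial.X i)))) := by
  classical
  set y : Fin n → S := fun i => algebraMap (MvPolynomial (Fin n) k) S (MvPolynomial.X i) with hy
  set T := Submodule.span R (Set.range (mon p y)) with hT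
  -- polynomials land in `T`
  have hpoly : ∀ f : MvPolynomial (Fin n) k, algebraMap (MvPolynomial (Fin n) k) S f ∈ T := by
    intro f
    induction f using MvPolynomial.induction_on with
    | C a =>
      have h1 : algebraMap (MvPolynomial (Fin n) k) S (MvPolynomial.C a) = algebraMap k S a := by
        rw [IsScalarTower.algebraMap_apply k (MvPolynomial (Fin n) k) S, MvPolynomial.algebraMap_eq]
      obtain ⟨μ, rfl⟩ := (frobeniusEquiv k p).surjective a
      rw [h1, frobeniusEquiv_apply, frobenius_def, map_pow]
      obtain ⟨r, hr⟩ := hpow (algebraMap k S μ)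
      rw [← hr]
      exact algebraMap_mem_span p y r
    | add f g hf hg => rw [map_add]; exact add_mem hf hg
    | mul_X f i hf =>
      rw [map_mul, mul_comm]
      exact y_mul_mem p x y hx i _ hf
  let C₀ : Subalgebra (MvPolynomial (Fin n) k) S :=
    Algebra.adjoin (MvPolynomial (Fin n) k) (Set.range (algebraMap R S))
  haveI : Algebra.FormallyUnramified C₀ S :=
    Algebra.FormallyUnramified.of_restrictScalars (MvPolynomial (Fin n) k) C₀ S
  haveI : Algebra.FiniteType C₀ S :=
    Algebra.FiniteType.of_restrictScalars_finiteType (MvPolynomial (Fin n) k) C₀ S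
  have hsurj : Function.Surjective (algebraMap C₀ S) := by
    apply surjective_of_formallyUnramified_of_pow_mem p
    intro s
    obtain ⟨r, hr⟩ := hpow s
    exact ⟨⟨_, Algebra.subset_adjoin ⟨r, rfl⟩⟩, hr⟩
  intro s hs
  clear hs
  obtain ⟨c, rfl⟩ := hsurj s
  obtain ⟨c, hc⟩ := c
  show c ∈ T
  induction hc using Algebra.adjoin_induction with
  | mem u hu =>
    obtain ⟨r, rfl⟩ := hu
    exact algebraMap_mem_span p y r
  | algebraMap f => exact hpoly f
  | add u v _ _ hu hv => exact add_mem hu hv
  | mul u v _ _ hu hv => exact mul_mem_span p x y hx u v hu hv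

end Span2

section Indep

variable (p : ℕ) [Fact p.Prime] {k : Type*} [CommRing k] {S : Type*} [CommRing S] [Algebra k S]
  [CharP S p]

omit [Fact p.Prime] [CharP S p] in
theorem der_mul_eq_zero (D : Derivation k S S) {a b : S} (ha : D a = 0) (hb : D b = 0) :
    D (a * b) = 0 := by
  rw [D.leibniz, ha, hb, smul_zero, smul_zero, add_zero]

omit [Fact p.Prime] [CharP S p] in
theorem der_pow_eq_zero (D : Derivation k S S) {a : S} (ha : D a = 0) (m : ℕ) :
    D (a ^ m) = 0 := by
  rw [D.leibniz_pow, ha, smul_zero, smul_zero]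

omit [Fact p.Prime] [CharP S p] in
theorem der_prod_eq_zero (D : Derivation k S S) {ι : Type*} (s : Finset ι) (f : ι → S)
    (hf : ∀ i ∈ s, D (f i) = 0) : D (∏ i ∈ s, f i) = 0 := by
  classical
  induction s using Finset.induction_on with
  | empty => simp
  | insert a s ha ih =>
    rw [Finset.prod_insert ha]
    exact der_mul_eq_zero D (hf a (Finset.mem_insert_self a s))
      (ih fun i hi => hf i (Finset.mem_insert_of_mem hi))

omit [Fact p.Prime] in
theorem der_pow_p_eq_zero (D : Derivation k S S) (a : S) : D (a ^ p) = 0 := by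
  rw [D.leibniz_pow, ← Nat.cast_smul_eq_nsmul S, CharP.cast_eq_zero S p, zero_smul]

theorem one_var (D : Derivation k S S) (y : S) (hy : D y = 1) :
    ∀ m ≤ p, ∀ F : ℕ → S, (∀ j, D (F j) = 0) →
      ∑ j ∈ Finset.range m, F j * y ^ j = 0 → ∀ j < m, F j = 0 := by
  intro m
  induction m with
  | zero => intro _ F _ _ j hj; exact absurd hj (Nat.not_lt_zero j)
  | succ m ih =>
    intro hm F hF hsum
    have h1 : ∑ j ∈ Finset.range m, (((j + 1 : ℕ) : S) * F (j + 1)) * y ^ j = 0 := by
      have h2 := congrArg D hsum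
      rw [map_zero, map_sum, Finset.sum_range_succ'] at h2
      have h3 : D (F 0 * y ^ 0) = 0 := by simp [hF]
      rw [h3, add_zero] at h2
      rw [← h2]
      refine Finset.sum_congr rfl fun j _ => ?_
      rw [D.leibniz, hF, smul_zero, add_zero, D.leibniz_pow, hy, Nat.add_sub_cancel,
        ← Nat.cast_smul_eq_nsmul S]
      simp only [smul_eq_mul, mul_one]
      ring
    have h4 := ih (Nat.le_of_succ_le hm) (fun j => ((j + 1 : ℕ) : S) * F (j + 1))
      (fun j => der_mul_eq_zero D (by simp) (hF _)) h1
    have h5 : ∀ j < m, F (j + 1) = 0 := by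
      intro j hj
      have hu : IsUnit (((j + 1 : ℕ) : S)) := by
        rw [CharP.isUnit_natCast_iff (p := p) (Fact.out : p.Prime)]
        intro hdvd
        have := Nat.le_of_dvd (Nat.succ_pos j) hdvd
        omega
      exact (hu.mul_right_eq_zero).mp (h4 j hj)
    have h6 : F 0 = 0 := by
      rw [Finset.sum_range_succ'] at hsum
      rw [Finset.sum_eq_zero (fun j hj => by rw [h5 j (Finset.mem_range.mp hj), zero_mul]),
        zero_add, pow_zero, mul_one] at hsum
      exact hsum
    intro j hj
    cases j with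
    | zero => exact h6
    | succ j => exact h5 j (Nat.lt_of_succ_lt_succ hj)

theorem indep_aux : ∀ (n : ℕ) (y : Fin n → S) (D : Fin n → Derivation k S S),
    (∀ i j, D i (y j) = if i = j then 1 else 0) → ∀ E : (Fin n → Fin p) → S,
    (∀ i α, D i (E α) = 0) → ∑ α, E α * mon p y α = 0 → ∀ α, E α = 0 := by
  intro n
  induction n with
  | zero =>
    intro y D _ E _ hsum α
    have hα : ∀ β : Fin 0 → Fin p, β = α := fun β => Subsingleton.elim _ _
    rw [Fintype.sum_eq_single α (fun β hβ => absurd (hα β) hβ)] at hsum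
    simpa [mon] using hsum
  | succ n ih =>
    intro y D hD E hE hsum
    have hp : 0 < p := (Fact.out : p.Prime).pos
    rw [← (Fin.consEquiv (fun _ : Fin (n + 1) => Fin p)).sum_comp, Fintype.sum_prod_type] at hsum
    -- the slices
    set y' : Fin n → S := fun i => y i.succ with hy'
    set F : Fin p → S := fun j => ∑ α' : Fin n → Fin p,
      E (Fin.cons j α') * mon p y' α' with hF
    have hsum' : ∑ j : Fin p, F j * y 0 ^ (j : ℕ) = 0 := by
      rw [← hsum]
      refine Finset.sum_congr rfl fun j _ => ?_
      rw [hF, Finset.sum_mul]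
      refine Finset.sum_congr rfl fun α' _ => ?_
      have hc : (Fin.consEquiv (fun _ : Fin (n + 1) => Fin p)) (j, α') = Fin.cons j α' := rfl
      rw [hc, mon_succ]
      simp only [Fin.cons_zero, Fin.cons_succ]
      rw [hy']
      ring
    have hDF : ∀ j, D 0 (F j) = 0 := by
      intro j
      rw [hF, map_sum]
      refine Finset.sum_eq_zero fun α' _ => ?_
      refine der_mul_eq_zero _ (hE 0 _) ?_
      refine der_prod_eq_zero _ _ _ fun i _ => der_pow_eq_zero _ ?_ _
      rw [hy', hD]
      simp [Fin.succ_ne_zero, eq_comm]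
    set F' : ℕ → S := fun j => if h : j < p then F ⟨j, h⟩ else 0 with hF'
    have hsum'' : ∑ j ∈ Finset.range p, F' j * y 0 ^ j = 0 := by
      rw [← Fin.sum_univ_eq_sum_range (fun j => F' j * y 0 ^ j) p, ← hsum']
      refine Finset.sum_congr rfl fun j _ => ?_
      simp [hF', j.2]
    have hF0 : ∀ j : Fin p, F j = 0 := by
      intro j
      have := one_var p (D 0) (y 0) (by rw [hD]; simp) p le_rfl F'
        (fun j => by
          by_cases h : j < p
          · simp [hF', h, hDF]
          · simp [hF', h]) hsum'' j j.2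
      simpa [hF', j.2] using this
    intro α
    have := ih y' (fun i => D i.succ) (fun i j => by
      rw [hy', hD]
      simp [Fin.succ_inj]) (fun α' => E (Fin.cons (α 0) α'))
      (fun i α' => hE _ _) (hF0 (α 0)) (fun i => α i.succ)
    have hc : (Fin.cons (α 0) (fun i => α i.succ) : Fin (n + 1) → Fin p) = α :=
      Fin.cons_self_tail α
    rw [hc] at this
    exact this

end Indep

end Groth.Agent.Lib.Helper13.RootTower
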