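import Mathlib
import Groth.Agent.Lib.Helper13.RootTower
import Groth.Agent.Lib.Helper13.RootTower2

set_option autoImplicit false

universe u

namespace Groth.Agent.Lib.Helper13.RootTower

open Polynomial TensorProduct Quiet

section Main

theorem exists_derivations (k : Type u) [Field k] (n : ℕ) (S : Type u) [CommRing S] [Algebra k S]
    [Algebra (MvPolynomial (Fin n) k) S] [IsScalarTower k (MvPolynomial (Fin n) k) S]
    [Algebra.FormallyEtale (MvPolynomial (Fin n) k) S] :
    ∃ D : Fin n → Derivation k S S, ∀ i j,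
      D i (algebraMap (MvPolynomial (Fin n) k) S (MvPolynomial.X j)) = if i = j then 1 else 0 := by
  classical
  let b0 : Module.Basis (Fin n) S (S ⊗[MvPolynomial (Fin n) k] Ω[MvPolynomial (Fin n) k⁄k]) :=
    (KaehlerDifferential.mvPolynomialBasis k (Fin n)).baseChange S
  let b : Module.Basis (Fin n) S Ω[S⁄k] :=
    b0.map (KaehlerDifferential.tensorKaehlerEquivOfFormallyEtale k (MvPolynomial (Fin n) k) S)
  have hb : ∀ j, b j = KaehlerDifferential.D k S
      (algebraMap (MvPolynomial (Fin n) k) S (MvPolynomial.X j)) := by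
    intro j
    simp [b, b0, Module.Basis.baseChange_apply,
      KaehlerDifferential.tensorKaehlerEquivOfFormallyEtale_apply,
      KaehlerDifferential.mapBaseChange_tmul]
  refine ⟨fun i => (b.coord i).compDer (KaehlerDifferential.D k S), fun i j => ?_⟩
  show b.coord i (KaehlerDifferential.D k S _) = _
  rw [← hb, Module.Basis.coord_apply, Module.Basis.repr_self, Finsupp.single_apply]
  simp [eq_comm]

theorem linearIndependent_mon (p : ℕ) [Fact p.Prime] {k : Type*} [CommRing k] {n : ℕ}
    {R S : Type*} [CommRing R] [CommRing S] [Algebra R S] [Algebra k S] [CharP S p] [IsReduced S]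
    (y : Fin n → S) (D : Fin n → Derivation k S S)
    (hD : ∀ i j, D i (y j) = if i = j then 1 else 0) (e : R →+* S) (he : Function.Injective e)
    (hpow : ∀ r, algebraMap R S r = e r ^ p) : LinearIndependent R (mon p y) := by
  rw [Fintype.linearIndependent_iff]
  intro g hg α
  have h1 := indep_aux p n y D hD (fun α => e (g α) ^ p) (fun i α => der_pow_p_eq_zero p _ _) (by
    rw [← hg]
    refine Finset.sum_congr rfl fun α _ => ?_
    rw [Algebra.smul_def, hpow]) α
  have h2 : e (g α) = 0 := IsNilpotent.eq_zero ⟨p, h1⟩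
  exact (map_eq_zero_iff e he).mp h2

/-- Main algebraic theorem: Frobenius on an étale `k[X₁..Xₙ]`-algebra is a root tower. -/
theorem isRootTower_of_etale (p : ℕ) [Fact p.Prime] (k : Type u) [Field k] [CharP k p]
    [PerfectRing k p] (n : ℕ) (R S : Type u) [CommRing R] [Nontrivial R] [CommRing S] [Algebra R S]
    [Algebra k S] [CharP S p] [IsReduced S]
    [Algebra (MvPolynomial (Fin n) k) S] [IsScalarTower k (MvPolynomial (Fin n) k) S]
    [Algebra.Etale (MvPolynomial (Fin n) k) S]
    (e : R ≃+* S) (hpow : ∀ r, algebraMap R S r = e r ^ p) :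
    IsRootTower p n R S ∧ Module.Free R S := by
  classical
  set y : Fin n → S := fun i => algebraMap (MvPolynomial (Fin n) k) S (MvPolynomial.X i) with hy
  obtain ⟨D, hD⟩ := exists_derivations k n S
  have hli : LinearIndependent R (mon p y) :=
    linearIndependent_mon p y D hD e.toRingHom e.injective hpow
  have hxy : ∀ i, y i ^ p = algebraMap R S (e.symm (y i)) := fun i => by
    rw [hpow, RingEquiv.apply_symm_apply]
  have hsp : ⊤ ≤ Submodule.span R (Set.range (mon p y)) :=
    span_mon_eq_top p (fun i => e.symm (y i)) hxy (fun s => ⟨e.symm s, by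
      rw [hpow, RingEquiv.apply_symm_apply]⟩)
  refine ⟨isRootTower_of_basis p (Fact.out : p.Prime).ne_zero n R S _ y hxy hli hsp, ?_⟩
  exact Module.Free.of_basis (Module.Basis.mk hli hsp)

/-- Transport form. -/
theorem isRootTower_transport (p : ℕ) [Fact p.Prime] (k : Type u) [Field k] [CharP k p]
    [PerfectRing k p] (n : ℕ) (B : Type u) [CommRing B] [Algebra k B] [CharP B p] [IsReduced B]
    [Algebra (MvPolynomial (Fin n) k) B] [IsScalarTower k (MvPolynomial (Fin n) k) B]
    [Algebra.Etale (MvPolynomial (Fin n) k) B]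
    (R S : Type u) [CommRing R] [CommRing S] [Algebra R S] (e₁ : B ≃+* R) (e₂ : B ≃+* S)
    (h : ∀ b, algebraMap R S (e₁ b) = e₂ (b ^ p)) :
    IsRootTower p n R S ∧ Module.Free R S := by
  letI : Algebra k S := (e₂.toRingHom.comp (algebraMap k B)).toAlgebra
  letI : Algebra (MvPolynomial (Fin n) k) S :=
    (e₂.toRingHom.comp (algebraMap (MvPolynomial (Fin n) k) B)).toAlgebra
  haveI : IsScalarTower k (MvPolynomial (Fin n) k) S := IsScalarTower.of_algebraMap_eq (fun a => by
    simp only [RingHom.algebraMap_toAlgebra, RingHom.comp_apply]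
    rw [IsScalarTower.algebraMap_apply k (MvPolynomial (Fin n) k) B])
  let e₂' : B ≃ₐ[MvPolynomial (Fin n) k] S := AlgEquiv.ofRingEquiv (f := e₂) (fun a => rfl)
  haveI : Algebra.Etale (MvPolynomial (Fin n) k) S := Algebra.Etale.of_equiv e₂'
  haveI : CharP S p := charP_of_injective_ringHom (f := e₂.toRingHom) e₂.injective p
  haveI : IsReduced S := isReduced_of_injective e₂.symm.toRingHom e₂.symm.injective
  haveI : Nontrivial B := CharP.nontrivial_of_char_ne_one (R := B) (Fact.out : p.Prime).ne_one
  haveI : Nontrivial R := e₁.injective.nontrivial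
  refine isRootTower_of_etale p k n R S (e₁.symm.trans e₂) (fun r => ?_)
  have := h (e₁.symm r)
  rw [RingEquiv.apply_symm_apply] at this
  rw [this, map_pow]
  rfl

end Main

end Groth.Agent.Lib.Helper13.RootTower
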