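import Mathlib
import Groth.Agent.Lib.Helper13.RootTower3
import Groth.Agent.Lib.Helper70.ReducedAscent

set_option autoImplicit false

universe u

open AlgebraicGeometry CategoryTheory Opposite Quiet

namespace Groth.Agent.Lib.Helper13.RootTower

/-- compat of Spec.map with algebraMap to sections. -/
theorem specMap_app_algebraMap {R₀ R₁ : CommRingCat.{u}} (φ : R₀ ⟶ R₁) (U : (Spec R₀).Opens)
    (a : R₀) :
    ((Spec.map φ).app U).hom (algebraMap R₀ Γ(Spec R₀, U) a) =
      algebraMap R₁ Γ(Spec R₁, (Spec.map φ) ⁻¹ᵁ U) (φ.hom a) := by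
  have h : (Scheme.ΓSpecIso R₀).inv ≫ (Spec R₀).presheaf.map (homOfLE le_top).op ≫
      (Spec.map φ).app U =
      φ ≫ (Scheme.ΓSpecIso R₁).inv ≫ (Spec R₁).presheaf.map (homOfLE le_top).op := by
    rw [Scheme.Hom.naturality, Scheme.ΓSpecIso_inv_naturality_assoc]
    rfl
  exact congrArg (fun ψ => ψ.hom a) h

theorem preimage_basicOpen_frobenius (p : ℕ) [Fact p.Prime] (A : Type u) [CommRing A] [CharP A p]
    (g : A) :
    (Spec.map (CommRingCat.ofHom (frobenius A p))) ⁻¹ᵁ
      (PrimeSpectrum.basicOpen g : (Spec (CommRingCat.of A)).Opens) =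
      PrimeSpectrum.basicOpen g := by
  ext x
  suffices h : ∀ y : PrimeSpectrum A,
      g ∉ (PrimeSpectrum.comap (frobenius A p) y).asIdeal ↔ g ∉ y.asIdeal from h x
  intro x
  rw [PrimeSpectrum.comap_asIdeal, Ideal.mem_comap, frobenius_def]
  exact not_congr ⟨fun h => x.2.mem_of_pow_mem _ h,
    fun h => Ideal.pow_mem_of_mem _ h _ (Fact.out : p.Prime).pos⟩

set_option backward.isDefEq.respectTransparency.types false in
theorem glue (p : ℕ) [Fact p.Prime] (R₀ : CommRingCat.{u}) (g : R₀)
    [CharP (Localization.Away g) p] (φ : R₀ ⟶ R₀) (hφ : ∀ a, φ.hom a = a ^ p)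
    (hpre : (Spec.map φ) ⁻¹ᵁ (PrimeSpectrum.basicOpen g : (Spec R₀).Opens) =
      PrimeSpectrum.basicOpen g) :
    letI := ((Spec.map φ).app (PrimeSpectrum.basicOpen g : (Spec R₀).Opens)).hom.toAlgebra
    ∃ (e₁ : Localization.Away g ≃+* Γ(Spec R₀, PrimeSpectrum.basicOpen g))
      (e₂ : Localization.Away g ≃+*
        Γ(Spec R₀, (Spec.map φ) ⁻¹ᵁ (PrimeSpectrum.basicOpen g : (Spec R₀).Opens))),
      ∀ b, algebraMap Γ(Spec R₀, PrimeSpectrum.basicOpen g)
        Γ(Spec R₀, (Spec.map φ) ⁻¹ᵁ (PrimeSpectrum.basicOpen g : (Spec R₀).Opens)) (e₁ b) =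
        e₂ (b ^ p) := by
  letI := ((Spec.map φ).app (PrimeSpectrum.basicOpen g : (Spec R₀).Opens)).hom.toAlgebra
  let U : (Spec R₀).Opens := PrimeSpectrum.basicOpen g
  let e₁' : Localization.Away g ≃ₐ[R₀] Γ(Spec R₀, U) :=
    IsLocalization.algEquiv (Submonoid.powers g)
      (Localization.Away g) Γ(Spec R₀, PrimeSpectrum.basicOpen g)
  let e₁ : Localization.Away g ≃+* Γ(Spec R₀, U) := e₁'.toRingEquiv
  let iso : Γ(Spec R₀, U) ≃+* Γ(Spec R₀, (Spec.map φ) ⁻¹ᵁ U) :=
    ((Spec R₀).presheaf.mapIso (eqToIso hpre).op).commRingCatIsoToRingEquiv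
  let e₂ := e₁.trans iso
  have hiso : ∀ a : R₀, iso (algebraMap R₀ Γ(Spec R₀, U) a) =
      algebraMap R₀ Γ(Spec R₀, (Spec.map φ) ⁻¹ᵁ U) a := by
    intro a
    have h : ((Scheme.ΓSpecIso R₀).inv ≫ (Spec R₀).presheaf.map (homOfLE le_top).op) ≫
        (Spec R₀).presheaf.map (eqToHom hpre).op =
        (Scheme.ΓSpecIso R₀).inv ≫ (Spec R₀).presheaf.map (homOfLE le_top).op := by
      rw [Category.assoc, ← Functor.map_comp]
      rfl
    exact congrArg (fun ψ => ψ.hom a) h
  have key : (((Spec.map φ).app U).hom.comp e₁.toRingHom) =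
      (e₂.toRingHom.comp (frobenius (Localization.Away g) p)) := by
    refine IsLocalization.ringHom_ext (Submonoid.powers g) ?_
    ext a
    simp only [RingHom.comp_apply]
    have h1 : e₁.toRingHom (algebraMap R₀ (Localization.Away g) a) =
        algebraMap R₀ Γ(Spec R₀, U) a := e₁'.commutes a
    have h2 : e₂.toRingHom (frobenius (Localization.Away g) p
        (algebraMap R₀ (Localization.Away g) a)) =
        iso (algebraMap R₀ Γ(Spec R₀, U) (a ^ p)) := by
      rw [frobenius_def, ← map_pow]
      show iso (e₁ _) = _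
      congr 1
      exact e₁'.commutes (a ^ p)
    rw [h1, h2, hiso, ← hφ]
    exact specMap_app_algebraMap φ U a
  exact ⟨e₁, e₂, fun b => congrArg (fun ψ => ψ b) key⟩

theorem nontrivial_away_of_notMem {A : Type*} [CommRing A] (𝔮 : Ideal A) [𝔮.IsPrime] {g : A}
    (hg : g ∉ 𝔮) : Nontrivial (Localization.Away g) := by
  rw [← not_subsingleton_iff_nontrivial,
    IsLocalization.subsingleton_iff (M := Submonoid.powers g) (S := Localization.Away g)]
  rintro ⟨m, hm⟩
  have hm' : g ^ m = 0 := hm
  exact hg (Ideal.IsPrime.mem_of_pow_mem ‹_› m (by rw [hm']; exact zero_mem _))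

theorem exists_local (p : ℕ) [Fact p.Prime] (k : Type u) [Field k] [CharP k p] [PerfectRing k p]
    (A : Type u) [CommRing A] [Algebra k A] [Algebra.Smooth k A] (𝔮 : Ideal A) [𝔮.IsPrime] :
    ∃ g ∉ 𝔮, ∃ n : ℕ, ∀ (R S : Type u) [CommRing R] [CommRing S] [Algebra R S]
      (e₁ : Localization.Away g ≃+* R) (e₂ : Localization.Away g ≃+* S),
      (∀ b, algebraMap R S (e₁ b) = e₂ (b ^ p)) → IsRootTower p n R S ∧ Module.Free R S := by
  obtain ⟨g, hg, n, _, _, hstd⟩ :=
    Algebra.IsSmoothAt.exists_isStandardEtale_mvPolynomial (R := k) (S := A) (p := 𝔮)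
  refine ⟨g, hg, n, ?_⟩
  intro R S _ _ _ e₁ e₂ h
  haveI : Nontrivial (Localization.Away g) := nontrivial_away_of_notMem 𝔮 hg
  haveI : CharP (Localization.Away g) p :=
    charP_of_injective_algebraMap (algebraMap k (Localization.Away g)).injective p
  haveI : IsReduced (Localization.Away g) :=
    Groth.Agent.Lib.Helper70.ReducedAscent.isReduced_of_flat_of_formallyUnramified
      (MvPolynomial (Fin n) k) (Localization.Away g)
  exact isRootTower_transport p k n (Localization.Away g) R S e₁ e₂ h

theorem main (p : ℕ) [Fact p.Prime]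
    (k : Type u) [Field k] [CharP k p] [PerfectRing k p] (A : Type u) [CommRing A] [Algebra k A]
    [CharP A p] [Algebra.Smooth k A] :
    (frobenius A p).FaithfullyFlat ∧
      Quiet.IsPthRoot p (Spec.map (CommRingCat.ofHom (frobenius A p))) := by
  constructor
  · rw [RingHom.FaithfullyFlat.iff_flat_and_comap_surjective]
    constructor
    · -- flatness
      let s : Set A := {g | Nontrivial (Localization.Away g) ∧ ∃ n : ℕ, ∀ (R S : Type u) [CommRing R] [CommRing S] [Algebra R S]
        (e₁ : Localization.Away g ≃+* R) (e₂ : Localization.Away g ≃+* S),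
        (∀ b, algebraMap R S (e₁ b) = e₂ (b ^ p)) → IsRootTower p n R S ∧ Module.Free R S}
      have hs : Ideal.span s = ⊤ := by
        by_contra hne
        obtain ⟨m, hm, hle⟩ := Ideal.exists_le_maximal _ hne
        haveI := hm.isPrime
        obtain ⟨g, hg, n, hn⟩ := exists_local p k A m
        exact hg (hle (Ideal.subset_span ⟨nontrivial_away_of_notMem m hg, n, hn⟩))
      refine RingHom.Flat.ofLocalizationSpanTarget (frobenius A p) s hs ?_
      rintro ⟨g, hnt, n, hn⟩
      haveI : CharP (Localization.Away g) p :=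
        charP_of_injective_algebraMap (algebraMap k (Localization.Away g)).injective p
      have hcomp : (algebraMap A (Localization.Away g)).comp (frobenius A p) =
          (frobenius (Localization.Away g) p).comp (algebraMap A (Localization.Away g)) := by
        ext a
        simp [frobenius_def]
      show ((algebraMap A (Localization.Away g)).comp (frobenius A p)).Flat
      rw [hcomp]
      refine RingHom.Flat.comp ?_ ?_
      · rw [RingHom.flat_algebraMap_iff]
        exact IsLocalization.flat _ (Submonoid.powers g)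
      · have := (@hn (Localization.Away g) (Localization.Away g) _ _
          (frobenius (Localization.Away g) p).toAlgebra (RingEquiv.refl _) (RingEquiv.refl _)
          (fun b => rfl)).2
        show @Module.Flat _ _ _ _ (frobenius (Localization.Away g) p).toAlgebra.toModule
        infer_instance
    · intro 𝔮
      refine ⟨𝔮, ?_⟩
      ext a
      rw [PrimeSpectrum.comap_asIdeal, Ideal.mem_comap, frobenius_def]
      exact ⟨fun h => 𝔮.2.mem_of_pow_mem _ h,
        fun h => Ideal.pow_mem_of_mem _ h _ (Fact.out : p.Prime).pos⟩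
  · intro x
    let x' : PrimeSpectrum A := x
    haveI : x'.asIdeal.IsPrime := x'.2
    obtain ⟨g, hg, n, hn⟩ := exists_local p k A x'.asIdeal
    haveI : Nontrivial (Localization.Away g) := nontrivial_away_of_notMem x'.asIdeal hg
    haveI : CharP (Localization.Away g) p :=
      charP_of_injective_algebraMap (algebraMap k (Localization.Away g)).injective p
    let U : (Spec (CommRingCat.of A)).Opens := PrimeSpectrum.basicOpen g
    have hU : IsAffineOpen U := IsAffineOpen.Spec_basicOpen (R := CommRingCat.of A) g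
    have hpre : (Spec.map (CommRingCat.ofHom (frobenius A p))) ⁻¹ᵁ U = U :=
      preimage_basicOpen_frobenius p A g
    refine ⟨⟨U, hU⟩, hg, ?_, ?_⟩
    · show IsAffineOpen ((Spec.map (CommRingCat.ofHom (frobenius A p))) ⁻¹ᵁ U)
      rw [hpre]
      exact hU
    · letI := ((Spec.map (CommRingCat.ofHom (frobenius A p))).app U).hom.toAlgebra
      obtain ⟨e₁, e₂, h⟩ := glue p (CommRingCat.of A) g (CommRingCat.ofHom (frobenius A p))
        (fun a => rfl) hpre
      exact ⟨n, (hn _ _ e₁ e₂ h).1⟩

end Groth.Agent.Lib.Helper13.RootTower
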