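import Mathlib
import Groth.Agent.Lib.Helper13.RootTower4
import Groth.Agent.S15042

set_option autoImplicit false

universe u

open AlgebraicGeometry CategoryTheory Opposite Quiet TensorProduct RingTheory.Sequence MvPolynomial

namespace Groth.Agent.Lib.Helper13.FrobTwist

section BaseChange

attribute [local instance] Algebra.TensorProduct.rightAlgebra in
theorem isPushout_quotient (B P : Type u) [CommRing B] [CommRing P] [Algebra B P] (𝔟 : Ideal B) :
    Algebra.IsPushout B (B ⧸ 𝔟) P (P ⧸ 𝔟.map (algebraMap B P)) := by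
  refine Algebra.IsPushout.of_equiv (R := B) (S := P) (R' := B ⧸ 𝔟) (S' := (B ⧸ 𝔟) ⊗[B] P)
    (Algebra.TensorProduct.quotIdealMapEquivQuotTensor P 𝔟).symm ?_
  ext p
  show (Algebra.TensorProduct.quotIdealMapEquivQuotTensor P 𝔟).symm ((1 : B ⧸ 𝔟) ⊗ₜ[B] p) = _
  rw [AlgEquiv.symm_apply_eq]
  rfl

/-- base change of a faithfully flat `p`-th root map to a quotient. -/
theorem quotientMap_faithfullyFlat_isPthRoot (p : ℕ) {R S : Type u} [CommRing R] [CommRing S]
    (f : R →+* S) (I : Ideal R) (hf : f.FaithfullyFlat)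
    (hroot : IsPthRoot p (Spec.map (CommRingCat.ofHom f))) :
    (Ideal.quotientMap (I.map f) f Ideal.le_comap_map).FaithfullyFlat ∧
      IsPthRoot p (Spec.map (CommRingCat.ofHom
        (Ideal.quotientMap (I.map f) f Ideal.le_comap_map))) := by
  letI : Algebra R S := f.toAlgebra
  have hpo : Algebra.IsPushout R (R ⧸ I) S (S ⧸ I.map (algebraMap R S)) := isPushout_quotient R S I
  constructor
  · haveI := hpo.symm
    exact RingHom.FaithfullyFlat.isStableUnderBaseChange R S (R ⧸ I) (S ⧸ I.map (algebraMap R S)) hf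
  · have H := (CommRingCat.isPushout_iff_isPushout (R := R) (S := S) (R' := R ⧸ I)
      (S' := S ⧸ I.map (algebraMap R S))).mpr hpo
    have H2 := isPullback_SpecMap_of_isPushout _ _ _ _ H
    exact Groth.Agent.S15042.isPthRoot_of_isPullback p H2.flip hroot

end BaseChange

section Reg

theorem ofList_ofFn {R : Type*} [CommRing R] {n : ℕ} (f : Fin n → R) :
    Ideal.ofList (List.ofFn f) = Ideal.span (Set.range f) := by
  unfold Ideal.ofList
  congr 1
  ext a
  simp [List.mem_ofFn]

/-- Frobenius (faithfully flat) preserves regular sequences. -/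
theorem frob_regular (p : ℕ) [Fact p.Prime] {P : Type*} [CommRing P] [CharP P p]
    (hF : (frobenius P p).FaithfullyFlat) (L : List P) (hL : IsRegular P L) :
    IsRegular P (L.map (frobenius P p)) :=
  @IsRegular.of_faithfullyFlat P P _ _ (frobenius P p).toAlgebra hF L hL

/-- appending: regular on the quotient. -/
theorem isRegular_append_of_quotient {P : Type*} [CommRing P] {n m : ℕ} (a : Fin n → P)
    (v : Fin m → P) (ha : IsRegular P (List.ofFn a))
    (hv : IsRegular (P ⧸ Ideal.span (Set.range a))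
      (List.ofFn fun j => Ideal.Quotient.mk (Ideal.span (Set.range a)) (v j))) :
    IsRegular P (List.ofFn a ++ List.ofFn v) := by
  set I₁ := Ideal.span (Set.range a) with hI₁
  have hI : I₁ = (Ideal.ofList (List.ofFn a) • ⊤ : Submodule P P) := by
    rw [ofList_ofFn, smul_eq_mul, Ideal.mul_top]
  have hmap : (List.ofFn v).map (algebraMap P (P ⧸ I₁)) =
      List.ofFn fun j => Ideal.Quotient.mk I₁ (v j) := by
    rw [List.map_ofFn]
    rfl
  refine ⟨?_, ?_⟩
  · rw [isWeaklyRegular_append_iff]
    refine ⟨ha.1, ?_⟩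
    have h1 : IsWeaklyRegular (P ⧸ I₁) (List.ofFn v) := by
      rw [← isWeaklyRegular_map_algebraMap_iff (P ⧸ I₁) (P ⧸ I₁) (List.ofFn v), hmap]
      exact hv.1
    exact ((Submodule.quotEquivOfEq _ _ hI).isWeaklyRegular_congr (List.ofFn v)).mp h1
  · intro htop
    apply hv.2
    have h2 : Ideal.ofList (List.ofFn a ++ List.ofFn v) = ⊤ := by
      have := htop.symm
      rwa [smul_eq_mul, Ideal.mul_top] at this
    have h3 := congrArg (Ideal.map (Ideal.Quotient.mk I₁)) h2
    rw [Ideal.ofList_append, Ideal.map_sup, Ideal.map_top, ofList_ofFn a, ← hI₁,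
      Ideal.map_quotient_self, bot_sup_eq, Ideal.map_ofList, ← Ideal.Quotient.algebraMap_eq,
      hmap] at h3
    rw [h3, smul_eq_mul, Ideal.mul_top]

end Reg

section Main

theorem main (p : ℕ) [Fact p.Prime]
    (k : Type u) [Field k] [CharP k p] [PerfectRing k p] (A : Type u) [CommRing A] [Algebra k A]
    [CharP A p] [Algebra.Smooth k A] (n : ℕ) (t : Fin n → A)
    (ht : RingTheory.Sequence.IsRegular A (List.ofFn t))
    (r m : ℕ) (v : Fin m → MvPolynomial (Fin r) A)
    (hv : RingTheory.Sequence.IsRegular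
      (MvPolynomial (Fin r) A ⧸ Ideal.span (Set.range fun i => C (t i) ^ p))
      (List.ofFn fun j => Ideal.Quotient.mk (Ideal.span (Set.range fun i => C (t i) ^ p)) (v j))) :
    RingTheory.Sequence.IsRegular (MvPolynomial (Fin r) A)
        (List.ofFn (fun i => C (t i) ^ (p ^ 2)) ++ List.ofFn (fun j => v j ^ p)) ∧
      (Ideal.quotientMap ((Ideal.span (Set.range (fun i => C (t i) ^ p) ∪ Set.range v)).map (frobenius (MvPolynomial (Fin r) A) p)) (frobenius (MvPolynomial (Fin r) A) p) Ideal.le_comap_map).FaithfullyFlat ∧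
      Quiet.IsPthRoot p (Spec.map (CommRingCat.ofHom (Ideal.quotientMap ((Ideal.span (Set.range (fun i => C (t i) ^ p) ∪ Set.range v)).map (frobenius (MvPolynomial (Fin r) A) p)) (frobenius (MvPolynomial (Fin r) A) p) Ideal.le_comap_map))) := by
  haveI : Algebra.Smooth A (MvPolynomial (Fin r) A) := ⟨inferInstance, inferInstance⟩
  haveI : Algebra.Smooth k (MvPolynomial (Fin r) A) := Algebra.Smooth.comp k A _
  obtain ⟨hF, hroot⟩ := Groth.Agent.Lib.Helper13.RootTower.main p k (MvPolynomial (Fin r) A)
  haveI : Nontrivial A := CharP.nontrivial_of_char_ne_one (R := A) (Fact.out : p.Prime).ne_one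
  have s1 : RingTheory.Sequence.IsRegular (MvPolynomial (Fin r) A)
      (List.ofFn fun i => (C (t i) : MvPolynomial (Fin r) A)) := by
    have := RingTheory.Sequence.IsRegular.of_faithfullyFlat (S := MvPolynomial (Fin r) A) ht
    rwa [List.map_ofFn] at this
  have s2 : RingTheory.Sequence.IsRegular (MvPolynomial (Fin r) A)
      (List.ofFn fun i => (C (t i) : MvPolynomial (Fin r) A) ^ p) := by
    have := frob_regular p hF _ s1
    rwa [List.map_ofFn] at this
  have s3 := isRegular_append_of_quotient (fun i => (C (t i) : MvPolynomial (Fin r) A) ^ p) v s2 hv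
  have s4 := frob_regular p hF _ s3
  rw [List.map_append, List.map_ofFn, List.map_ofFn] at s4
  refine ⟨?_, quotientMap_faithfullyFlat_isPthRoot p (frobenius (MvPolynomial (Fin r) A) p) _
    hF hroot⟩
  have e : (List.ofFn (fun i => (C (t i) : MvPolynomial (Fin r) A) ^ (p ^ 2)) ++
      List.ofFn (fun j => v j ^ p)) =
      List.ofFn (⇑(frobenius (MvPolynomial (Fin r) A) p) ∘ fun i => C (t i) ^ p) ++
      List.ofFn (⇑(frobenius (MvPolynomial (Fin r) A) p) ∘ v) := by
    congr 2
    funext i
    simp [frobenius_def, ← pow_mul, sq]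
  rw [e]
  exact s4

end Main

end Groth.Agent.Lib.Helper13.FrobTwist
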