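import Mathlib

/-!
# A general position lemma (helper13)

Given vectors `v i` and additive subgroups `W i` of a finite-dimensional space with
`span (W i ∪ {v i}) = ⊤`, one can choose `y i ∈ W i` with the `v i + y i` linearly independent;
local ring version via Nakayama.
-/

namespace Groth.Agent.Lib.Helper13.GenPos

open TensorProduct

section Field

variable {K V : Type*} [Field K] [AddCommGroup V] [Module K V] [FiniteDimensional K V]

theorem exists_linearIndependent_add : ∀ (m : ℕ) (v : Fin m → V) (W : Fin m → AddSubgroup V),
    m ≤ Module.finrank K V →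
    (∀ i, Submodule.span K ((W i : Set V) ∪ {v i}) = ⊤) →
    ∃ y : Fin m → V, (∀ i, y i ∈ W i) ∧ LinearIndependent K (fun i => v i + y i) := by
  intro m
  induction m with
  | zero =>
    intro v W _ _
    exact ⟨fun i => i.elim0, fun i => i.elim0, linearIndependent_empty_type⟩
  | succ m ih =>
    intro v W hm hW
    obtain ⟨y₀, hy₀, hli⟩ := ih (fun i => v i.castSucc) (fun i => W i.castSucc)
      (Nat.le_of_succ_le hm) (fun i => hW i.castSucc)
    set L : Submodule K V := Submodule.span K (Set.range fun i : Fin m => v i.castSucc + y₀ i)
      with hL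
    have hLfin : Module.finrank K L = m := by
      rw [hL, finrank_span_eq_card hli, Fintype.card_fin]
    have hLtop : L ≠ ⊤ := by
      intro h
      rw [h, finrank_top] at hLfin
      omega
    have hex : ∃ y' ∈ W (Fin.last m), v (Fin.last m) + y' ∉ L := by
      by_contra hcon
      push Not at hcon
      apply hLtop
      rw [eq_top_iff, ← hW (Fin.last m), Submodule.span_le]
      have hv : v (Fin.last m) ∈ L := by
        have := hcon 0 (zero_mem _)
        rwa [add_zero] at this
      rintro x (hx | hx)
      · have := hcon x hx
        exact (Submodule.add_mem_iff_right L hv).mp this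
      · rw [Set.mem_singleton_iff] at hx
        rw [hx]; exact hv
    obtain ⟨y', hy', hnot⟩ := hex
    refine ⟨Fin.snoc y₀ y', fun i => ?_, ?_⟩
    · refine Fin.lastCases ?_ (fun j => ?_) i
      · rw [Fin.snoc_last]; exact hy'
      · rw [Fin.snoc_castSucc]; exact hy₀ j
    · have heq : (fun i : Fin (m + 1) => v i + (Fin.snoc y₀ y' : Fin (m + 1) → V) i) =
          Fin.snoc (fun i : Fin m => v i.castSucc + y₀ i) (v (Fin.last m) + y') := by
        funext i
        refine Fin.lastCases ?_ (fun j => ?_) i
        · rw [Fin.snoc_last, Fin.snoc_last]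
        · rw [Fin.snoc_castSucc, Fin.snoc_castSucc]
      rw [heq, linearIndependent_finSnoc]
      exact ⟨hli, hnot⟩

end Field

section Local

variable {R N : Type*} [CommRing R] [IsLocalRing R] [AddCommGroup N] [Module R N]
  [Module.Finite R N]

local notation "κ" => IsLocalRing.ResidueField R

theorem span_image_eq_top (S : Set N) (h : Submodule.span R S = ⊤) :
    Submodule.span κ ((TensorProduct.mk R κ N 1) '' S) = ⊤ := by
  have hτsurj : Function.Surjective (TensorProduct.mk R κ N 1) :=
    TensorProduct.mk_surjective R N κ Ideal.Quotient.mk_surjective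
  rw [← Submodule.restrictScalars_eq_top_iff R κ,
    Submodule.restrictScalars_span R κ Ideal.Quotient.mk_surjective, ← Submodule.map_span,
    h, Submodule.map_top, LinearMap.range_eq_top.mpr hτsurj]

theorem span_of_span_image_eq_top (S : Set N)
    (h : Submodule.span κ ((TensorProduct.mk R κ N 1) '' S) = ⊤) :
    Submodule.span R S = ⊤ := by
  rw [← IsLocalRing.map_tensorProduct_mk_eq_top, Submodule.map_span,
    ← Submodule.restrictScalars_span R κ Ideal.Quotient.mk_surjective, h]
  rfl

theorem exists_span_eq_top_add (m : ℕ) (hm : m = Module.finrank κ (κ ⊗[R] N)) (v : Fin m → N)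
    (W : Fin m → AddSubgroup N)
    (hW : ∀ i, Submodule.span R ((W i : Set N) ∪ {v i}) = ⊤) :
    ∃ y : Fin m → N, (∀ i, y i ∈ W i) ∧
      Submodule.span R (Set.range fun i => v i + y i) = ⊤ := by
  let τ : N →ₗ[R] κ ⊗[R] N := TensorProduct.mk R κ N 1
  have hτsurj : Function.Surjective τ :=
    TensorProduct.mk_surjective R N κ Ideal.Quotient.mk_surjective
  have hspan : ∀ i, Submodule.span κ (((W i).map τ.toAddMonoidHom : Set (κ ⊗[R] N)) ∪
      {τ (v i)}) = ⊤ := by
    intro i
    have h1 : (((W i).map τ.toAddMonoidHom : Set (κ ⊗[R] N)) ∪ {τ (v i)}) =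
        τ '' ((W i : Set N) ∪ {v i}) := by
      rw [Set.image_union, Set.image_singleton]; rfl
    rw [h1]
    exact span_image_eq_top _ (hW i)
  obtain ⟨y', hy', hli⟩ := exists_linearIndependent_add (K := κ) m (fun i => τ (v i))
    (fun i => (W i).map τ.toAddMonoidHom) hm.le hspan
  choose y hyW hyτ using hy'
  refine ⟨y, hyW, ?_⟩
  have hfun : (fun i => τ (v i) + y' i) = fun i => τ (v i + y i) := by
    funext i
    rw [map_add, ← hyτ i]; rfl
  rw [hfun] at hli
  rcases Nat.eq_zero_or_pos m with h0 | hpos
  · -- `N = 0`
    have hsub : Subsingleton (κ ⊗[R] N) := by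
      have : Module.finrank κ (κ ⊗[R] N) = 0 := by rw [← hm, h0]
      exact Module.finrank_zero_iff.mp this
    have : Subsingleton N := IsLocalRing.subsingleton_tensorProduct.mp hsub
    exact Subsingleton.elim _ _
  · haveI : Nonempty (Fin m) := ⟨⟨0, hpos⟩⟩
    let b := basisOfLinearIndependentOfCardEqFinrank hli (by rw [Fintype.card_fin, hm])
    exact IsLocalRing.span_eq_top_of_tmul_eq_basis (fun i => v i + y i) b (fun i => by
      rw [coe_basisOfLinearIndependentOfCardEqFinrank]; rfl)

/-- the minimal number of generators is the dimension of the fibre -/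
theorem finrank_eq_of_min (M : ℕ) (hgen : ∃ s : Fin M → N, Submodule.span R (Set.range s) = ⊤)
    (hmin : ∀ s : Finset N, Submodule.span R (s : Set N) = ⊤ → M ≤ s.card) :
    Module.finrank κ (κ ⊗[R] N) = M := by
  classical
  let τ : N →ₗ[R] κ ⊗[R] N := TensorProduct.mk R κ N 1
  have hτsurj : Function.Surjective τ :=
    TensorProduct.mk_surjective R N κ Ideal.Quotient.mk_surjective
  apply le_antisymm
  · obtain ⟨s, hs⟩ := hgen
    have : Submodule.span κ (Set.range fun i => τ (s i)) = ⊤ := by
      have := span_image_eq_top (R := R) (Set.range s) hs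
      rwa [← Set.range_comp] at this
    have := finrank_le_of_span_eq_top this
    rwa [Fintype.card_fin] at this
  · -- a basis among the pure tensors
    obtain ⟨b, hbt, hbspan, hbli⟩ := exists_linearIndependent κ (Set.range τ)
    have hrange : Submodule.span κ (Set.range τ) = ⊤ := by
      have := span_image_eq_top (R := R) (Set.univ : Set N) (by simp)
      rwa [Set.image_univ] at this
    rw [hrange] at hbspan
    haveI : Fintype b := hbli.setFinite.fintype
    have hcard : Fintype.card b = Module.finrank κ (κ ⊗[R] N) := by
      have := finrank_span_eq_card hbli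
      rw [Subtype.range_coe, hbspan, finrank_top] at this
      exact this.symm
    -- lift
    have hlift : ∀ x : b, ∃ n : N, τ n = x := fun x => hbt x.2
    choose g hg using hlift
    let S : Finset N := Finset.univ.image g
    have hS : Submodule.span R (S : Set N) = ⊤ := by
      apply span_of_span_image_eq_top
      have : τ '' (S : Set N) = b := by
        ext z
        simp only [S, Finset.coe_image, Finset.coe_univ, Set.image_univ, Set.mem_image,
          Set.mem_range, exists_exists_eq_and]
        constructor
        · rintro ⟨x, rfl⟩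
          rw [hg]; exact x.2
        · intro hz
          exact ⟨⟨z, hz⟩, hg _⟩
      rw [this, hbspan]
    calc M ≤ S.card := hmin S hS
      _ ≤ Fintype.card b := by
        have := Finset.card_image_le (s := (Finset.univ : Finset b)) (f := g)
        simpa using this
      _ = _ := hcard

end Local

end Groth.Agent.Lib.Helper13.GenPos
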