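import Mathlib
import Groth.Agent.Lib.Helper13.CartierH1
import Groth.Agent.Lib.Helper13.ComplDiff

/-!
# A lower bound for the generic rank of "finite" differentials (helper13)

`B` finite over `P`, fraction fields `L / K`, derivations `∂ i` of `P` with `∂ i (t j) = δ i j`:
a quotient of `Ω[L⁄k]` of rank `≥ n` in which the differentials of `B` lie in a finitely generated
`B`-submodule.
-/

set_option autoImplicit false

namespace Groth.Agent.Lib.Helper13.GenRank

open TensorProduct KaehlerDifferential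

universe u

section LinAlg

variable {L X Y C : Type u} [Field L] [AddCommGroup X] [Module L X] [AddCommGroup Y] [Module L Y]
  [AddCommGroup C] [Module L C]

theorem le_rank_quotient (n e : ℕ) (μ : X →ₗ[L] Y) (ℓ : X →ₗ[L] (Fin n → L))
    (hℓ : Function.Surjective ℓ) (c : Y →ₗ[L] C) (hc : Function.Surjective c)
    (hcμ : ∀ x, c (μ x) = 0) [Module.Finite L C] (hC : e ≤ Module.finrank L C)
    [Module.Finite L (LinearMap.ker μ)] (hN : Module.finrank L (LinearMap.ker μ) ≤ e) :
    (n : Cardinal) ≤ Module.rank L (Y ⧸ (LinearMap.ker ℓ).map μ) := by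
  set Y' : Submodule L Y := (LinearMap.ker ℓ).map μ with hY'
  set g : X →ₗ[L] Y ⧸ Y' := Y'.mkQ ∘ₗ μ with hg
  set Z₁ : Submodule L (Y ⧸ Y') := LinearMap.range g with hZ₁
  -- (2)
  have hY'c : Y' ≤ LinearMap.ker c := by
    rintro _ ⟨x, -, rfl⟩
    exact hcμ x
  let c' : (Y ⧸ Y') →ₗ[L] C := Y'.liftQ c hY'c
  have hc' : Function.Surjective c' := by
    intro z
    obtain ⟨y, rfl⟩ := hc z
    exact ⟨Y'.mkQ y, rfl⟩
  have hZ₁c : Z₁ ≤ LinearMap.ker c' := by
    rintro _ ⟨x, rfl⟩
    exact hcμ x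
  let c'' : ((Y ⧸ Y') ⧸ Z₁) →ₗ[L] C := Z₁.liftQ c' hZ₁c
  have hc'' : Function.Surjective c'' := by
    intro z
    obtain ⟨y, rfl⟩ := hc' z
    exact ⟨Z₁.mkQ y, rfl⟩
  have h2 : (e : Cardinal) ≤ Module.rank L ((Y ⧸ Y') ⧸ Z₁) := by
    refine le_trans ?_ (LinearMap.rank_le_of_surjective c'' hc'')
    rw [← Module.finrank_eq_rank]
    exact_mod_cast hC
  -- (3)
  set ℓN : Submodule L (Fin n → L) := (LinearMap.ker μ).map ℓ with hℓN
  let ℓ' : X →ₗ[L] (Fin n → L) ⧸ ℓN := ℓN.mkQ ∘ₗ ℓ
  have hℓ' : Function.Surjective ℓ' := (Submodule.mkQ_surjective _).comp hℓ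
  have hker : LinearMap.ker g ≤ LinearMap.ker ℓ' := by
    intro x hx
    rw [LinearMap.mem_ker, hg, LinearMap.comp_apply, Submodule.mkQ_apply,
      Submodule.Quotient.mk_eq_zero] at hx
    obtain ⟨x', hx', hxx'⟩ := hx
    rw [LinearMap.mem_ker, LinearMap.comp_apply, Submodule.mkQ_apply,
      Submodule.Quotient.mk_eq_zero]
    refine ⟨x - x', ?_, ?_⟩
    · show x - x' ∈ LinearMap.ker μ
      rw [LinearMap.mem_ker, map_sub, hxx', sub_self]
    · rw [map_sub, LinearMap.mem_ker.mp hx', sub_zero]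
  let ℓ'' : (X ⧸ LinearMap.ker g) →ₗ[L] (Fin n → L) ⧸ ℓN := (LinearMap.ker g).liftQ ℓ' hker
  have hℓ'' : Function.Surjective ℓ'' := by
    intro z
    obtain ⟨x, rfl⟩ := hℓ' z
    exact ⟨(LinearMap.ker g).mkQ x, rfl⟩
  have h3 : Module.rank L ((Fin n → L) ⧸ ℓN) ≤ Module.rank L Z₁ := by
    have := LinearMap.rank_le_of_surjective
      (ℓ'' ∘ₗ (LinearMap.quotKerEquivRange g).symm.toLinearMap)
      (hℓ''.comp (LinearMap.quotKerEquivRange g).symm.surjective)
    exact this
  have h3' : (Module.finrank L ((Fin n → L) ⧸ ℓN) : Cardinal) ≤ Module.rank L Z₁ := by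
    rw [Module.finrank_eq_rank]
    exact h3
  have h4 : Module.finrank L ((Fin n → L) ⧸ ℓN) + Module.finrank L ℓN = n := by
    rw [Submodule.finrank_quotient_add_finrank, Module.finrank_fin_fun]
  have h5 : Module.finrank L ℓN ≤ e := (Submodule.finrank_map_le ℓ _).trans hN
  -- combine
  rw [← Submodule.rank_quotient_add_rank Z₁]
  have h6 : (n : Cardinal) ≤ (e : Cardinal) + (Module.finrank L ((Fin n → L) ⧸ ℓN) : Cardinal) := by
    have : n ≤ e + Module.finrank L ((Fin n → L) ⧸ ℓN) := by omega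
    exact_mod_cast this
  exact h6.trans (add_le_add h2 h3')

end LinAlg

section Deriv

theorem exists_quotient (k P B K L : Type u) [Field k] [CommRing P] [CommRing B] [Field K] [Field L]
    [Algebra k P] [Algebra k B] [Algebra k K] [Algebra k L]
    [Algebra P B] [Algebra P K] [Algebra P L] [Algebra B L] [Algebra K L]
    [IsScalarTower k P B] [IsScalarTower k P K] [IsScalarTower k P L] [IsScalarTower k B L]
    [IsScalarTower k K L] [IsScalarTower P B L] [IsScalarTower P K L]
    [IsFractionRing P K] [Module.Finite P B] [Module.Finite K L]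
    {n : ℕ} (δ : Fin n → Derivation k P P) (t : Fin n → P)
    (hδ : ∀ i j, δ i (t j) = if i = j then 1 else 0) :
    ∃ Y' : Submodule L (Ω[L⁄k]), (n : Cardinal) ≤ Module.rank L (Ω[L⁄k] ⧸ Y') ∧
      ∃ (ι : Type) (_ : Fintype ι) (z : ι → Ω[L⁄k] ⧸ Y'), ∀ b : B, ∃ c : ι → B,
        Y'.mkQ (D k L (algebraMap B L b)) = ∑ i, algebraMap B L (c i) • z i := by
  classical
  haveI : Algebra.FormallyEtale P K := Algebra.FormallyEtale.of_isLocalization (nonZeroDivisors P)
  -- derivations of `K`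
  have hex : ∀ i, ∃ D' : Derivation k K K,
      ∀ f : P, D' (algebraMap P K f) = algebraMap P K (δ i f) := fun i =>
    Groth.Agent.Lib.Helper13.ComplDiff.exists_derivation_extension k P K (δ i)
  choose δK hδK using hex
  -- functionals
  let ℓi : Fin n → (L ⊗[K] Ω[K⁄k] →ₗ[L] L) := fun i =>
    LinearMap.liftBaseChange L ((Algebra.linearMap K L) ∘ₗ (δK i).liftKaehlerDifferential)
  have hℓi : ∀ i (a : L) (f : K), ℓi i (a ⊗ₜ[K] D k K f) = a * algebraMap K L (δK i f) := by
    intro i a f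
    show LinearMap.liftBaseChange L _ (a ⊗ₜ[K] D k K f) = _
    rw [LinearMap.liftBaseChange_tmul, LinearMap.comp_apply, Derivation.liftKaehlerDifferential_comp_D,
      Algebra.linearMap_apply, smul_eq_mul]
  let ℓ : L ⊗[K] Ω[K⁄k] →ₗ[L] (Fin n → L) := LinearMap.pi ℓi
  have hℓt : ∀ (a : L) (j : Fin n), ℓ (a ⊗ₜ[K] D k K (algebraMap P K (t j))) = Pi.single j a := by
    intro a j
    funext i
    show (LinearMap.pi ℓi) _ i = _
    rw [LinearMap.pi_apply, hℓi, hδK, hδ]
    by_cases hij : i = j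
    · subst hij
      rw [if_pos rfl, map_one, map_one, mul_one, Pi.single_eq_same]
    · rw [if_neg hij, map_zero, map_zero, mul_zero, Pi.single_eq_of_ne hij]
  have hℓsurj : Function.Surjective ℓ := by
    intro v
    refine ⟨∑ j, (v j) ⊗ₜ[K] D k K (algebraMap P K (t j)), ?_⟩
    rw [map_sum]
    simp_rw [hℓt]
    exact Finset.univ_sum_single v
  -- Cartier
  haveI : Algebra.IsAlgebraic K L := Algebra.IsAlgebraic.of_finite K L
  obtain ⟨hfin1, hfin2, hcart⟩ := Groth.Agent.Lib.Helper13.CartierH1.cartier K L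
  rw [_root_.trdeg_eq_zero, Cardinal.zero_toNat] at hcart
  have heq : Module.finrank L (Ω[L⁄K]) = Module.finrank L (Algebra.H1Cotangent K L) := by
    have : (Module.finrank L (Ω[L⁄K]) : ℤ) = Module.finrank L (Algebra.H1Cotangent K L) := by
      simpa [sub_eq_zero] using hcart
    exact_mod_cast this
  have hkerμ : LinearMap.ker (mapBaseChange k K L) = LinearMap.range (Algebra.H1Cotangent.δ k K L) :=
    (Algebra.H1Cotangent.exact_δ_mapBaseChange k K L).linearMap_ker_eq
  haveI : Module.Finite L (LinearMap.ker (mapBaseChange k K L)) := by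
    rw [hkerμ]; infer_instance
  have hN : Module.finrank L (LinearMap.ker (mapBaseChange k K L)) ≤ Module.finrank L (Ω[L⁄K]) := by
    rw [hkerμ, heq]
    exact LinearMap.finrank_range_le _
  have hrank := le_rank_quotient n (Module.finrank L (Ω[L⁄K])) (mapBaseChange k K L) ℓ hℓsurj
    (KaehlerDifferential.map k K L L) (KaehlerDifferential.map_surjective k K L)
    (fun x => (KaehlerDifferential.exact_mapBaseChange_map k K L _).mpr ⟨x, rfl⟩) le_rfl hN
  refine ⟨(LinearMap.ker ℓ).map (mapBaseChange k K L), hrank, ?_⟩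
  set Y' := (LinearMap.ker ℓ).map (mapBaseChange k K L) with hY'
  -- differentials of elements of `P`
  have hP : ∀ f : P, Y'.mkQ (D k L (algebraMap P L f)) =
      ∑ i, algebraMap P L (δ i f) • Y'.mkQ (D k L (algebraMap P L (t i))) := by
    intro f
    have hmem : (1 : L) ⊗ₜ[K] D k K (algebraMap P K f) -
        ∑ i, (algebraMap P L (δ i f)) ⊗ₜ[K] D k K (algebraMap P K (t i)) ∈ LinearMap.ker ℓ := by
      rw [LinearMap.mem_ker, map_sub, map_sum]
      simp_rw [hℓt]
      rw [Finset.univ_sum_single, sub_eq_zero]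
      funext i
      show (LinearMap.pi ℓi) _ i = _
      rw [LinearMap.pi_apply, hℓi, hδK, one_mul, ← IsScalarTower.algebraMap_apply]
    have h1 : Y'.mkQ (mapBaseChange k K L ((1 : L) ⊗ₜ[K] D k K (algebraMap P K f) -
        ∑ i, (algebraMap P L (δ i f)) ⊗ₜ[K] D k K (algebraMap P K (t i)))) = 0 := by
      rw [Submodule.mkQ_apply, Submodule.Quotient.mk_eq_zero]
      exact ⟨_, hmem, rfl⟩
    rw [map_sub, map_sub, map_sum, map_sum, sub_eq_zero] at h1
    simp only [mapBaseChange_tmul, map_D, one_smul, map_smul,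
      ← IsScalarTower.algebraMap_apply P K L] at h1
    exact h1
  -- generators of `B` over `P`
  obtain ⟨r, bgen, hbgen⟩ := Module.Finite.exists_fin (R := P) (M := B)
  let z : Fin n ⊕ Fin r → Ω[L⁄k] ⧸ Y' := Sum.elim
    (fun i => Y'.mkQ (D k L (algebraMap P L (t i))))
    (fun j => Y'.mkQ (D k L (algebraMap B L (bgen j))))
  refine ⟨Fin n ⊕ Fin r, inferInstance, z, fun b => ?_⟩
  have hb : b ∈ Submodule.span P (Set.range bgen) := by rw [hbgen]; trivial
  obtain ⟨cf, hcf⟩ := (Submodule.mem_span_range_iff_exists_fun P).mp hb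
  refine ⟨Sum.elim (fun i => ∑ j, bgen j * algebraMap P B (δ i (cf j)))
    (fun j => algebraMap P B (cf j)), ?_⟩
  rw [Fintype.sum_sum_type]
  simp only [Sum.elim_inl, Sum.elim_inr, z]
  rw [← hcf, map_sum, map_sum, map_sum]
  have hterm : ∀ j, Y'.mkQ (D k L (algebraMap B L (cf j • bgen j))) =
      algebraMap B L (algebraMap P B (cf j)) • Y'.mkQ (D k L (algebraMap B L (bgen j))) +
      ∑ i, (algebraMap B L (bgen j) * algebraMap P L (δ i (cf j))) •
        Y'.mkQ (D k L (algebraMap P L (t i))) := by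
    intro j
    rw [Algebra.smul_def, map_mul, Derivation.leibniz, map_add, map_smul, map_smul,
      ← IsScalarTower.algebraMap_apply P B L, hP, Finset.smul_sum, add_comm]
    rw [add_comm]
    congr 1
    refine Finset.sum_congr rfl fun i _ => ?_
    rw [smul_smul]
  simp_rw [hterm]
  rw [Finset.sum_add_distrib, add_comm, Finset.sum_comm]
  congr 1
  refine Finset.sum_congr rfl fun i _ => ?_
  rw [map_sum, Finset.sum_smul]
  refine Finset.sum_congr rfl fun j _ => ?_
  rw [map_mul, ← IsScalarTower.algebraMap_apply P B L]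

end Deriv

end Groth.Agent.Lib.Helper13.GenRank
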