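import Mathlib
import Groth.Agent.Lib.Helper62.SmoothReg6
import Groth.Agent.Lib.Helper73.ConstructibleNhds

universe u
open AlgebraicGeometry CategoryTheory Topology

namespace Groth.Agent.Lib.Helper13.GenSmoothReg

/-- ring-level: over the (perfect) function field, an ess. f.t. regular local algebra is
formally smooth. -/
theorem key {Y : Scheme.{u}} [IsIntegral Y] [PerfectField Y.functionField] (y : Y)
    (hy : y = genericPoint Y) (B : Type u) [CommRing B] (φ : Y.presheaf.stalk y →+* B)
    (hφ : φ.EssFiniteType) [IsRegularLocalRing B] : φ.FormallySmooth := by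
  subst hy
  algebraize [φ]
  exact Groth.Agent.Lib.Helper62.SmoothReg.formallySmooth_of_isRegularLocalRing Y.functionField B

theorem main (X Y : Scheme.{u}) [IsIntegral X] [IsIntegral Y]
    [IsLocallyNoetherian X] (hreg : ∀ x : X, IsRegularLocalRing (X.presheaf.stalk x))
    (f : X ⟶ Y) [IsDominant f] [LocallyOfFinitePresentation f] [QuasiCompact f]
    [PerfectField Y.functionField] :
    ∃ V : Y.Opens, Dense (V : Set Y) ∧ Smooth (f ∣_ V) := by
  have hfibre : ∀ x : X, f.base x = genericPoint Y → x ∈ f.smoothLocus := by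
    intro x hx
    rw [Scheme.Hom.mem_smoothLocus]
    haveI := hreg x
    exact key (f.base x) hx _ _ (LocallyOfFiniteType.stalkMap f x)
  set Z : Set X := (f.smoothLocus : Set X)ᶜ with hZ
  have hZcl : IsClosed Z := f.smoothLocus.isOpen.isClosed_compl
  have hZc : IsLocallyConstructible Z :=
    Groth.Agent.Lib.Helper73.ConstructibleNhds.isLocallyConstructible_of_isClosed hZcl
  have hE : IsLocallyConstructible (f.base '' Z)ᶜ :=
    Groth.Agent.Lib.Helper73.ConstructibleNhds.isLocallyConstructible_compl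
      (f.isLocallyConstructible_image hZc)
  have hnhds : (f.base '' Z)ᶜ ∈ nhds (genericPoint Y) := by
    refine Groth.Agent.Lib.Helper73.ConstructibleNhds.mem_nhds_of_isLocallyConstructible hE _ ?_
    intro z hz
    have hzeq : z = genericPoint Y :=
      (((genericPoint_spec Y).specializes (Set.mem_univ z)).antisymm hz).eq.symm
    rw [hzeq]
    rintro ⟨x, hxZ, hx⟩
    exact hxZ (hfibre x hx)
  obtain ⟨V, hVsub, hVopen, hηV⟩ := mem_nhds_iff.mp hnhds
  refine ⟨⟨V, hVopen⟩, hVopen.dense ⟨_, hηV⟩, ?_⟩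
  rw [← Scheme.Hom.smoothLocus_eq_top_iff, ← top_le_iff]
  rintro x -
  rw [Scheme.Hom.mem_smoothLocus]
  rw [RingHom.FormallySmooth.respectsIso.arrow_mk_iso_iff (morphismRestrictStalkMap f ⟨V, hVopen⟩ x)]
  rw [← Scheme.Hom.mem_smoothLocus]
  by_contra hcon
  have hxV : f.base x.1 ∈ V := x.2
  exact hVsub hxV ⟨x.1, hcon, rfl⟩

end Groth.Agent.Lib.Helper13.GenSmoothReg
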