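import Mathlib
import Groth.Prelude.Def_EGA41

/-!
# `Υ_{C/B/Λ} → Υ_{C/B/A}` is surjective (universe-polymorphic version of S3435, due to helper18)
-/

set_option autoImplicit false

namespace Groth.Agent.Lib.Helper13.ImperfSurj

open TensorProduct

variable (Λ A B C : Type*) [CommRing Λ] [CommRing A] [CommRing B] [CommRing C]
    [Algebra Λ A] [Algebra Λ B] [Algebra Λ C] [Algebra A B] [Algebra A C] [Algebra B C]
    [IsScalarTower Λ A B] [IsScalarTower Λ A C] [IsScalarTower Λ B C] [IsScalarTower A B C]

theorem aux_step (α : C ⊗[A] Ω[A⁄Λ]) :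
    ∃ β : C ⊗[B] Ω[B⁄Λ], KaehlerDifferential.mapBaseChange Λ B C β =
        KaehlerDifferential.mapBaseChange Λ A C α ∧
      (KaehlerDifferential.map Λ A B B).baseChange C β = 0 := by
  induction α with
  | zero => exact ⟨0, by simp, by simp⟩
  | tmul c x =>
    refine ⟨c ⊗ₜ KaehlerDifferential.map Λ Λ A B x, ?_, ?_⟩
    · simp only [KaehlerDifferential.mapBaseChange_tmul]
      congr 1
      have h : ((KaehlerDifferential.map Λ Λ B C).restrictScalars A) ∘ₗ
          (KaehlerDifferential.map Λ Λ A B) = KaehlerDifferential.map Λ Λ A C := by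
        apply Derivation.liftKaehlerDifferential_unique
        ext a
        simp [← IsScalarTower.algebraMap_apply]
      exact LinearMap.congr_fun h x
    · simp only [LinearMap.baseChange_tmul]
      have : KaehlerDifferential.map Λ A B B (KaehlerDifferential.map Λ Λ A B x) = 0 := by
        have h1 : KaehlerDifferential.map Λ Λ A B x ∈
            LinearMap.range (KaehlerDifferential.mapBaseChange Λ A B) :=
          ⟨1 ⊗ₜ x, by simp⟩
        rw [KaehlerDifferential.range_mapBaseChange] at h1
        exact h1
      rw [this, TensorProduct.tmul_zero]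
  | add a b ha hb =>
    obtain ⟨β₁, h1, h1'⟩ := ha
    obtain ⟨β₂, h2, h2'⟩ := hb
    exact ⟨β₁ + β₂, by simp [h1, h2], by simp [h1', h2']⟩

theorem aux_square (η : C ⊗[B] Ω[B⁄Λ]) :
    KaehlerDifferential.map Λ A C C (KaehlerDifferential.mapBaseChange Λ B C η) =
      KaehlerDifferential.mapBaseChange A B C ((KaehlerDifferential.map Λ A B B).baseChange C η) := by
  induction η with
  | zero => simp
  | tmul c x =>
    simp only [KaehlerDifferential.mapBaseChange_tmul, LinearMap.baseChange_tmul, map_smul]
    congr 1
    have h : ((KaehlerDifferential.map Λ A C C).restrictScalars B) ∘ₗ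
          (KaehlerDifferential.map Λ Λ B C) =
        ((KaehlerDifferential.map A A B C)) ∘ₗ (KaehlerDifferential.map Λ A B B) := by
      apply Derivation.liftKaehlerDifferential_unique
      ext a
      simp
    exact LinearMap.congr_fun h x
  | add a b ha hb => simp [ha, hb]

theorem imperfection_map_surjective :
    ∀ ω ∈ LinearMap.ker (KaehlerDifferential.mapBaseChange A B C),
      ∃ η ∈ LinearMap.ker (KaehlerDifferential.mapBaseChange Λ B C),
        (KaehlerDifferential.map Λ A B B).baseChange C η = ω := by
  intro ω hω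
  have hsurj : Function.Surjective ((KaehlerDifferential.map Λ A B B).baseChange C) :=
    LinearMap.lTensor_surjective _ (KaehlerDifferential.map_surjective Λ A B)
  obtain ⟨η', rfl⟩ := hsurj ω
  have hω' : KaehlerDifferential.mapBaseChange A B C
      ((KaehlerDifferential.map Λ A B B).baseChange C η') = 0 := hω
  rw [← aux_square] at hω'
  obtain ⟨α, hα⟩ := (KaehlerDifferential.exact_mapBaseChange_map Λ A C _).mp hω'
  obtain ⟨β, hβ1, hβ2⟩ := aux_step Λ A B C α
  refine ⟨η' - β, ?_, ?_⟩
  · show KaehlerDifferential.mapBaseChange Λ B C (η' - β) = 0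
    rw [map_sub, hβ1, hα, sub_self]
  · rw [map_sub, hβ2, sub_zero]

/-- over a field `C`: `Υ_{C/B/A}` is finite of rank `≤ rank Υ_{C/B/Λ}` -/
theorem finite_and_finrank_le {C : Type*} [Field C] [Algebra Λ C] [Algebra A C] [Algebra B C]
    [IsScalarTower Λ A C] [IsScalarTower Λ B C] [IsScalarTower A B C]
    [Module.Finite C (LinearMap.ker (KaehlerDifferential.mapBaseChange Λ B C))] :
    Module.Finite C (LinearMap.ker (KaehlerDifferential.mapBaseChange A B C)) ∧
      Module.finrank C (LinearMap.ker (KaehlerDifferential.mapBaseChange A B C)) ≤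
        Module.finrank C (LinearMap.ker (KaehlerDifferential.mapBaseChange Λ B C)) := by
  let g : LinearMap.ker (KaehlerDifferential.mapBaseChange Λ B C) →ₗ[C]
      LinearMap.ker (KaehlerDifferential.mapBaseChange A B C) :=
    LinearMap.restrict ((KaehlerDifferential.map Λ A B B).baseChange C) (by
      intro η hη
      rw [LinearMap.mem_ker] at hη ⊢
      rw [← aux_square, hη, map_zero])
  have hg : Function.Surjective g := by
    rintro ⟨ω, hω⟩
    obtain ⟨η, hη, rfl⟩ := imperfection_map_surjective Λ A B C ω hω
    exact ⟨⟨η, hη⟩, rfl⟩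
  exact ⟨Module.Finite.of_surjective g hg, LinearMap.finrank_le_finrank_of_surjective hg⟩

end Groth.Agent.Lib.Helper13.ImperfSurj
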