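import Mathlib
import Groth.Agent.Lib.Helper13.Fred

/-!
# Index bookkeeping for a seven-term exact sequence of vector spaces (helper13)

`0 → H₁ →b H₂ →c H₃ →δ W₁ →a W₂ →m W₃ → 0`.
-/

set_option autoImplicit false

namespace Groth.Agent.Lib.Helper13.SevenTerm

open Module Groth.Agent.Lib.Helper13.Fred

variable {F : Type*} [Field F] {H₁ H₂ H₃ W₁ W₂ W₃ : Type*}
  [AddCommGroup H₁] [Module F H₁] [AddCommGroup H₂] [Module F H₂] [AddCommGroup H₃] [Module F H₃]
  [AddCommGroup W₁] [Module F W₁] [AddCommGroup W₂] [Module F W₂] [AddCommGroup W₃] [Module F W₃]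
  (b : H₁ →ₗ[F] H₂) (c : H₂ →ₗ[F] H₃) (δ : H₃ →ₗ[F] W₁) (a : W₁ →ₗ[F] W₂) (m : W₂ →ₗ[F] W₃)

include b c δ a m in
/-- if `H₃` and `W₃` are finite-dimensional, `a` and `b` are Fredholm and
`ind a - ind b = dim H₃ - dim W₃` -/
theorem right (hb : Function.Injective b) (hbc : Function.Exact b c) (hcδ : Function.Exact c δ)
    (hδa : Function.Exact δ a) (ham : Function.Exact a m) (hm : Function.Surjective m)
    [FiniteDimensional F H₃] [FiniteDimensional F W₃] :
    IsFred a ∧ IsFred b ∧ a.index - b.index = (finrank F H₃ : ℤ) - finrank F W₃ := by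
  -- `a`
  have hka : LinearMap.ker a = LinearMap.range δ := hδa.linearMap_ker_eq
  let eca : (W₂ ⧸ LinearMap.range a) ≃ₗ[F] W₃ :=
    (Submodule.quotEquivOfEq _ _ ham.linearMap_ker_eq.symm).trans (m.quotKerEquivOfSurjective hm)
  -- `b`
  have hkb : LinearMap.ker b = ⊥ := LinearMap.ker_eq_bot.mpr hb
  let ecb : (H₂ ⧸ LinearMap.range b) ≃ₗ[F] LinearMap.ker δ :=
    ((Submodule.quotEquivOfEq _ _ hbc.linearMap_ker_eq.symm).trans c.quotKerEquivRange).trans
      (LinearEquiv.ofEq _ _ hcδ.linearMap_ker_eq.symm)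
  have hFa : IsFred a := ⟨by rw [hka]; infer_instance, Module.Finite.equiv eca.symm⟩
  have hFb : IsFred b := ⟨by rw [hkb]; infer_instance, Module.Finite.equiv ecb.symm⟩
  refine ⟨hFa, hFb, ?_⟩
  rw [LinearMap.index_eq_finrank_sub, LinearMap.index_eq_finrank_sub, eca.finrank_eq,
    ecb.finrank_eq, hka, hkb, finrank_bot]
  have := LinearMap.finrank_range_add_finrank_ker δ
  push_cast
  omega

include b c δ a m in
/-- if `H₁` and `W₁` are finite-dimensional, `m` and `c` are Fredholm and
`ind m - ind c = dim W₁ - dim H₁` -/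
theorem left (hb : Function.Injective b) (hbc : Function.Exact b c) (hcδ : Function.Exact c δ)
    (hδa : Function.Exact δ a) (ham : Function.Exact a m) (hm : Function.Surjective m)
    [FiniteDimensional F H₁] [FiniteDimensional F W₁] :
    IsFred m ∧ IsFred c ∧ m.index - c.index = (finrank F W₁ : ℤ) - finrank F H₁ := by
  -- `m`
  have hkm : LinearMap.ker m = LinearMap.range a := ham.linearMap_ker_eq
  have hrm : LinearMap.range m = ⊤ := LinearMap.range_eq_top.mpr hm
  -- `c`
  have hkc : LinearMap.ker c = LinearMap.range b := hbc.linearMap_ker_eq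
  let ecc : (H₃ ⧸ LinearMap.range c) ≃ₗ[F] LinearMap.range δ :=
    (Submodule.quotEquivOfEq _ _ hcδ.linearMap_ker_eq.symm).trans δ.quotKerEquivRange
  have hFm : IsFred m := ⟨by rw [hkm]; infer_instance, by rw [hrm]; infer_instance⟩
  have hFc : IsFred c := ⟨by rw [hkc]; infer_instance, Module.Finite.equiv ecc.symm⟩
  refine ⟨hFm, hFc, ?_⟩
  rw [LinearMap.index_eq_finrank_sub, LinearMap.index_eq_finrank_sub, ecc.finrank_eq, hkm, hkc,
    LinearMap.finrank_range_of_inj hb]
  have h1 := LinearMap.finrank_range_add_finrank_ker a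
  have h2 : finrank F (LinearMap.ker a) = finrank F (LinearMap.range δ) := by
    rw [hδa.linearMap_ker_eq]
  have h3 : finrank F (W₃ ⧸ LinearMap.range m) = 0 := by
    rw [hrm]
    exact finrank_zero_of_subsingleton
  rw [h3]
  push_cast
  omega

end Groth.Agent.Lib.Helper13.SevenTerm
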