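import Mathlib
import Groth.Agent.Lib.Helper13.CartierH1
import Groth.Agent.Lib.Helper13.SevenTerm
import Groth.Agent.S9319

/-!
# Index formula for a square of fields (Stacks 07E3-type) (helper13)
-/

set_option autoImplicit false

namespace Groth.Agent.Lib.Helper13.JZIndex

open TensorProduct KaehlerDifferential Algebra Module Groth.Agent.Lib.Helper13.Fred

universe u

variable {k k' K K' : Type u} [Field k] [Field k'] [Field K] [Field K']
  [Algebra k k'] [Algebra k K] [Algebra k K'] [Algebra k' K'] [Algebra K K']
  [IsScalarTower k k' K'] [IsScalarTower k K K']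

theorem alpha_eq :
    (KaehlerDifferential.map k k' K K').liftBaseChange K' =
      (KaehlerDifferential.map k k' K' K') ∘ₗ (KaehlerDifferential.mapBaseChange k K K') := by
  apply TensorProduct.AlgebraTensorModule.ext
  intro x ω
  simp only [LinearMap.liftBaseChange_tmul, LinearMap.coe_comp, Function.comp_apply,
    KaehlerDifferential.mapBaseChange_tmul, map_smul]
  congr 1
  have hω : ω ∈ Submodule.span K (Set.range (KaehlerDifferential.D k K)) := by
    rw [KaehlerDifferential.span_range_derivation]; trivial
  induction hω using Submodule.span_induction with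
  | mem y hy =>
    obtain ⟨a, rfl⟩ := hy
    rw [KaehlerDifferential.map_D, KaehlerDifferential.map_D, KaehlerDifferential.map_D]
    rfl
  | zero => simp
  | add y z _ _ hy hz => rw [map_add, map_add, map_add, hy, hz]
  | smul c y _ hy =>
    rw [map_smul, map_smul, hy, ← algebraMap_smul K' c ((KaehlerDifferential.map k k K K') y),
      map_smul, algebraMap_smul]

theorem h1map_comp' (h : H1Cotangent k K) :
    H1Cotangent.map k k' K K' h = H1Cotangent.map k k' K' K' (H1Cotangent.map k k K K' h) := by
  unfold H1Cotangent.map
  rw [← Extension.H1Cotangent.map_comp_apply]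
  exact congrFun (congrArg DFunLike.coe (Extension.H1Cotangent.map_eq _ _)) h

theorem beta_eq :
    (H1Cotangent.map k k' K K').liftBaseChange K' =
      (H1Cotangent.map k k' K' K') ∘ₗ ((H1Cotangent.map k k K K').liftBaseChange K') := by
  apply TensorProduct.AlgebraTensorModule.ext
  intro x h
  simp only [LinearMap.liftBaseChange_tmul, LinearMap.coe_comp, Function.comp_apply, map_smul]
  rw [h1map_comp']

variable [Algebra.EssFiniteType k k'] [Algebra.EssFiniteType K K']

theorem main :
    IsFred ((KaehlerDifferential.map k k' K K').liftBaseChange K') ∧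
    IsFred ((H1Cotangent.map k k' K K').liftBaseChange K') ∧
    ((KaehlerDifferential.map k k' K K').liftBaseChange K').index -
        ((H1Cotangent.map k k' K K').liftBaseChange K').index =
      (Cardinal.toNat (Algebra.trdeg k k') : ℤ) - Cardinal.toNat (Algebra.trdeg K K') := by
  -- tower (1): k → K → K'
  obtain ⟨hf1, hf1', hc1⟩ := Groth.Agent.Lib.Helper13.CartierH1.cartier K K'
  haveI := hf1
  haveI := hf1'
  obtain ⟨ha1, hb1, hi1⟩ := Groth.Agent.Lib.Helper13.SevenTerm.right
    ((H1Cotangent.map k k K K').liftBaseChange K') (H1Cotangent.map k K K' K')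
    (H1Cotangent.δ k K K') (KaehlerDifferential.mapBaseChange k K K')
    (KaehlerDifferential.map k K K' K')
    (Groth.Agent.S9319.result (K := k) (L := K) (M := K'))
    (H1Cotangent.exact_liftBaseChange_map_of_flat (R := k) (S := K) (T := K'))
    (H1Cotangent.exact_map_δ k K K') (H1Cotangent.exact_δ_mapBaseChange k K K')
    (KaehlerDifferential.exact_mapBaseChange_map k K K')
    (KaehlerDifferential.map_surjective k K K')
  -- tower (2): k → k' → K'
  obtain ⟨hf2, hf2', hc2⟩ := Groth.Agent.Lib.Helper13.CartierH1.cartier k k'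
  haveI := hf2
  haveI := hf2'
  obtain ⟨ha2, hb2, hi2⟩ := Groth.Agent.Lib.Helper13.SevenTerm.left
    ((H1Cotangent.map k k k' K').liftBaseChange K') (H1Cotangent.map k k' K' K')
    (H1Cotangent.δ k k' K') (KaehlerDifferential.mapBaseChange k k' K')
    (KaehlerDifferential.map k k' K' K')
    (Groth.Agent.S9319.result (K := k) (L := k') (M := K'))
    (H1Cotangent.exact_liftBaseChange_map_of_flat (R := k) (S := k') (T := K'))
    (H1Cotangent.exact_map_δ k k' K') (H1Cotangent.exact_δ_mapBaseChange k k' K')
    (KaehlerDifferential.exact_mapBaseChange_map k k' K')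
    (KaehlerDifferential.map_surjective k k' K')
  rw [Module.finrank_baseChange, Module.finrank_baseChange] at hi2
  obtain ⟨hα, hαi⟩ := ha1.comp ha2
  obtain ⟨hβ, hβi⟩ := hb1.comp hb2
  rw [alpha_eq, beta_eq]
  refine ⟨hα, hβ, ?_⟩
  rw [hαi, hβi]
  omega

end Groth.Agent.Lib.Helper13.JZIndex
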