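import Mathlib

namespace Groth.Agent.Lib.Helper13.JacDesc

open Ideal

theorem exists_prime_maximal_notMem {A : Type*} [CommRing A] (p : Ideal A) [p.IsPrime] (f : A)
    (hf : f ∉ p) :
    ∃ p' : Ideal A, p'.IsPrime ∧ p ≤ p' ∧ f ∉ p' ∧ ∀ q : Ideal A, p' < q → ∃ n : ℕ, f ^ n ∈ q := by
  have disjoint : Disjoint (p : Set A) (Submonoid.powers f) := by
    rw [Set.disjoint_right]
    rintro _ ⟨n, rfl⟩ h
    exact hf (Ideal.IsPrime.mem_of_pow_mem inferInstance n h)
  have ⟨p', hIp, hp⟩ := zorn_le_nonempty₀ {q : Ideal A | Disjoint (q : Set A) (Submonoid.powers f)}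
    (fun c hc hc' x hx ↦ ?_) p disjoint
  · refine ⟨p', Ideal.isPrime_of_maximally_disjoint _ _ hp.1 (fun _ ↦ hp.not_prop_of_gt), hIp,
      ?_, ?_⟩
    · exact fun h => Set.disjoint_right.mp hp.1 (Submonoid.mem_powers f) h
    · intro q hq
      have := hp.not_prop_of_gt hq
      rw [Set.mem_ofPred_eq, Set.not_disjoint_iff] at this
      obtain ⟨x, hxq, ⟨n, rfl⟩⟩ := this
      exact ⟨n, hxq⟩
  cases isEmpty_or_nonempty c
  · exact ⟨p, disjoint, fun J hJ ↦ isEmptyElim (⟨J, hJ⟩ : c)⟩
  refine ⟨sSup c, Set.disjoint_left.mpr fun x hx ↦ ?_, fun _ ↦ le_sSup⟩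
  have ⟨p, hp⟩ := (Submodule.mem_iSup_of_directed _ hc'.directed).mp (sSup_eq_iSup' c ▸ hx)
  exact Set.disjoint_left.mp (hc p.2) hp

/-- Jacobson descends along a flat ring map with surjective Spec and finite fibres. -/
theorem isJacobsonRing_of_flat_finite_fibres {A R : Type*} [CommRing A] [CommRing R] [Algebra A R]
    [Module.Flat A R]
    (hsurj : Function.Surjective (PrimeSpectrum.comap (algebraMap A R)))
    (hfin : ∀ p : PrimeSpectrum A, ((PrimeSpectrum.comap (algebraMap A R)) ⁻¹' {p}).Finite)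
    [IsJacobsonRing R] : IsJacobsonRing A := by
  rw [isJacobsonRing_iff_prime_eq]
  intro p hp
  refine le_antisymm ?_ Ideal.le_jacobson
  intro f hf
  by_contra hfp
  obtain ⟨p', hp'prime, hpp', hfp', hmax⟩ := exists_prime_maximal_notMem p f hfp
  have hnotmax : ¬ p'.IsMaximal := by
    intro hm
    apply hfp'
    rw [Ideal.jacobson, Ideal.mem_sInf] at hf
    exact hf ⟨hpp', hm⟩
  obtain ⟨m, hm, hp'm⟩ := Ideal.exists_le_maximal p' hp'prime.ne_top
  have hlt : p' < m := lt_of_le_of_ne hp'm (by rintro rfl; exact hnotmax hm)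
  haveI := hm.isPrime
  obtain ⟨⟨m', hm'prime⟩, hm'⟩ := hsurj ⟨m, hm.isPrime⟩
  haveI : m'.LiesOver m := ⟨by
    have := congrArg PrimeSpectrum.asIdeal hm'
    exact this.symm⟩
  obtain ⟨q, hqle, hqprime, hqover⟩ := Ideal.exists_ideal_le_liesOver_of_le (p := p') (q := m) m' hp'm
  -- q is not maximal
  have hqm' : q ≠ m' := by
    intro h
    have h1 : p' = m := by
      rw [hqover.over, h, ← (‹m'.LiesOver m›).over]
    exact hlt.ne h1
  have hqnotmax : ¬ q.IsMaximal := fun h => hqm' (h.eq_of_le hm'prime.ne_top hqle)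
  -- f ∉ q
  have hfq : algebraMap A R f ∉ q := by
    intro h
    apply hfp'
    rw [hqover.over]
    exact h
  -- the finite set of primes of R over p'
  set T := (PrimeSpectrum.comap (algebraMap A R)) ⁻¹' {⟨p', hp'prime⟩} with hT
  have hTfin : T.Finite := hfin _
  -- for each prime in T other than q containing q, choose an element
  classical
  have key : ∀ Q : PrimeSpectrum R, ∃ g : R, g ∉ q ∧ (q < Q.asIdeal → g ∈ Q.asIdeal) := by
    intro Q
    by_cases h : q < Q.asIdeal
    · obtain ⟨g, hgQ, hgq⟩ := Set.exists_of_ssubset h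
      exact ⟨g, hgq, fun _ => hgQ⟩
    · exact ⟨1, fun h1 => hqprime.ne_top ((Ideal.eq_top_iff_one _).mpr h1), fun h' => absurd h' h⟩
  choose g hgq hgQ using key
  set G : R := algebraMap A R f * ∏ Q ∈ hTfin.toFinset, g Q with hG
  have hGq : G ∉ q := by
    intro h
    rcases hqprime.mem_or_mem h with h | h
    · exact hfq h
    · rw [Ideal.IsPrime.prod_mem_iff] at h
      obtain ⟨Q, -, hQ⟩ := h
      exact hgq Q hQ
  -- G is in every maximal ideal containing q
  have hGjac : G ∈ q.jacobson := by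
    rw [Ideal.jacobson, Ideal.mem_sInf]
    rintro n ⟨hqn, hn⟩
    have hqn' : q < n := lt_of_le_of_ne hqn (by rintro rfl; exact hqnotmax hn)
    by_cases hfn : algebraMap A R f ∈ n
    · exact Ideal.mul_mem_right _ _ hfn
    · -- n lies over p'
      have hnover : n.comap (algebraMap A R) = p' := by
        by_contra hne
        have hle : p' ≤ n.comap (algebraMap A R) := by
          rw [hqover.over]
          exact Ideal.comap_mono hqn
        obtain ⟨k, hk⟩ := hmax _ (lt_of_le_of_ne hle (Ne.symm hne))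
        apply hfn
        have : (algebraMap A R f) ^ k ∈ n := by
          rw [← map_pow]; exact hk
        exact hn.isPrime.mem_of_pow_mem k this
      have hnT : (⟨n, hn.isPrime⟩ : PrimeSpectrum R) ∈ hTfin.toFinset := by
        rw [Set.Finite.mem_toFinset, hT, Set.mem_preimage, Set.mem_singleton_iff]
        exact PrimeSpectrum.ext hnover
      refine Ideal.mul_mem_left _ _ ?_
      obtain ⟨c, hc⟩ := Finset.dvd_prod_of_mem g hnT
      rw [hc]
      exact Ideal.mul_mem_right _ _ (hgQ ⟨n, hn.isPrime⟩ hqn')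
  rw [(isJacobsonRing_iff_prime_eq.mp ‹IsJacobsonRing R›) q hqprime] at hGjac
  exact hGq hGjac

end Groth.Agent.Lib.Helper13.JacDesc
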