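import Mathlib
import Groth.Agent.S2735
import Groth.Agent.Lib.Helper13.JacDesc

universe u
open AlgebraicGeometry CategoryTheory

namespace Groth.Agent.Lib.Helper13.JacDescMain

theorem main (A B : Type u) [CommRing A] [CommRing B] [Algebra A B]
    [Module.FaithfullyFlat A B] [Algebra.FinitePresentation A B] [IsJacobsonRing B] :
    IsJacobsonRing A := by
  set f : Spec (CommRingCat.of B) ⟶ Spec (CommRingCat.of A) :=
    Spec.map (CommRingCat.ofHom (algebraMap A B)) with hf
  haveI : Flat f := by
    rw [hf, HasRingHomProperty.Spec_iff (P := @Flat)]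
    simp only [CommRingCat.hom_ofHom]
    rw [RingHom.flat_algebraMap_iff]
    infer_instance
  haveI : LocallyOfFinitePresentation f := by
    rw [hf, HasRingHomProperty.Spec_iff (P := @LocallyOfFinitePresentation)]
    simp only [CommRingCat.hom_ofHom]
    rw [RingHom.finitePresentation_algebraMap]
    infer_instance
  haveI : Surjective f := by
    constructor
    exact PrimeSpectrum.comap_surjective_of_faithfullyFlat
  obtain ⟨S', g, h, hfac, hflat, hlfp, hlqf, hsurj, haff⟩ := Groth.Agent.S2735.result f
  haveI : IsAffine S' := haff inferInstance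
  let e : S' ≅ Spec Γ(S', ⊤) := S'.isoSpec
  let g' : Spec Γ(S', ⊤) ⟶ Spec (CommRingCat.of A) := e.inv ≫ g
  let h' : Spec Γ(S', ⊤) ⟶ Spec (CommRingCat.of B) := e.inv ≫ h
  have hfac' : h' ≫ f = g' := by simp only [h', g', Category.assoc, hfac]
  set φ := Spec.preimage g' with hφ
  set ψ := Spec.preimage h' with hψ
  have hφg : Spec.map φ = g' := Spec.map_preimage g'
  have hψh : Spec.map ψ = h' := Spec.map_preimage h'
  have hcomp : CommRingCat.ofHom (algebraMap A B) ≫ ψ = φ := by
    apply Spec.map_injective
    rw [Spec.map_comp, hψh, hφg, ← hfac']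
  haveI : Flat g' := by simp only [g']; infer_instance
  haveI : LocallyOfFinitePresentation g' := by simp only [g']; infer_instance
  haveI : LocallyQuasiFinite g' := by simp only [g']; infer_instance
  haveI : Surjective g' := by simp only [g']; infer_instance
  have hφflat : φ.hom.Flat := by
    rw [← HasRingHomProperty.Spec_iff (P := @Flat), hφg]; infer_instance
  have hφfp : φ.hom.FinitePresentation := by
    rw [← HasRingHomProperty.Spec_iff (P := @LocallyOfFinitePresentation), hφg]; infer_instance
  have hφqf : φ.hom.QuasiFinite := by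
    rw [← HasRingHomProperty.Spec_iff (P := @LocallyQuasiFinite), hφg]; infer_instance
  have hφsurj : Function.Surjective (PrimeSpectrum.comap φ.hom) := by
    have : Function.Surjective (Spec.map φ).base := by
      rw [hφg]; exact Surjective.surj
    exact this
  have hψft : ψ.hom.FiniteType := by
    have h1 : (ψ.hom.comp (algebraMap A B)).FiniteType := by
      have : ψ.hom.comp (algebraMap A B) = φ.hom := by
        rw [← hcomp]; rfl
      rw [this]
      exact RingHom.FiniteType.of_finitePresentation hφfp
    exact RingHom.FiniteType.of_comp_finiteType h1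
  haveI : IsJacobsonRing Γ(S', ⊤) := hψft.isJacobsonRing
  algebraize [φ.hom]
  exact Groth.Agent.Lib.Helper13.JacDesc.isJacobsonRing_of_flat_finite_fibres (A := A) (R := Γ(S', ⊤))
    hφsurj (fun p => Algebra.QuasiFinite.finite_comap_preimage_singleton p)

end Groth.Agent.Lib.Helper13.JacDescMain
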