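import Mathlib
import Groth.Agent.Lib.Helper13.ComplDiff2

/-!
# Nagata's Jacobian criterion for power series rings, part 1 (helper13)

Derivations of a local ring `E` with a quotient `E ⧸ 𝔭` generically unramified over a power series
ring: `s₀ • d e` lies in the span of `d x_j`, `d 𝔭` and `𝔭 M`.
-/

namespace Groth.Agent.Lib.Helper13.NagataJac

open TensorProduct KaehlerDifferential IsLocalRing MvPowerSeries
  Groth.Agent.Lib.Helper76.PSComplete Groth.Agent.Lib.Helper13.ComplDiff

universe u

set_option linter.style.haveILetI false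
set_option linter.unusedSectionVars false

section Lift

/-- a derivation killing the kernel of a surjection descends -/
theorem exists_derivation_of_surjective {k E C Q : Type*} [CommRing k] [CommRing E] [CommRing C]
    [Algebra k E] [Algebra k C] [Algebra E C] [IsScalarTower k E C]
    [AddCommGroup Q] [Module E Q] [Module C Q] [IsScalarTower E C Q] [Module k Q]
    [IsScalarTower k E Q]
    (hsurj : Function.Surjective (algebraMap E C)) (d : Derivation k E Q)
    (hd : ∀ x, algebraMap E C x = 0 → d x = 0) :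
    ∃ d' : Derivation k C Q, ∀ e, d' (algebraMap E C e) = d e := by
  have hkey : ∀ e e', algebraMap E C e = algebraMap E C e' → d e = d e' := by
    intro e e' h
    have := hd (e - e') (by rw [map_sub, h, sub_self])
    rwa [map_sub, sub_eq_zero] at this
  let g : C → E := Function.surjInv hsurj
  have hg : ∀ c, algebraMap E C (g c) = c := Function.surjInv_eq hsurj
  let L : C →ₗ[k] Q :=
    { toFun := fun c => d (g c)
      map_add' := fun x y => by
        rw [← map_add]
        exact hkey _ _ (by rw [map_add, hg, hg, hg])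
      map_smul' := fun c x => by
        rw [RingHom.id_apply, ← Derivation.map_smul]
        exact hkey _ _ (by
          rw [hg, Algebra.smul_def, Algebra.smul_def, map_mul, hg,
            ← IsScalarTower.algebraMap_apply]) }
  refine ⟨Derivation.mk' L ?_, ?_⟩
  · intro a b
    show d (g (a * b)) = a • d (g b) + b • d (g a)
    have h1 : d (g (a * b)) = d (g a * g b) := hkey _ _ (by rw [map_mul, hg, hg, hg])
    rw [h1, Derivation.leibniz, ← algebraMap_smul C (g a), ← algebraMap_smul C (g b), hg, hg]
  · intro e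
    exact hkey _ _ (hg _)

end Lift

section G0

variable {k : Type u} [Field k] (s : ℕ) {C : Type u} [CommRing C] [IsLocalRing C]
  [IsNoetherianRing C] [Algebra k C]
  [Algebra (MvPowerSeries (Fin s) k) C] [IsScalarTower k (MvPowerSeries (Fin s) k) C]
  {Q : Type u} [AddCommGroup Q] [Module C Q] [Module k Q] [IsScalarTower k C Q] [Module.Finite C Q]

theorem smul_eq_zero_of_kaehler_killed
    (hloc : (varIdeal (Fin s) k).map (algebraMap (MvPowerSeries (Fin s) k) C) ≤ maximalIdeal C)
    (d : Derivation k C Q) (hX : ∀ j, d (algebraMap (MvPowerSeries (Fin s) k) C (X j)) = 0)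
    (s₀ : C) (hs₀ : ∀ ω : Ω[C⁄MvPowerSeries (Fin s) k], s₀ • ω = 0) (c : C) :
    s₀ • d c = 0 := by
  let P := MvPowerSeries (Fin s) k
  letI : Module P Q := Module.compHom Q (algebraMap P C)
  haveI : IsScalarTower P C Q := ⟨fun a b x => by
    show (a • b) • x = (algebraMap P C a) • (b • x)
    rw [Algebra.smul_def, mul_smul]⟩
  haveI : IsScalarTower k P Q := ⟨fun a b x => by
    show algebraMap P C (a • b) • x = a • (algebraMap P C b • x)
    rw [Algebra.smul_def, map_mul, ← IsScalarTower.algebraMap_apply, mul_smul, algebraMap_smul]⟩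
  -- d vanishes on the image of P
  have hP : ∀ F : P, d (algebraMap P C F) = 0 := by
    intro F
    have hmem : ∀ n, d (algebraMap P C F) ∈ (maximalIdeal C ^ n • ⊤ : Submodule C Q) := by
      intro n
      have h1 := U_le s d (maximalIdeal C) hloc n (Submodule.subset_span ⟨F, rfl⟩)
      have h2 : Submodule.span C (Set.range fun i : Fin s => d (algebraMap P C (X i))) = ⊥ := by
        rw [Submodule.span_eq_bot]; rintro _ ⟨i, rfl⟩; exact hX i
      rwa [h2, bot_sup_eq] at h1
    apply IsHausdorff.haus' (I := maximalIdeal C) (M := Q)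
    intro n
    rw [SModEq.zero]
    exact hmem n
  let dP : Derivation P C Q := Derivation.mk'
    { toFun := d
      map_add' := d.map_add
      map_smul' := fun F c => by
        rw [RingHom.id_apply, Algebra.smul_def, Derivation.leibniz, hP F, smul_zero, add_zero]
        rfl }
    (fun a b => d.leibniz a b)
  have h1 : dP.liftKaehlerDifferential (KaehlerDifferential.D P C c) = d c :=
    Derivation.liftKaehlerDifferential_comp_D dP c
  rw [← h1, ← map_smul, hs₀, map_zero]

end G0


section G

variable {k : Type u} [Field k] (s : ℕ) {E : Type u} [CommRing E] [IsLocalRing E]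
  [IsNoetherianRing E] [Algebra k E] (𝔭 : Ideal E) [𝔭.IsPrime] [IsLocalRing (E ⧸ 𝔭)]
  [Algebra (MvPowerSeries (Fin s) k) (E ⧸ 𝔭)] [IsScalarTower k (MvPowerSeries (Fin s) k) (E ⧸ 𝔭)]
  {M : Type u} [AddCommGroup M] [Module E M] [Module k M] [IsScalarTower k E M] [Module.Finite E M]

theorem smul_mem_of_kaehler_killed
    (hloc : (varIdeal (Fin s) k).map (algebraMap (MvPowerSeries (Fin s) k) (E ⧸ 𝔭)) ≤
      maximalIdeal (E ⧸ 𝔭))
    (d : Derivation k E M) (x : Fin s → E)
    (hx : ∀ j, Ideal.Quotient.mk 𝔭 (x j) =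
      algebraMap (MvPowerSeries (Fin s) k) (E ⧸ 𝔭) (X j))
    (s₀ : E) (hs₀ : ∀ ω : Ω[(E ⧸ 𝔭)⁄MvPowerSeries (Fin s) k], (Ideal.Quotient.mk 𝔭 s₀) • ω = 0)
    (e : E) :
    s₀ • d e ∈ Submodule.span E (Set.range fun j => d (x j)) ⊔
      Submodule.span E (d '' (𝔭 : Set E)) ⊔ (𝔭 • ⊤ : Submodule E M) := by
  set N : Submodule E M := Submodule.span E (Set.range fun j => d (x j)) ⊔
      Submodule.span E (d '' (𝔭 : Set E)) ⊔ (𝔭 • ⊤ : Submodule E M) with hN
  have htors : Module.IsTorsionBySet E (M ⧸ N) (𝔭 : Set E) := by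
    intro y a
    obtain ⟨m, rfl⟩ := Submodule.mkQ_surjective N y
    rw [← map_smul, Submodule.mkQ_apply, Submodule.Quotient.mk_eq_zero]
    exact le_sup_right (α := Submodule E M) (Submodule.smul_mem_smul a.2 Submodule.mem_top)
  letI : Module (E ⧸ 𝔭) (M ⧸ N) := htors.module
  haveI : IsScalarTower E (E ⧸ 𝔭) (M ⧸ N) := htors.isScalarTower
  haveI : IsScalarTower k (E ⧸ 𝔭) (M ⧸ N) := htors.isScalarTower
  haveI : Module.Finite (E ⧸ 𝔭) (M ⧸ N) := Module.Finite.of_restrictScalars_finite E _ _
  let dQ : Derivation k E (M ⧸ N) := N.mkQ.compDer d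
  have hdQ : ∀ a, dQ a = N.mkQ (d a) := fun a => rfl
  obtain ⟨d', hd'⟩ := exists_derivation_of_surjective (k := k) (E := E) (C := E ⧸ 𝔭)
    (Q := M ⧸ N) Ideal.Quotient.mk_surjective dQ (by
      intro a ha
      rw [Ideal.Quotient.algebraMap_eq, Ideal.Quotient.eq_zero_iff_mem] at ha
      rw [hdQ, Submodule.mkQ_apply, Submodule.Quotient.mk_eq_zero]
      exact le_sup_left (α := Submodule E M) (le_sup_right (α := Submodule E M)
        (Submodule.subset_span ⟨a, ha, rfl⟩)))
  have h0 := smul_eq_zero_of_kaehler_killed s hloc d' (by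
    intro j
    rw [← hx j, ← Ideal.Quotient.algebraMap_eq, hd', hdQ, Submodule.mkQ_apply,
      Submodule.Quotient.mk_eq_zero]
    exact le_sup_left (α := Submodule E M) (le_sup_left (α := Submodule E M)
        (Submodule.subset_span ⟨j, rfl⟩))) (Ideal.Quotient.mk 𝔭 s₀) hs₀
    (Ideal.Quotient.mk 𝔭 e)
  rw [← Ideal.Quotient.algebraMap_eq, hd', hdQ, algebraMap_smul, ← map_smul,
    Submodule.mkQ_apply, Submodule.Quotient.mk_eq_zero] at h0
  exact h0

end G

end Groth.Agent.Lib.Helper13.NagataJac
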