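import Mathlib
import Groth.Agent.Lib.Helper13.NagataJac1
import Groth.Agent.S0561
import Groth.Agent.S0564
import Groth.Agent.Lib.Helper64.CRingQuot
import Groth.Agent.Lib.Helper76.PSCRing
import Groth.Agent.Lib.Helper76.PSCohen
import Groth.Agent.Lib.Helper15.FlatEquidim
import Groth.Agent.Lib.Helper88.CMLift1

/-!
# Nagata's Jacobian criterion for power series rings, part 2 (helper13)

Regularity of `(A/q)_p` gives a Jacobian minor outside `p` (`A = k⟦T⟧`, `A/p` finite and generically
separable over a power series ring).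
-/

namespace Groth.Agent.Lib.Helper13.NagataJac

open TensorProduct KaehlerDifferential IsLocalRing MvPowerSeries
  Groth.Agent.Lib.Helper76.PSComplete Groth.Agent.Lib.Helper13.ComplDiff

universe u

set_option linter.style.haveILetI false
set_option linter.unusedSectionVars false

section G'

variable {k : Type u} [Field k] (s : ℕ) {E : Type u} [CommRing E] [IsLocalRing E]
  [IsNoetherianRing E] [Algebra k E] (𝔭 : Ideal E) [𝔭.IsPrime] [IsLocalRing (E ⧸ 𝔭)]
  [Algebra (MvPowerSeries (Fin s) k) (E ⧸ 𝔭)] [IsScalarTower k (MvPowerSeries (Fin s) k) (E ⧸ 𝔭)]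
  {M : Type u} [AddCommGroup M] [Module E M] [Module k M] [IsScalarTower k E M] [Module.Finite E M]

theorem map_derivation_mem_span
    (hloc : (varIdeal (Fin s) k).map (algebraMap (MvPowerSeries (Fin s) k) (E ⧸ 𝔭)) ≤
      maximalIdeal (E ⧸ 𝔭))
    (d : Derivation k E M) (x : Fin s → E)
    (hx : ∀ j, Ideal.Quotient.mk 𝔭 (x j) =
      algebraMap (MvPowerSeries (Fin s) k) (E ⧸ 𝔭) (X j))
    (s₀ : E) (hs₀𝔭 : s₀ ∉ 𝔭)
    (hs₀ : ∀ ω : Ω[(E ⧸ 𝔭)⁄MvPowerSeries (Fin s) k], (Ideal.Quotient.mk 𝔭 s₀) • ω = 0)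
    {κ : Type u} [Field κ] [Algebra E κ] (hker : RingHom.ker (algebraMap E κ) = 𝔭)
    {V : Type u} [AddCommGroup V] [Module κ V] [Module E V] [IsScalarTower E κ V]
    (ρ : M →ₗ[E] V) {h : ℕ} (g : Fin h → E)
    (hgen : ∀ y ∈ 𝔭, ∃ t, t ∉ 𝔭 ∧ t * y ∈ Ideal.span (Set.range g)) (hg : ∀ i, g i ∈ 𝔭) (e : E) :
    ρ (d e) ∈ Submodule.span κ (Set.range
      (Sum.elim (fun i => ρ (d (g i))) (fun j => ρ (d (x j))))) := by
  set W : Submodule κ V := Submodule.span κ (Set.range
      (Sum.elim (fun i => ρ (d (g i))) (fun j => ρ (d (x j))))) with hW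
  have hne : ∀ t : E, t ∉ 𝔭 → algebraMap E κ t ≠ 0 := by
    intro t ht h0
    exact ht (hker ▸ (RingHom.mem_ker.mpr h0))
  have hzero : ∀ t : E, t ∈ 𝔭 → algebraMap E κ t = 0 := by
    intro t ht
    rw [← hker] at ht
    exact RingHom.mem_ker.mp ht
  have hdiv : ∀ (t : E) (v : V), t ∉ 𝔭 → t • v ∈ W → v ∈ W := by
    intro t v ht hv
    rw [← algebraMap_smul κ t v] at hv
    exact (W.smul_mem_iff (hne t ht)).mp hv
  have hgW : ∀ i, ρ (d (g i)) ∈ W := fun i => Submodule.subset_span ⟨Sum.inl i, rfl⟩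
  have hxW : ∀ j, ρ (d (x j)) ∈ W := fun j => Submodule.subset_span ⟨Sum.inr j, rfl⟩
  have hsmulW : ∀ (a : E) (v : V), v ∈ W → a • v ∈ W := by
    intro a v hv
    rw [← algebraMap_smul κ a v]
    exact W.smul_mem _ hv
  have hkill : ∀ (a : E) (v : V), a ∈ 𝔭 → a • v = 0 := by
    intro a v ha
    rw [← algebraMap_smul κ a v, hzero a ha, zero_smul]
  -- Step A
  have hA : ∀ y ∈ 𝔭, ρ (d y) ∈ W := by
    intro y hy
    obtain ⟨t, ht, hty⟩ := hgen y hy
    obtain ⟨b, hb⟩ := (Ideal.mem_span_range_iff_exists_fun).mp hty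
    apply hdiv t _ ht
    have h1 : t • ρ (d y) = ρ (d (t * y)) - y • ρ (d t) := by
      rw [Derivation.leibniz, map_add, map_smul, map_smul]; abel
    rw [h1, hkill y _ hy, sub_zero, ← hb, map_sum, map_sum]
    refine Submodule.sum_mem _ fun i _ => ?_
    rw [Derivation.leibniz, map_add, map_smul, map_smul, hkill (g i) _ (hg i), add_zero]
    exact hsmulW _ _ (hgW i)
  -- Step B
  have hN := smul_mem_of_kaehler_killed s 𝔭 hloc d x hx s₀ hs₀ e
  have hle : Submodule.span E (Set.range fun j => d (x j)) ⊔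
      Submodule.span E (d '' (𝔭 : Set E)) ⊔ (𝔭 • ⊤ : Submodule E M) ≤
      (W.restrictScalars E).comap ρ := by
    refine sup_le (sup_le ?_ ?_) ?_
    · rw [Submodule.span_le]
      rintro _ ⟨j, rfl⟩
      exact hxW j
    · rw [Submodule.span_le]
      rintro _ ⟨y, hy, rfl⟩
      exact hA y hy
    · rw [Submodule.smul_le]
      intro a ha m _
      show ρ (a • m) ∈ W
      rw [map_smul, hkill a _ ha]
      exact W.zero_mem
  have h2 : ρ (s₀ • d e) ∈ W := hle hN
  rw [map_smul] at h2
  exact hdiv s₀ _ hs₀𝔭 h2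

end G'

section Killer

theorem exists_smul_eq_zero_of_subsingleton {R M M' : Type*} [CommRing R] [AddCommGroup M]
    [Module R M] [Module.Finite R M] [AddCommGroup M'] [Module R M'] (S : Submonoid R)
    (f : M →ₗ[R] M') [IsLocalizedModule S f] [Subsingleton M'] :
    ∃ t ∈ S, ∀ x : M, t • x = 0 := by
  classical
  obtain ⟨n, gen, hgen⟩ := Module.Finite.exists_fin (R := R) (M := M)
  have h1 : ∀ i, ∃ c : S, c • gen i = 0 := fun i =>
    (IsLocalizedModule.eq_zero_iff S f).mp (Subsingleton.elim _ _)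
  choose c hc using h1
  refine ⟨∏ i, (c i : R), Submonoid.prod_mem _ fun i _ => (c i).2, fun x => ?_⟩
  have hx : x ∈ Submodule.span R (Set.range gen) := by rw [hgen]; trivial
  induction hx using Submodule.span_induction with
  | mem y hy =>
    obtain ⟨i, rfl⟩ := hy
    rw [← Finset.mul_prod_erase Finset.univ _ (Finset.mem_univ i), mul_comm, mul_smul]
    have := hc i
    rw [Submonoid.smul_def] at this
    rw [this, smul_zero]
  | zero => rw [smul_zero]
  | add y z _ _ hy hz => rw [smul_add, hy, hz, add_zero]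
  | smul a y _ hy => rw [smul_comm, hy, smul_zero]

theorem exists_killer {P C L' L : Type u} [CommRing P] [CommRing C] [IsDomain C] [Algebra P C]
    [Module.Finite P C] [Field L'] [Field L] [Algebra P L'] [IsFractionRing P L']
    [Algebra C L] [IsFractionRing C L] [Algebra L' L] [Algebra P L]
    [IsScalarTower P C L] [IsScalarTower P L' L] [Algebra.IsSeparable L' L] :
    ∃ s₀ : C, s₀ ≠ 0 ∧ ∀ ω : Ω[C⁄P], s₀ • ω = 0 := by
  haveI : Algebra.FormallyUnramified P L' :=
    Algebra.FormallyUnramified.of_isLocalization (nonZeroDivisors P)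
  haveI : Algebra.FormallyUnramified L' L := Algebra.FormallyUnramified.of_isSeparable L' L
  haveI : Algebra.FormallyUnramified P L := Algebra.FormallyUnramified.comp P L' L
  haveI : Subsingleton (Ω[L⁄P]) := inferInstance
  obtain ⟨t, ht, h⟩ := exists_smul_eq_zero_of_subsingleton (nonZeroDivisors C)
    (KaehlerDifferential.map P P C L)
  exact ⟨t, nonZeroDivisors.ne_zero ht, h⟩

end Killer

section Params

theorem isRegularLocalRing_quotient_map {A : Type u} [CommRing A] (q p : Ideal A) [p.IsPrime]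
    (hqp : q ≤ p) [(p.map (Ideal.Quotient.mk q)).IsPrime]
    (hreg : IsRegularLocalRing (Localization.AtPrime (p.map (Ideal.Quotient.mk q)))) :
    IsRegularLocalRing
      (Localization.AtPrime p ⧸ q.map (algebraMap A (Localization.AtPrime p))) := by
  have hloc : IsLocalization (Algebra.algebraMapSubmonoid (A ⧸ q) p.primeCompl)
      (Localization.AtPrime p ⧸ q.map (algebraMap A (Localization.AtPrime p))) := inferInstance
  have hsub : Algebra.algebraMapSubmonoid (A ⧸ q) p.primeCompl =
      (p.map (Ideal.Quotient.mk q)).primeCompl := by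
    ext x
    obtain ⟨a, rfl⟩ := Ideal.Quotient.mk_surjective x
    constructor
    · rintro ⟨a', ha', haa'⟩
      show Ideal.Quotient.mk q a ∉ p.map (Ideal.Quotient.mk q)
      rw [← haa', Ideal.Quotient.algebraMap_eq, Ideal.mem_quotient_iff_mem hqp]
      exact ha'
    · intro ha
      refine ⟨a, ?_, rfl⟩
      intro hap
      exact ha (Ideal.mem_map_of_mem _ hap)
  rw [hsub] at hloc
  let e : Localization.AtPrime (p.map (Ideal.Quotient.mk q)) ≃ₐ[A ⧸ q]
      (Localization.AtPrime p ⧸ q.map (algebraMap A (Localization.AtPrime p))) :=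
    IsLocalization.algEquiv (p.map (Ideal.Quotient.mk q)).primeCompl _ _
  exact IsRegularLocalRing.of_ringEquiv e.toRingEquiv

theorem exists_params {A : Type u} [CommRing A] (q p : Ideal A) [p.IsPrime] (hqp : q ≤ p)
    [IsRegularLocalRing (Localization.AtPrime p)]
    [IsRegularLocalRing (Localization.AtPrime p ⧸ q.map (algebraMap A (Localization.AtPrime p)))] :
    ∃ (d c : ℕ) (hc : c ≤ d) (g : Fin d → A), ringKrullDim (Localization.AtPrime p) = d ∧
      (∀ i, g i ∈ p) ∧ (∀ i : Fin c, g (Fin.castLE hc i) ∈ q) ∧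
      (∀ y ∈ p, ∃ t, t ∉ p ∧ t * y ∈ Ideal.span (Set.range g)) ∧
      q.map (algebraMap A (Localization.AtPrime p)) =
        Ideal.span (Set.range fun i : Fin c =>
          algebraMap A (Localization.AtPrime p) (g (Fin.castLE hc i))) := by
  classical
  set R := Localization.AtPrime p with hR
  set φ := algebraMap A R with hφ
  set J := q.map φ with hJdef
  obtain ⟨d, hd⟩ : ∃ d : ℕ, ringKrullDim R = d :=
    ⟨(maximalIdeal R).spanFinrank, IsRegularLocalRing.spanFinrank_maximalIdeal.symm⟩
  obtain ⟨x, c, hc, hxm, hJ⟩ := Groth.Agent.S0561.result R d hd J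
  have hmem : ∀ i : Fin d, x i ∈ (if (i : ℕ) < c then q else p).map φ := by
    intro i
    split_ifs with hi
    · have : x i ∈ J := by
        rw [hJ]
        exact Ideal.subset_span ⟨⟨i, hi⟩, rfl⟩
      exact this
    · have : x i ∈ maximalIdeal R := by rw [← hxm]; exact Ideal.subset_span ⟨i, rfl⟩
      rwa [← Localization.AtPrime.map_eq_maximalIdeal] at this
  have h2 : ∀ i : Fin d, ∃ (a : A) (t : A), a ∈ (if (i : ℕ) < c then q else p) ∧ t ∉ p ∧
      x i * φ t = φ a := by
    intro i
    obtain ⟨⟨a, t⟩, h⟩ := (IsLocalization.mem_map_algebraMap_iff p.primeCompl R).mp (hmem i)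
    exact ⟨a, t, a.2, t.2, h⟩
  choose g t hgI htp hgt using h2
  have hunit : ∀ i, IsUnit (φ (t i)) := fun i => IsLocalization.map_units R (⟨t i, htp i⟩ : p.primeCompl)
  have hgp : ∀ i, g i ∈ p := by
    intro i
    have := hgI i
    split_ifs at this with hi
    · exact hqp this
    · exact this
  have hspan_eq : ∀ (ι : Type) (σ : ι → Fin d),
      Ideal.span (Set.range fun i => φ (g (σ i))) = Ideal.span (Set.range fun i => x (σ i)) := by
    intro ι σ
    apply le_antisymm
    · rw [Ideal.span_le]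
      rintro _ ⟨i, rfl⟩
      show φ (g (σ i)) ∈ _
      rw [← hgt]
      exact Ideal.mul_mem_right _ _ (Ideal.subset_span ⟨i, rfl⟩)
    · rw [Ideal.span_le]
      rintro _ ⟨i, rfl⟩
      show x (σ i) ∈ _
      have : x (σ i) = φ (g (σ i)) * ↑(hunit (σ i)).unit⁻¹ := by
        rw [← hgt, mul_assoc, IsUnit.mul_val_inv, mul_one]
      rw [this]
      exact Ideal.mul_mem_right _ _ (Ideal.subset_span ⟨i, rfl⟩)
  refine ⟨d, c, hc, g, hd, hgp, ?_, ?_, ?_⟩
  · intro i
    have := hgI (Fin.castLE hc i)
    rwa [if_pos (by simp)] at this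
  · intro y hy
    have h1 : φ y ∈ (Ideal.span (Set.range g)).map φ := by
      rw [Ideal.map_span, ← Set.range_comp]
      show φ y ∈ Ideal.span (Set.range fun i => φ (g (id i)))
      rw [hspan_eq (Fin d) id]
      show φ y ∈ Ideal.span (Set.range x)
      rw [hxm, ← Localization.AtPrime.map_eq_maximalIdeal]
      exact Ideal.mem_map_of_mem _ hy
    obtain ⟨⟨a, t'⟩, h⟩ := (IsLocalization.mem_map_algebraMap_iff p.primeCompl R).mp h1
    rw [← map_mul] at h
    obtain ⟨c', hc'⟩ := (IsLocalization.eq_iff_exists p.primeCompl R).mp h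
    refine ⟨((c' * t' : p.primeCompl) : A), (c' * t').2, ?_⟩
    have : ((c' * t' : p.primeCompl) : A) * y = c' * a := by
      rw [Submonoid.coe_mul, mul_assoc, mul_comm (t' : A) y, hc']
    rw [this]
    exact Ideal.mul_mem_left _ _ a.2
  · rw [hJ]
    exact (hspan_eq (Fin c) (Fin.castLE hc)).symm

end Params

section LinAlg

theorem exists_common_denominator {A : Type u} [CommRing A] (p : Ideal A) [p.IsPrime]
    {L : Type u} [Field L] [Algebra A L]
    (hfrac : ∀ z : L, ∃ a t : A, t ∉ p ∧ z * algebraMap A L t = algebraMap A L a)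
    {ι : Type*} [Fintype ι] (z : ι → L) :
    ∃ T : A, T ∉ p ∧ ∀ i, ∃ a : A, z i * algebraMap A L T = algebraMap A L a := by
  classical
  have key : ∀ s : Finset ι, ∃ T : A, T ∉ p ∧ ∀ i ∈ s, ∃ a : A,
      z i * algebraMap A L T = algebraMap A L a := by
    intro s
    induction s using Finset.induction_on with
    | empty => exact ⟨1, fun h => (Ideal.IsPrime.ne_top ‹_›) ((Ideal.eq_top_iff_one p).mpr h),
        fun i hi => absurd hi (Finset.notMem_empty i)⟩
    | insert i₀ s _ ih =>
      obtain ⟨T, hT, h⟩ := ih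
      obtain ⟨a₀, t₀, ht₀, h₀⟩ := hfrac (z i₀)
      refine ⟨T * t₀, fun hmem => ?_, fun i hi => ?_⟩
      · rcases Ideal.IsPrime.mem_or_mem ‹_› hmem with h1 | h1
        · exact hT h1
        · exact ht₀ h1
      · rw [Finset.mem_insert] at hi
        rcases hi with rfl | hi
        · exact ⟨a₀ * T, by rw [map_mul, map_mul, ← h₀]; ring⟩
        · obtain ⟨a, ha⟩ := h i hi
          exact ⟨a * t₀, by rw [map_mul, map_mul, ← ha]; ring⟩
  obtain ⟨T, hT, h⟩ := key Finset.univ
  exact ⟨T, hT, fun i => h i (Finset.mem_univ i)⟩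

theorem exists_matrix {A : Type u} [CommRing A] (p : Ideal A) [p.IsPrime] {L : Type u} [Field L]
    [Algebra A L]
    (hfrac : ∀ z : L, ∃ a t : A, t ∉ p ∧ z * algebraMap A L t = algebraMap A L a)
    {c r : ℕ} (v : Fin c → Fin r → L) (hv : LinearIndependent L v) :
    ∃ (b : Matrix (Fin c) (Fin r) A) (t : A), t ∉ p ∧
      ∀ i j, ∑ l, algebraMap A L (b i l) * v j l = if i = j then algebraMap A L t else 0 := by
  classical
  have hinj : Function.Injective (Fintype.linearCombination L v) :=
    linearIndependent_iff_injective_fintypeLinearCombination.mp hv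
  obtain ⟨β, hβ⟩ := (Fintype.linearCombination L v).exists_leftInverse_of_injective
    (LinearMap.ker_eq_bot.mpr hinj)
  have hβv : ∀ j, β (v j) = Pi.single j 1 := by
    intro j
    have h1 : Fintype.linearCombination L v (Pi.single j 1) = v j := by
      rw [Fintype.linearCombination_apply_single, one_smul]
    rw [← h1]
    exact LinearMap.congr_fun hβ _
  let bb : Matrix (Fin c) (Fin r) L := LinearMap.toMatrix' β
  have hbb : ∀ i j, ∑ l, bb i l * v j l = if i = j then 1 else 0 := by
    intro i j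
    have h1 : bb.mulVec (v j) = β (v j) := LinearMap.toMatrix'_mulVec β (v j)
    have h2 := congrFun h1 i
    rw [hβv, Pi.single_apply] at h2
    exact h2
  obtain ⟨T, hT, h⟩ := exists_common_denominator p hfrac (fun il : Fin c × Fin r => bb il.1 il.2)
  choose a ha using h
  refine ⟨Matrix.of fun i l => a (i, l), T, hT, fun i j => ?_⟩
  have h3 : ∀ l, algebraMap A L ((Matrix.of fun i l => a (i, l)) i l) * v j l =
      algebraMap A L T * (bb i l * v j l) := by
    intro l
    rw [Matrix.of_apply, ← ha (i, l)]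
    ring
  rw [Finset.sum_congr rfl fun l _ => h3 l, ← Finset.mul_sum, hbb]
  split_ifs <;> simp

end LinAlg

section CB

set_option maxHeartbeats 1600000 in
theorem jacobian_of_regular {k : Type u} [Field k] (r : ℕ)
    (q p : Ideal (MvPowerSeries (Fin r) k)) [p.IsPrime] (hqp : q ≤ p)
    [(p.map (Ideal.Quotient.mk q)).IsPrime]
    (s : ℕ) [Algebra (MvPowerSeries (Fin s) k) (MvPowerSeries (Fin r) k ⧸ p)]
    [IsScalarTower k (MvPowerSeries (Fin s) k) (MvPowerSeries (Fin r) k ⧸ p)]
    [Module.Finite (MvPowerSeries (Fin s) k) (MvPowerSeries (Fin r) k ⧸ p)]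
    (hinj : Function.Injective (algebraMap (MvPowerSeries (Fin s) k) (MvPowerSeries (Fin r) k ⧸ p)))
    {L' L : Type u} [Field L'] [Field L]
    [Algebra (MvPowerSeries (Fin s) k) L'] [IsFractionRing (MvPowerSeries (Fin s) k) L']
    [Algebra (MvPowerSeries (Fin r) k ⧸ p) L] [IsFractionRing (MvPowerSeries (Fin r) k ⧸ p) L]
    [Algebra L' L] [Algebra (MvPowerSeries (Fin s) k) L]
    [IsScalarTower (MvPowerSeries (Fin s) k) (MvPowerSeries (Fin r) k ⧸ p) L]
    [IsScalarTower (MvPowerSeries (Fin s) k) L' L] [Algebra.IsSeparable L' L]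
    (hreg : IsRegularLocalRing (Localization.AtPrime (p.map (Ideal.Quotient.mk q)))) :
    ∃ (m : ℕ) (D : Fin m → Derivation k (MvPowerSeries (Fin r) k) (MvPowerSeries (Fin r) k))
      (f : Fin m → MvPowerSeries (Fin r) k), (∀ i, f i ∈ q) ∧
      q.map (algebraMap (MvPowerSeries (Fin r) k) (Localization.AtPrime p)) =
        Ideal.span (Set.range fun i =>
          algebraMap (MvPowerSeries (Fin r) k) (Localization.AtPrime p) (f i)) ∧
      Matrix.det (Matrix.of fun i j => D i (f j)) ∉ p := by
  classical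
  let A := MvPowerSeries (Fin r) k
  let P' := MvPowerSeries (Fin s) k
  let C := A ⧸ p
  have hpne : p ≠ ⊤ := Ideal.IsPrime.ne_top'
  haveI : IsLocalRing C := Groth.Agent.Lib.Helper64.isLocalRing_quotient p hpne
  haveI : IsDomain C := Ideal.Quotient.isDomain p
  have hint : (algebraMap P' C).IsIntegral := algebraMap_isIntegral_iff.mpr inferInstance
  haveI hlh : IsLocalHom (algebraMap P' C) := hint.isLocalHom hinj
  have hloc : (varIdeal (Fin s) k).map (algebraMap P' C) ≤ maximalIdeal C :=
    (Ideal.map_mono Groth.Agent.Lib.Helper76.PSCRing.varIdeal_le_maximalIdeal).trans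
      (IsLocalRing.map_maximalIdeal_le (algebraMap P' C))
  -- killer
  obtain ⟨s₀', hs₀'ne, hs₀'⟩ := exists_killer (P := P') (C := C) (L' := L') (L := L)
  obtain ⟨s₀, rfl⟩ := Ideal.Quotient.mk_surjective s₀'
  have hs₀p : s₀ ∉ p := fun h => hs₀'ne (Ideal.Quotient.eq_zero_iff_mem.mpr h)
  -- lifts of the variables
  let xt : Fin s → A := fun j =>
    Function.surjInv Ideal.Quotient.mk_surjective (algebraMap P' C (X j))
  have hxt : ∀ j, Ideal.Quotient.mk p (xt j) = algebraMap P' C (X j) := fun j =>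
    Function.surjInv_eq _ _
  -- regular local rings
  haveI : IsRegularLocalRing (Localization.AtPrime p) := Groth.Agent.S0564.result A p
  haveI := isRegularLocalRing_quotient_map q p hqp hreg
  obtain ⟨d, c, hc, g, hd, hgp, hgq, hgen, hJ⟩ := exists_params q p hqp
  -- dimension count
  have hcount : d + s ≤ r := by
    have h1 : ringKrullDim (Localization.AtPrime p) = p.height :=
      IsLocalization.AtPrime.ringKrullDim_eq_height p _
    have h2 := Groth.Agent.Lib.Helper15.FlatEquidim.height_add_dim_quotient_le A p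
    have h3 : ringKrullDim A = r := Groth.Agent.Lib.Helper76.PSComplete.ringKrullDim_eq_card k r
    have h4 : ringKrullDim C = s := by
      rw [← Groth.Agent.Lib.Helper88.CMLift.ringKrullDim_eq_of_isIntegral_of_injective
        (algebraMap P' C) hint hinj]
      exact Groth.Agent.Lib.Helper76.PSComplete.ringKrullDim_eq_card k s
    rw [h1] at hd
    rw [hd, h4, h3] at h2
    exact_mod_cast h2
  -- the gradient derivation
  let grad : Derivation k A (Fin r → A) :=
    Derivation.mk' (LinearMap.pi fun l => (pderiv k l).toLinearMap) (by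
      intro a b
      ext l
      simp [Derivation.leibniz])
  have hgrad : ∀ a l, grad a l = pderiv k l a := fun a l => rfl
  letI : Algebra A L := ((algebraMap C L).comp (Ideal.Quotient.mk p)).toAlgebra
  have halg : ∀ a : A, algebraMap A L a = algebraMap C L (Ideal.Quotient.mk p a) := fun a => rfl
  have hker : RingHom.ker (algebraMap A L) = p := by
    ext a
    rw [RingHom.mem_ker, halg, map_eq_zero_iff _ (IsFractionRing.injective C L),
      Ideal.Quotient.eq_zero_iff_mem]
  let ρ : (Fin r → A) →ₗ[A] (Fin r → L) := (Algebra.linearMap A L).compLeft (Fin r)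
  have hρ : ∀ v l, ρ v l = algebraMap A L (v l) := fun v l => rfl
  have hmem := map_derivation_mem_span s p hloc grad xt hxt s₀ hs₀p hs₀' hker ρ g hgen hgp
  set w : Fin d ⊕ Fin s → (Fin r → L) :=
    Sum.elim (fun i => ρ (grad (g i))) (fun j => ρ (grad (xt j))) with hw
  have hX : ∀ l, ρ (grad (X l)) = Pi.single l 1 := by
    intro l
    ext l'
    rw [hρ, hgrad]
    by_cases h : l' = l
    · subst h
      rw [pderiv_X_self, map_one, Pi.single_eq_same]
    · rw [pderiv_X_of_ne (Ne.symm h), map_zero, Pi.single_eq_of_ne h]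
  have hW : Submodule.span L (Set.range w) = ⊤ := by
    rw [eq_top_iff, ← (Pi.basisFun L (Fin r)).span_eq, Submodule.span_le]
    rintro _ ⟨l, rfl⟩
    rw [Pi.basisFun_apply, ← hX l]
    exact hmem (X l)
  have hcard : Fintype.card (Fin d ⊕ Fin s) = Module.finrank L (Fin r → L) := by
    rw [Fintype.card_sum, Fintype.card_fin, Fintype.card_fin, Module.finrank_fin_fun]
    have h1 := finrank_le_of_span_eq_top hW
    rw [Fintype.card_sum, Fintype.card_fin, Fintype.card_fin, Module.finrank_fin_fun] at h1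
    omega
  have hli : LinearIndependent L w :=
    linearIndependent_of_top_le_span_of_card_eq_finrank hW.ge hcard
  let f : Fin c → A := fun j => g (Fin.castLE hc j)
  let v : Fin c → (Fin r → L) := fun j => ρ (grad (f j))
  have hv : LinearIndependent L v := by
    have := hli.comp (fun j : Fin c => (Sum.inl (Fin.castLE hc j) : Fin d ⊕ Fin s))
      (fun a b hab => Fin.castLE_injective hc (Sum.inl_injective hab))
    exact this
  have hfrac : ∀ z : L, ∃ a t : A, t ∉ p ∧ z * algebraMap A L t = algebraMap A L a := by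
    intro z
    obtain ⟨⟨c', t'⟩, h⟩ := IsLocalization.surj (nonZeroDivisors C) z
    obtain ⟨a, ha⟩ := Ideal.Quotient.mk_surjective c'
    obtain ⟨t, ht⟩ := Ideal.Quotient.mk_surjective (t' : C)
    refine ⟨a, t, fun htp => ?_, ?_⟩
    · have : (t' : C) = 0 := by rw [← ht]; exact Ideal.Quotient.eq_zero_iff_mem.mpr htp
      exact nonZeroDivisors.ne_zero t'.2 this
    · rw [halg, halg, ha, ht]
      exact h
  obtain ⟨b, T, hT, hb⟩ := exists_matrix p hfrac v hv
  let D : Fin c → Derivation k A A := fun i =>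
    ((LinearMap.proj i : (Fin c → A) →ₗ[A] A) ∘ₗ (Matrix.mulVecLin b)).compDer grad
  have hD : ∀ i a, D i a = ∑ l, b i l * pderiv k l a := by
    intro i a
    show (b.mulVec (grad a)) i = _
    rw [Matrix.mulVec, dotProduct]
    rfl
  refine ⟨c, D, f, hgq, hJ, fun hdet => ?_⟩
  have h1 : algebraMap A L (Matrix.det (Matrix.of fun i j => D i (f j))) = 0 := by
    rw [← RingHom.mem_ker, hker]; exact hdet
  rw [RingHom.map_det] at h1
  have h2 : (algebraMap A L).mapMatrix (Matrix.of fun i j => D i (f j)) =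
      algebraMap A L T • (1 : Matrix (Fin c) (Fin c) L) := by
    ext i j
    rw [RingHom.mapMatrix_apply, Matrix.map_apply, Matrix.of_apply, hD, map_sum,
      Matrix.smul_apply, Matrix.one_apply, smul_eq_mul, mul_ite, mul_one, mul_zero, ← hb i j]
    refine Finset.sum_congr rfl fun l _ => ?_
    rw [map_mul]
    rfl
  rw [h2, Matrix.det_smul, Matrix.det_one, mul_one, Fintype.card_fin] at h1
  have h3 : algebraMap A L T = 0 := pow_eq_zero_iff (n := c) ?_ |>.mp h1
  · exact hT (hker ▸ RingHom.mem_ker.mpr h3)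
  · intro hc0
    subst hc0
    simp at h1

end CB

end Groth.Agent.Lib.Helper13.NagataJac
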