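import Mathlib
import Groth.Prelude.Def_CAlgX

/-!
# Nagata's Jacobian criterion for power series rings, part 3 (helper13)

A Jacobian minor outside `p` makes `(A/q)_p` formally smooth as soon as `A_p` is.
-/

namespace Groth.Agent.Lib.Helper13.NagataJac

open IsLocalRing

universe u

set_option linter.style.haveILetI false
set_option linter.unusedSectionVars false

section BA

set_option maxHeartbeats 1600000 in
theorem isAdicFormallySmooth_of_jacobian {k A : Type u} [Field k] [CommRing A] [Algebra k A]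
    (q p : Ideal A) [p.IsPrime] (hqp : q ≤ p) [(p.map (Ideal.Quotient.mk q)).IsPrime]
    (hR : CAlgX.IsAdicFormallySmooth k (Localization.AtPrime p)
      (maximalIdeal (Localization.AtPrime p)))
    (m : ℕ) (D : Fin m → Derivation k A A) (f : Fin m → A) (hf : ∀ i, f i ∈ q)
    (hspan : q.map (algebraMap A (Localization.AtPrime p)) =
      Ideal.span (Set.range fun i => algebraMap A (Localization.AtPrime p) (f i)))
    (hdet : Matrix.det (Matrix.of fun i j => D i (f j)) ∉ p) :
    CAlgX.IsAdicFormallySmooth k (Localization.AtPrime (p.map (Ideal.Quotient.mk q)))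
      (maximalIdeal (Localization.AtPrime (p.map (Ideal.Quotient.mk q)))) := by
  classical
  intro T _ _ N hN ψ ⟨c, hc⟩
  set R := Localization.AtPrime p with hRdef
  set φ : A →+* R := algebraMap A R with hφ
  set pb := p.map (Ideal.Quotient.mk q) with hpb
  set Bp := Localization.AtPrime pb with hBp
  have hcomap : p = pb.comap (Ideal.Quotient.mk q) := by
    rw [hpb, Ideal.comap_map_of_surjective _ Ideal.Quotient.mk_surjective,
      ← RingHom.ker_eq_comap_bot, Ideal.mk_ker]
    exact (sup_eq_left.mpr hqp).symm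
  let π₀ : R →+* Bp := Localization.localRingHom p pb (Ideal.Quotient.mk q) hcomap
  have hπ₀ : ∀ a, π₀ (φ a) = algebraMap (A ⧸ q) Bp (Ideal.Quotient.mk q a) := fun a =>
    Localization.localRingHom_to_map _ _ _ _ a
  haveI : IsLocalHom π₀ := Localization.isLocalHom_localRingHom _ _ _ hcomap
  let π : R →ₐ[k] Bp := { π₀ with
    commutes' := fun z => by
      show π₀ (algebraMap k R z) = algebraMap k Bp z
      rw [IsScalarTower.algebraMap_apply k A R, hπ₀,
        IsScalarTower.algebraMap_apply k (A ⧸ q) Bp]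
      rfl }
  have hπ : ∀ x, π x = π₀ x := fun x => rfl
  -- lift along R
  have hkill : ∀ x ∈ maximalIdeal R ^ c, (ψ.comp π) x = 0 := by
    intro x hx
    rw [AlgHom.comp_apply]
    apply hc
    have h1 : π₀ x ∈ (maximalIdeal R ^ c).map π₀ := Ideal.mem_map_of_mem _ hx
    rw [Ideal.map_pow] at h1
    exact Ideal.pow_right_mono (IsLocalRing.map_maximalIdeal_le π₀) c h1
  obtain ⟨χ₀, hχ₀⟩ := hR T N hN (ψ.comp π) ⟨c, hkill⟩
  have hχ₀' : ∀ x, Ideal.Quotient.mk N (χ₀ x) = ψ (π x) := fun x =>
    DFunLike.congr_fun hχ₀ x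
  let u : A →+* T := (χ₀ : R →+* T).comp φ
  have hu : ∀ a, u a = χ₀ (φ a) := fun a => rfl
  -- n_j ∈ N
  have hn : ∀ j, u (f j) ∈ N := by
    intro j
    rw [← Ideal.Quotient.eq_zero_iff_mem, hu, hχ₀', hπ, hπ₀,
      Ideal.Quotient.eq_zero_iff_mem.mpr (hf j), map_zero, map_zero]
  -- the matrix
  set Mx : Matrix (Fin m) (Fin m) T := u.mapMatrix (Matrix.of fun i j => D i (f j)) with hMx
  have hMxdet : IsUnit Mx.det := by
    rw [hMx, ← RingHom.map_det]
    have h1 : IsUnit (φ (Matrix.det (Matrix.of fun i j => D i (f j)))) :=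
      IsLocalization.map_units R (⟨_, hdet⟩ : p.primeCompl)
    exact h1.map χ₀
  let cc : Fin m → T := Matrix.vecMul (fun j => - u (f j)) Mx⁻¹
  have hccN : ∀ i, cc i ∈ N := by
    intro i
    show Matrix.vecMul (fun j => - u (f j)) Mx⁻¹ i ∈ N
    rw [Matrix.vecMul, dotProduct]
    exact Ideal.sum_mem _ fun j _ => Ideal.mul_mem_right _ _ (N.neg_mem (hn j))
  have hccM : Matrix.vecMul cc Mx = fun j => - u (f j) := by
    show Matrix.vecMul (Matrix.vecMul _ Mx⁻¹) Mx = _
    rw [Matrix.vecMul_vecMul, Matrix.nonsing_inv_mul _ hMxdet, Matrix.vecMul_one]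
  have hNN : ∀ x y : T, x ∈ N → y ∈ N → x * y = 0 := by
    intro x y hx hy
    have : x * y ∈ N ^ 2 := by rw [pow_two]; exact Ideal.mul_mem_mul hx hy
    rwa [hN, Ideal.mem_bot] at this
  let δ : A → T := fun a => ∑ i, cc i * u (D i a)
  have hδN : ∀ a, δ a ∈ N := fun a =>
    Ideal.sum_mem _ fun i _ => Ideal.mul_mem_right _ _ (hccN i)
  have hδadd : ∀ a b, δ (a + b) = δ a + δ b := by
    intro a b
    show ∑ i, cc i * u (D i (a + b)) = _
    rw [← Finset.sum_add_distrib]
    refine Finset.sum_congr rfl fun i _ => ?_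
    rw [map_add, map_add, mul_add]
  have hδmul : ∀ a b, δ (a * b) = u a * δ b + u b * δ a := by
    intro a b
    show ∑ i, cc i * u (D i (a * b)) = u a * ∑ i, cc i * u (D i b) + u b * ∑ i, cc i * u (D i a)
    rw [Finset.mul_sum, Finset.mul_sum, ← Finset.sum_add_distrib]
    refine Finset.sum_congr rfl fun i _ => ?_
    rw [Derivation.leibniz, smul_eq_mul, smul_eq_mul, map_add, map_mul, map_mul]
    ring
  let χA : A →ₐ[k] T :=
    { toFun := fun a => u a + δ a
      map_one' := by
        show u 1 + ∑ i, cc i * u (D i 1) = 1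
        rw [map_one]
        simp
      map_mul' := fun a b => by
        show u (a * b) + δ (a * b) = (u a + δ a) * (u b + δ b)
        rw [hδmul, map_mul]
        have := hNN _ _ (hδN a) (hδN b)
        linear_combination -this
      map_zero' := by
        show u 0 + ∑ i, cc i * u (D i 0) = 0
        simp
      map_add' := fun a b => by
        show u (a + b) + δ (a + b) = (u a + δ a) + (u b + δ b)
        rw [hδadd, map_add]; ring
      commutes' := fun z => by
        show u (algebraMap k A z) + ∑ i, cc i * u (D i (algebraMap k A z)) = algebraMap k T z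
        rw [hu, ← IsScalarTower.algebraMap_apply k A R, AlgHom.commutes]
        simp }
  have hχA : ∀ a, χA a = u a + δ a := fun a => rfl
  -- units
  have hunit : ∀ t : p.primeCompl, IsUnit (χA.toRingHom t) := by
    intro t
    show IsUnit (u t + δ t)
    refine IsNilpotent.isUnit_add_left_of_commute ⟨2, ?_⟩ ?_ (Commute.all _ _)
    · rw [pow_two]; exact hNN _ _ (hδN _) (hδN _)
    · exact (IsLocalization.map_units R t).map χ₀
  let χ : R →+* T := IsLocalization.lift (M := p.primeCompl) hunit
  have hχ : ∀ a, χ (φ a) = χA a := fun a => IsLocalization.lift_eq hunit a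
  have hχf : ∀ j, χ (φ (f j)) = 0 := by
    intro j
    rw [hχ, hχA]
    have h1 := congrFun hccM j
    rw [Matrix.vecMul, dotProduct] at h1
    have h2 : δ (f j) = ∑ i, cc i * Mx i j := by
      refine Finset.sum_congr rfl fun i _ => ?_
      rw [hMx, RingHom.mapMatrix_apply, Matrix.map_apply, Matrix.of_apply]
    rw [h2, h1]
    ring
  have hχq : ∀ a ∈ q, χA a = 0 := by
    intro a ha
    rw [← hχ]
    have h1 : φ a ∈ q.map φ := Ideal.mem_map_of_mem _ ha
    rw [hφ, hspan] at h1
    have h2 : Ideal.span (Set.range fun i => algebraMap A R (f i)) ≤ RingHom.ker χ := by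
      rw [Ideal.span_le]
      rintro _ ⟨j, rfl⟩
      exact hχf j
    exact h2 h1
  let χB : A ⧸ q →+* T := Ideal.Quotient.lift q χA.toRingHom hχq
  have hχB : ∀ a, χB (Ideal.Quotient.mk q a) = χA a := fun a => Ideal.Quotient.lift_mk q _ _
  have hunitB : ∀ t : pb.primeCompl, IsUnit (χB t) := by
    intro t
    obtain ⟨a, ha⟩ := Ideal.Quotient.mk_surjective (t : A ⧸ q)
    rw [← ha, hχB]
    have hap : a ∉ p := by
      intro hap
      apply t.2
      rw [← ha]
      exact Ideal.mem_map_of_mem _ hap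
    exact hunit ⟨a, hap⟩
  let χb₀ : Bp →+* T := IsLocalization.lift (M := pb.primeCompl) hunitB
  have hχb₀ : ∀ b, χb₀ (algebraMap (A ⧸ q) Bp b) = χB b := fun b =>
    IsLocalization.lift_eq hunitB b
  let χb : Bp →ₐ[k] T := { χb₀ with
    commutes' := fun z => by
      show χb₀ (algebraMap k Bp z) = algebraMap k T z
      rw [IsScalarTower.algebraMap_apply k (A ⧸ q) Bp, hχb₀]
      have : algebraMap k (A ⧸ q) z = Ideal.Quotient.mk q (algebraMap k A z) := rfl
      rw [this, hχB, AlgHom.commutes] }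
  refine ⟨χb, ?_⟩
  apply AlgHom.coe_ringHom_injective
  apply IsLocalization.ringHom_ext pb.primeCompl
  apply Ideal.Quotient.ringHom_ext
  ext a
  show Ideal.Quotient.mk N (χb₀ (algebraMap (A ⧸ q) Bp (Ideal.Quotient.mk q a))) =
    ψ (algebraMap (A ⧸ q) Bp (Ideal.Quotient.mk q a))
  rw [hχb₀, hχB, hχA, map_add, Ideal.Quotient.eq_zero_iff_mem.mpr (hδN a), add_zero, hu, hχ₀',
    hπ, hπ₀]

end BA

end Groth.Agent.Lib.Helper13.NagataJac
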