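import Mathlib
import Groth.Prelude.Def_CAlgX
import Groth.Agent.Lib.Helper13.FSLift

/-!
# Lifting through nilpotent extensions via adic formal smoothness (helper13)
-/

set_option autoImplicit false

namespace Groth.Agent.Lib.Helper13.NilLift

universe u

variable {k₀ A : Type u} [CommRing k₀] [CommRing A] [Algebra k₀ A] {𝔫 : Ideal A}

theorem lift_of_ker_eq_bot {C C' : Type u} [CommRing C] [CommRing C'] (g : C →+* C')
    (hg : Function.Surjective g) (hker : RingHom.ker g = ⊥)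
    (θ : k₀ →+* C) (ψ₀ : A →+* C') (hcomm : ∀ x, ψ₀ (algebraMap k₀ A x) = g (θ x)) :
    ∃ χ : A →+* C, (∀ a, g (χ a) = ψ₀ a) ∧ ∀ x, χ (algebraMap k₀ A x) = θ x := by
  have hinj : Function.Injective g := (RingHom.injective_iff_ker_eq_bot g).mpr hker
  let e : C ≃+* C' := RingEquiv.ofBijective g ⟨hinj, hg⟩
  refine ⟨e.symm.toRingHom.comp ψ₀, fun a => ?_, fun x => ?_⟩
  · show g (e.symm (ψ₀ a)) = ψ₀ a
    exact e.apply_symm_apply (ψ₀ a)
  · show e.symm (ψ₀ (algebraMap k₀ A x)) = θ x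
    rw [hcomm, RingEquiv.symm_apply_eq]
    rfl

/-- lifting through a nilpotent extension -/
theorem exists_lift_nilpotent (hfs : CAlgX.IsAdicFormallySmooth k₀ A 𝔫) :
    ∀ (m : ℕ) {C C' : Type u} [CommRing C] [CommRing C'] (g : C →+* C')
      (_ : Function.Surjective g) (_ : RingHom.ker g ^ m = ⊥)
      (θ : k₀ →+* C) (ψ₀ : A →+* C') (_ : ∀ x, ψ₀ (algebraMap k₀ A x) = g (θ x))
      (_ : ∃ j : ℕ, ∀ a ∈ 𝔫 ^ j, ψ₀ a = 0),
      ∃ χ : A →+* C, (∀ a, g (χ a) = ψ₀ a) ∧ ∀ x, χ (algebraMap k₀ A x) = θ x := by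
  intro m
  induction m with
  | zero =>
    intro C C' _ _ g hg hker θ ψ₀ hcomm _
    refine lift_of_ker_eq_bot g hg ?_ θ ψ₀ hcomm
    rw [pow_zero, Ideal.one_eq_top] at hker
    exact le_bot_iff.mp (hker ▸ le_top)
  | succ m ih =>
    intro C C' _ _ g hg hker θ ψ₀ hcomm hcont
    rcases Nat.eq_zero_or_pos m with rfl | hm
    · rw [zero_add, pow_one] at hker
      exact lift_of_ker_eq_bot g hg hker θ ψ₀ hcomm
    set K := RingHom.ker g with hK
    let π : C →+* C ⧸ K ^ m := Ideal.Quotient.mk (K ^ m)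
    have hle : K ^ m ≤ K := Ideal.pow_le_self (Nat.pos_iff_ne_zero.mp hm)
    let g₁ : C ⧸ K ^ m →+* C' := Ideal.Quotient.lift (K ^ m) g (fun x hx => hle hx)
    have hg₁π : ∀ c, g₁ (π c) = g c := fun c => rfl
    have hg₁ : Function.Surjective g₁ := fun y => by
      obtain ⟨c, rfl⟩ := hg y
      exact ⟨π c, rfl⟩
    have hkerg₁ : RingHom.ker g₁ = K.map π := by
      apply le_antisymm
      · intro y hy
        obtain ⟨c, rfl⟩ := Ideal.Quotient.mk_surjective y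
        exact Ideal.mem_map_of_mem π (show c ∈ K from hy)
      · rw [Ideal.map_le_iff_le_comap]
        intro c hc
        exact hc
    have hkerg₁m : RingHom.ker g₁ ^ m = ⊥ := by
      rw [hkerg₁, ← Ideal.map_pow]
      exact Ideal.map_quotient_self _
    obtain ⟨χ₁, hχ₁, hχ₁θ⟩ := ih g₁ hg₁ hkerg₁m (π.comp θ) ψ₀ (fun x => by
      rw [hcomm]; rfl) hcont
    have hkerπ : RingHom.ker π ^ 2 = ⊥ := by
      rw [Ideal.mk_ker, ← pow_mul, eq_bot_iff, ← hker]
      exact Ideal.pow_le_pow_right (by omega)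
    have hcont₁ : ∃ j : ℕ, ∀ a ∈ 𝔫 ^ j, χ₁ a = 0 := by
      obtain ⟨j, hj⟩ := hcont
      refine ⟨j * m, fun a ha => ?_⟩
      have h1 : (𝔫 ^ j).map χ₁ ≤ RingHom.ker g₁ := by
        rw [Ideal.map_le_iff_le_comap]
        intro b hb
        show g₁ (χ₁ b) = 0
        rw [hχ₁, hj b hb]
      have h2 : a ∈ (𝔫 ^ j) ^ m := by rwa [← pow_mul]
      have h3 : χ₁ a ∈ ((𝔫 ^ j) ^ m).map χ₁ := Ideal.mem_map_of_mem χ₁ h2
      rw [Ideal.map_pow] at h3
      have h4 := Ideal.pow_right_mono h1 m h3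
      rw [hkerg₁m] at h4
      exact h4
    obtain ⟨χ, hχ, hχθ⟩ := FSLift.exists_lift hfs π Ideal.Quotient.mk_surjective hkerπ θ χ₁
      (fun x => hχ₁θ x) hcont₁
    refine ⟨χ, fun a => ?_, hχθ⟩
    rw [← hg₁π, hχ, hχ₁]

end Groth.Agent.Lib.Helper13.NilLift
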