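import Mathlib
import Groth.Agent.Lib.Helper13.LIChain

/-!
# Completion of a module whose truncations are flat with finite residual rank is finite free
-/

set_option autoImplicit false

namespace Groth.Agent.Lib.Helper13.OmegaHat

open IsLocalRing TensorProduct Groth.Agent.Lib.Helper13.Fred

section Transfer

variable {A Q K C V ι : Type*} [CommRing A] [CommRing Q] [Field K] [Field C] [Algebra A Q]
  [Algebra Q C] [Algebra A C] [IsScalarTower A Q C] [Algebra A K] [Algebra K C]
  [IsScalarTower A K C] [AddCommGroup V] [Module A V]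

theorem linearIndependent_tmul_tmul_iff (v : ι → V) :
    LinearIndependent C (fun i => (1 : C) ⊗ₜ[Q] ((1 : Q) ⊗ₜ[A] v i)) ↔
      LinearIndependent K (fun i => (1 : K) ⊗ₜ[A] v i) := by
  let c₀ := TensorProduct.AlgebraTensorModule.cancelBaseChange A K C C V
  let c₁ := TensorProduct.AlgebraTensorModule.cancelBaseChange A Q C C V
  let Ψ : C ⊗[K] (K ⊗[A] V) →ₗ[C] C ⊗[Q] (Q ⊗[A] V) :=
    c₁.symm.toLinearMap ∘ₗ c₀.toLinearMap
  have hΨ : Function.Injective Ψ := c₁.symm.injective.comp c₀.injective
  have hrel : (fun i => (1 : C) ⊗ₜ[Q] ((1 : Q) ⊗ₜ[A] v i)) =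
      Ψ ∘ fun i => (1 : C) ⊗ₜ[K] ((1 : K) ⊗ₜ[A] v i) := by
    funext i
    show _ = c₁.symm (c₀ ((1 : C) ⊗ₜ[K] ((1 : K) ⊗ₜ[A] v i)))
    rw [TensorProduct.AlgebraTensorModule.cancelBaseChange_tmul, one_smul,
      TensorProduct.AlgebraTensorModule.cancelBaseChange_symm_tmul]
  rw [hrel, LinearMap.linearIndependent_iff Ψ (LinearMap.ker_eq_bot.mpr hΨ),
    linearIndependent_one_tmul_iff]

end Transfer

section Main

universe u

variable {A : Type u} [CommRing A] [IsLocalRing A] {M : Type u} [AddCommGroup M] [Module A M]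
  {N : ℕ} (ω : Fin N → M)

theorem linearIndependent_quotient
    (hflat : ∀ n, Module.Flat (A ⧸ maximalIdeal A ^ n) ((A ⧸ maximalIdeal A ^ n) ⊗[A] M))
    (hli : LinearIndependent (ResidueField A) (fun i => (1 : ResidueField A) ⊗ₜ[A] ω i))
    (n : ℕ) (hn : n ≠ 0) :
    LinearIndependent (A ⧸ maximalIdeal A ^ n)
      (fun i => (1 : A ⧸ maximalIdeal A ^ n) ⊗ₜ[A] ω i) := by
  have hne : maximalIdeal A ^ n ≠ ⊤ := by
    intro h
    have : (1 : A) ∈ maximalIdeal A ^ n := h ▸ Submodule.mem_top
    exact (Ideal.ne_top_iff_one _).mp (maximalIdeal.isMaximal A).ne_top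
      (Ideal.pow_le_self hn this)
  haveI : Nontrivial (A ⧸ maximalIdeal A ^ n) := Ideal.Quotient.nontrivial_iff.mpr hne
  haveI : IsLocalRing (A ⧸ maximalIdeal A ^ n) :=
    IsLocalRing.of_surjective' (Ideal.Quotient.mk _) Ideal.Quotient.mk_surjective
  haveI : IsLocalHom (algebraMap A (A ⧸ maximalIdeal A ^ n)) :=
    IsLocalHom.of_surjective _ Ideal.Quotient.mk_surjective
  haveI := hflat n
  refine Module.IsLocalRing.linearIndependent_of_flat _ ?_
  exact (linearIndependent_tmul_tmul_iff (K := ResidueField A)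
    (C := ResidueField (A ⧸ maximalIdeal A ^ n)) (Q := A ⧸ maximalIdeal A ^ n) ω).mpr hli

theorem tmul_linearCombination (I : Ideal A) (x : Fin N → A) :
    (1 : A ⧸ I) ⊗ₜ[A] (Fintype.linearCombination A ω x) =
      ∑ i, Ideal.Quotient.mk I (x i) • ((1 : A ⧸ I) ⊗ₜ[A] ω i) := by
  rw [Fintype.linearCombination_apply, TensorProduct.tmul_sum]
  refine Finset.sum_congr rfl fun i _ => ?_
  rw [TensorProduct.tmul_smul, TensorProduct.smul_tmul', TensorProduct.smul_tmul',
    Algebra.smul_def, mul_one, smul_eq_mul, mul_one]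
  rfl

theorem reduceModIdeal_injective
    (hflat : ∀ n, Module.Flat (A ⧸ maximalIdeal A ^ n) ((A ⧸ maximalIdeal A ^ n) ⊗[A] M))
    (hli : LinearIndependent (ResidueField A) (fun i => (1 : ResidueField A) ⊗ₜ[A] ω i))
    (n : ℕ) :
    Function.Injective
      ((Fintype.linearCombination A ω).reduceModIdeal (maximalIdeal A ^ n)) := by
  by_cases hn : n = 0
  · subst hn
    haveI : Subsingleton ((Fin N → A) ⧸
        (maximalIdeal A ^ 0 • ⊤ : Submodule A (Fin N → A))) := by
      rw [pow_zero, Ideal.one_eq_top, Submodule.top_smul]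
      exact Submodule.Quotient.subsingleton_iff.mpr rfl
    exact Function.injective_of_subsingleton _
  · have hLI := linearIndependent_quotient ω hflat hli n hn
    rw [injective_iff_map_eq_zero]
    intro y hy
    obtain ⟨x, rfl⟩ := Submodule.Quotient.mk_surjective _ y
    rw [LinearMap.reduceModIdeal_apply, Submodule.Quotient.mk_eq_zero] at hy
    rw [← LinearMap.ker_tensorProductMk (Q := M) (I := maximalIdeal A ^ n), LinearMap.mem_ker,
      TensorProduct.mk_apply, tmul_linearCombination] at hy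
    have hx : ∀ i, x i ∈ maximalIdeal A ^ n := fun i =>
      Ideal.Quotient.eq_zero_iff_mem.mp (Fintype.linearIndependent_iff.mp hLI _ hy i)
    rw [Submodule.Quotient.mk_eq_zero, pi_eq_sum_univ x]
    refine Submodule.sum_mem _ fun i _ => ?_
    exact Submodule.smul_mem_smul (hx i) Submodule.mem_top

theorem mkQ_comp_surjective
    (hsp : Submodule.span (ResidueField A)
      (Set.range fun i => (1 : ResidueField A) ⊗ₜ[A] ω i) = ⊤) :
    Function.Surjective ((Submodule.mkQ (maximalIdeal A • ⊤ : Submodule A M)) ∘ₗ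
      (Fintype.linearCombination A ω)) := by
  intro y'
  obtain ⟨y, rfl⟩ := Submodule.Quotient.mk_surjective _ y'
  have hy : (1 : ResidueField A) ⊗ₜ[A] y ∈ Submodule.span (ResidueField A)
      (Set.range fun i => (1 : ResidueField A) ⊗ₜ[A] ω i) := hsp ▸ Submodule.mem_top
  rw [Submodule.mem_span_range_iff_exists_fun] at hy
  obtain ⟨c, hc⟩ := hy
  choose a ha using fun i => residue_surjective (c i)
  refine ⟨a, ?_⟩
  rw [LinearMap.comp_apply, Submodule.mkQ_apply, Submodule.Quotient.eq,
    ← LinearMap.ker_tensorProductMk (Q := M) (I := maximalIdeal A), LinearMap.mem_ker, map_sub,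
    TensorProduct.mk_apply, TensorProduct.mk_apply, tmul_linearCombination, sub_eq_zero]
  refine Eq.trans ?_ hc
  refine Finset.sum_congr rfl fun i _ => ?_
  rw [← ha i]
  rfl

theorem map_bijective
    (hflat : ∀ n, Module.Flat (A ⧸ maximalIdeal A ^ n) ((A ⧸ maximalIdeal A ^ n) ⊗[A] M))
    (hli : LinearIndependent (ResidueField A) (fun i => (1 : ResidueField A) ⊗ₜ[A] ω i))
    (hsp : Submodule.span (ResidueField A)
      (Set.range fun i => (1 : ResidueField A) ⊗ₜ[A] ω i) = ⊤) :
    Function.Bijective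
      (AdicCompletion.map (maximalIdeal A) (Fintype.linearCombination A ω)) := by
  constructor
  · rw [injective_iff_map_eq_zero]
    intro x hx
    refine AdicCompletion.ext fun n => ?_
    have h1 : (AdicCompletion.map (maximalIdeal A) (Fintype.linearCombination A ω) x).val n = 0 := by
      rw [hx]; rfl
    rw [AdicCompletion.map_val_apply] at h1
    rw [AdicCompletion.val_zero_apply]
    exact reduceModIdeal_injective ω hflat hli n (h1.trans (map_zero _).symm)
  · exact AdicCompletion.map_surjective_of_mkQ_comp_surjective (mkQ_comp_surjective ω hsp)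

/-- **the completion is finite free** -/
theorem exists_linearEquiv [IsAdicComplete (maximalIdeal A) A]
    (hflat : ∀ n, Module.Flat (A ⧸ maximalIdeal A ^ n) ((A ⧸ maximalIdeal A ^ n) ⊗[A] M))
    (hli : LinearIndependent (ResidueField A) (fun i => (1 : ResidueField A) ⊗ₜ[A] ω i))
    (hsp : Submodule.span (ResidueField A)
      (Set.range fun i => (1 : ResidueField A) ⊗ₜ[A] ω i) = ⊤) :
    Nonempty ((Fin N → A) ≃ₗ[A] AdicCompletion (maximalIdeal A) M) := by
  let e₁ : (Fin N → A) ≃ₗ[A] (Fin N → AdicCompletion (maximalIdeal A) A) :=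
    LinearEquiv.piCongrRight fun _ => AdicCompletion.ofLinearEquiv (maximalIdeal A) A
  let e₂ : (Fin N → AdicCompletion (maximalIdeal A) A) ≃ₗ[A]
      AdicCompletion (maximalIdeal A) (Fin N → A) :=
    ((AdicCompletion.piEquivFin (maximalIdeal A) N).restrictScalars A).symm
  let e₃ : AdicCompletion (maximalIdeal A) (Fin N → A) ≃ₗ[A] AdicCompletion (maximalIdeal A) M :=
    LinearEquiv.ofBijective
      ((AdicCompletion.map (maximalIdeal A) (Fintype.linearCombination A ω)).restrictScalars A)
      (map_bijective ω hflat hli hsp)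
  exact ⟨e₁.trans (e₂.trans e₃)⟩

end Main

end Groth.Agent.Lib.Helper13.OmegaHat
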