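import Mathlib
import Groth.Agent.Lib.Helper13.PBasis

/-!
# Extension of (additive) derivations along an algebra with a `p`-basis
-/

set_option autoImplicit false

namespace Groth.Agent.Lib.Helper13.PBasis

open MvPolynomial

section CoeffDer

variable {R B ι L : Type*} [CommRing R] [CommRing B]
  [AddCommGroup L] [Module B L]

/-- coefficientwise map: `∑ a_g X^g ↦ ∑ x^g • D a_g`. -/
noncomputable def coeffDer (x : ι → B) (D : R →+ L) : MvPolynomial ι R →+ L :=
  (Finsupp.liftAddHom (fun g : ι →₀ ℕ =>
     (DistribSMul.toAddMonoidHom L (g.prod fun i n => x i ^ n)).comp D)).comp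
    (AddMonoidAlgebra.coeffAddEquiv (R := R) (M := ι →₀ ℕ)).toAddMonoidHom

lemma coeffDer_monomial (x : ι → B) (D : R →+ L) (g : ι →₀ ℕ) (a : R) :
    coeffDer x D (monomial g a) = (g.prod fun i n => x i ^ n) • D a := by
  simp only [coeffDer, AddMonoidHom.coe_comp, Function.comp_apply]
  erw [show (AddMonoidAlgebra.coeffAddEquiv (R := R) (M := ι →₀ ℕ)) (monomial g a) =
    Finsupp.single g a from rfl]
  rw [Finsupp.liftAddHom_apply_single]
  rfl

end CoeffDer

section IntDer

variable (p : ℕ) [hp : Fact p.Prime] {R B ι : Type*} [CommRing R] [CommRing B] [Algebra R B]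

/-- **Extension of an additive derivation of `R` to `B`** (with value `0` on the `p`-basis),
provided it kills the `c^q`. -/
theorem exists_int_derivation (x : ι → B) (c : ι → R)
    (hc : ∀ i, algebraMap R B (c i) = x i ^ p)
    (hind : LinearIndependent R (fun e : RedE p ι => (e.1.prod fun i n => x i ^ n)))
    (hgen : Submodule.span R (Set.range fun e : RedE p ι => (e.1.prod fun i n => x i ^ n)) = ⊤)
    {L : Type*} [AddCommGroup L] [Module R L] [Module B L] [IsScalarTower R B L]
    (D : Derivation ℤ R L) (hD : ∀ q : ι →₀ ℕ, D (cpow c q) = 0) :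
    ∃ D₁ : Derivation ℤ B L, (∀ a, D₁ (algebraMap R B a) = D a) ∧ ∀ i, D₁ (x i) = 0 := by
  let π : MvPolynomial ι R →ₐ[R] B := aeval x
  let T : MvPolynomial ι R →+ L := coeffDer x (D : R →+ L)
  have hTm : ∀ g a, T (monomial g a) = (g.prod fun i n => x i ^ n) • D a :=
    fun g a => coeffDer_monomial x _ g a
  have hπm : ∀ g a, π (monomial g a) = algebraMap R B a * (g.prod fun i n => x i ^ n) :=
    fun g a => aeval_monomial x g a
  have hleib : ∀ f h, T (f * h) = π f • T h + π h • T f := by
    intro f h
    induction f using MvPolynomial.induction_on' with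
    | add f₁ f₂ h₁ h₂ =>
      rw [add_mul, map_add, h₁, h₂, map_add, map_add, add_smul, smul_add]; abel
    | monomial g a =>
      induction h using MvPolynomial.induction_on' with
      | add f₁ f₂ h₁ h₂ =>
        rw [mul_add, map_add, h₁, h₂, map_add, map_add, add_smul, smul_add]; abel
      | monomial g' a' =>
        rw [monomial_mul, hTm, hTm, hTm, hπm, hπm, Derivation.leibniz,
          Finsupp.prod_add_index' (by simp) (by intros; rw [pow_add])]
        simp only [smul_add, ← algebraMap_smul B a, ← algebraMap_smul B a', smul_smul]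
        congr 2 <;> ring
  have hker : ∀ f, π f = 0 → T f = 0 := by
    intro f hf
    refine eq_zero_of_aeval_eq_zero p x c hc hind T ?_ f hf
    intro g a
    rw [hTm, hTm, Derivation.leibniz, hD, smul_zero, zero_add, ← algebraMap_smul B (cpow c _),
      algebraMap_cpow p c x hc, smul_smul]
    congr 1
    conv_rhs => rw [← div_add_mod p g]
    rw [Finsupp.prod_add_index' (by simp) (by intros; rw [pow_add]), mul_comm]
    congr 1
    rw [Finsupp.prod_of_support_subset (p • divE p g) (s := (divE p g).support)
      Finsupp.support_smul _ (by simp)]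
    simp only [Finsupp.prod, ← Finset.prod_pow, Finsupp.smul_apply, smul_eq_mul, ← pow_mul,
      mul_comm]
  obtain ⟨D₁, hD₁⟩ := exists_derivation_descend (R := ℤ) (π.toRingHom.toIntAlgHom)
    (aeval_surjective p x hgen) T.toIntLinearMap
    (by
      show T 1 = 0
      have : (1 : MvPolynomial ι R) = monomial 0 1 := rfl
      rw [this, hTm, Derivation.map_one_eq_zero, smul_zero])
    (fun f g => hleib f g) hker
  refine ⟨D₁, fun a => ?_, fun i => ?_⟩
  · have := hD₁ (C a)
    rw [show (π.toRingHom.toIntAlgHom) (C a) = algebraMap R B a from aeval_C x a] at this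
    rw [this]
    show T (monomial 0 a) = _
    rw [hTm, Finsupp.prod_zero_index, one_smul]
  · have := hD₁ (X i)
    rw [show (π.toRingHom.toIntAlgHom) (X i) = x i from aeval_X x i] at this
    rw [this]
    show T (monomial _ 1) = _
    rw [hTm, Derivation.map_one_eq_zero, smul_zero]

/-- uniqueness of extensions of derivations -/
theorem int_derivation_ext (x : ι → B)
    (hgen : Submodule.span R (Set.range fun e : RedE p ι => (e.1.prod fun i n => x i ^ n)) = ⊤)
    {L : Type*} [AddCommGroup L] [Module B L]
    (D₁ D₂ : Derivation ℤ B L) (h1 : ∀ a, D₁ (algebraMap R B a) = D₂ (algebraMap R B a))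
    (h2 : ∀ i, D₁ (x i) = D₂ (x i)) : D₁ = D₂ := by
  ext b
  obtain ⟨f, rfl⟩ := aeval_surjective p x hgen b
  induction f using MvPolynomial.induction_on with
  | C a => rw [aeval_C]; exact h1 a
  | add f g hf hg => rw [map_add, map_add, map_add, hf, hg]
  | mul_X f i hf => rw [map_mul, aeval_X, Derivation.leibniz, Derivation.leibniz, hf, h2]

end IntDer

end Groth.Agent.Lib.Helper13.PBasis
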