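import Mathlib

/-!
# Subrings `k'[[T^p]]` of `k[[T]]` (helper13)

For a subfield `k'` of a field `k` and `p ≠ 0`, `SF p hp k'` is the subring of `MvPowerSeries σ k`
of power series with coefficients in `k'` and exponents divisible by `p` (the range of
`expand p ∘ map`).  If `k` is finite over `k'` then `k[[T]]` is finite free over it.
-/

namespace Groth.Agent.Lib.Helper13.PSFrob

open MvPowerSeries
open scoped Classical

universe u v w

section General

variable (p : ℕ) (hp : p ≠ 0) {k : Type u} [Field k] {σ : Type v} [Finite σ] (k' : Subfield k)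

/-- `h ↦ h(T^p)` with coefficients pushed into `k` -/
noncomputable def Phi : MvPowerSeries σ k' →+* MvPowerSeries σ k :=
  ((expand p hp : MvPowerSeries σ k →ₐ[k] MvPowerSeries σ k) :
    MvPowerSeries σ k →+* MvPowerSeries σ k).comp (MvPowerSeries.map k'.subtype)

lemma Phi_apply (h : MvPowerSeries σ k') :
    Phi p hp k' h = expand p hp (MvPowerSeries.map k'.subtype h) := rfl

lemma coeff_Phi_smul (h : MvPowerSeries σ k') (m : σ →₀ ℕ) :
    coeff (p • m) (Phi p hp k' h) = ((coeff m h : k') : k) := by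
  rw [Phi_apply, coeff_expand_smul, coeff_map]; rfl

lemma coeff_Phi_of_not_dvd (h : MvPowerSeries σ k') {m : σ →₀ ℕ} {i : σ} (hi : ¬ p ∣ m i) :
    coeff m (Phi p hp k' h) = 0 := by
  rw [Phi_apply]; exact coeff_expand_of_not_dvd p hp _ hi

/-- quotient exponent -/
noncomputable def dv (n : σ →₀ ℕ) : σ →₀ ℕ := n.mapRange (· / p) (Nat.zero_div p)

omit [Finite σ] in
lemma dv_apply (n : σ →₀ ℕ) (i : σ) : dv p n i = n i / p := by simp [dv]

omit [Finite σ] in
lemma eq_smul_dv {n : σ →₀ ℕ} (h : ∀ i, p ∣ n i) : n = p • dv p n := by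
  ext i
  simp only [Finsupp.coe_smul, Pi.smul_apply, dv_apply, smul_eq_mul]
  exact (Nat.mul_div_cancel' (h i)).symm

lemma coeff_Phi_mem (h : MvPowerSeries σ k') (n : σ →₀ ℕ) : coeff n (Phi p hp k' h) ∈ k' := by
  by_cases hn : ∀ i, p ∣ n i
  · rw [eq_smul_dv p hn, coeff_Phi_smul]; exact (coeff _ h).2
  · obtain ⟨i, hi⟩ := not_forall.mp hn
    rw [coeff_Phi_of_not_dvd p hp k' h hi]; exact zero_mem _

/-- the subring `k'[[T^p]]` -/
noncomputable def SF : Subring (MvPowerSeries σ k) := (Phi p hp k').range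

lemma mem_SF_iff (f : MvPowerSeries σ k) :
    f ∈ SF p hp k' ↔ ∀ n, coeff n f ∈ k' ∧ (coeff n f ≠ 0 → ∀ i, p ∣ n i) := by
  constructor
  · rintro ⟨h, rfl⟩ n
    refine ⟨coeff_Phi_mem p hp k' h n, fun hne i => ?_⟩
    by_contra hi
    exact hne (coeff_Phi_of_not_dvd p hp k' h hi)
  · intro hf
    refine ⟨fun m => ⟨coeff (p • m) f, (hf _).1⟩, ?_⟩
    ext n
    by_cases hn : ∀ i, p ∣ n i
    · rw [eq_smul_dv p hn, coeff_Phi_smul]; rfl
    · have h0 : coeff n f = 0 := by
        by_contra h0; exact hn ((hf n).2 h0)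
      obtain ⟨i, hi⟩ := not_forall.mp hn
      rw [coeff_Phi_of_not_dvd p hp k' _ hi, h0]

lemma Phi_injective : Function.Injective (Phi p hp k' (σ := σ)) := by
  intro h h' hh
  ext m
  have := congrArg (coeff (p • m)) hh
  rw [coeff_Phi_smul, coeff_Phi_smul] at this
  exact this

instance isNoetherianRing_SF : IsNoetherianRing (SF p hp k' (σ := σ)) := by
  haveI : IsNoetherianRing (MvPowerSeries σ k') := MvPowerSeries.isNoetherianRing _
  exact isNoetherianRing_of_surjective _ _ (Phi p hp k' (σ := σ)).rangeRestrict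
    (Phi p hp k' (σ := σ)).rangeRestrict_surjective

lemma coeff_Phi_mul_monomial (h : MvPowerSeries σ k') (e : σ →₀ ℕ) (he : ∀ j, e j < p) (c : k)
    (n : σ →₀ ℕ) :
    coeff n (Phi p hp k' h * monomial e c) =
      if (∀ j, n j % p = e j) then ((coeff (dv p n) h : k') : k) * c else 0 := by
  rw [coeff_mul_monomial]
  by_cases hc : ∀ j, n j % p = e j
  · have hle : e ≤ n := fun j => by rw [← hc j]; exact Nat.mod_le _ _
    have hsub : n - e = p • dv p n := by
      ext j
      simp only [Finsupp.coe_tsub, Pi.sub_apply, Finsupp.coe_smul, Pi.smul_apply, dv_apply,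
        smul_eq_mul]
      rw [← hc j]
      have := Nat.div_add_mod (n j) p
      omega
    rw [if_pos hle, if_pos hc, hsub, coeff_Phi_smul]
  · rw [if_neg hc]
    split_ifs with hle
    · obtain ⟨j, hj⟩ := not_forall.mp hc
      have hnd : ¬ p ∣ (n - e) j := by
        intro hd
        apply hj
        obtain ⟨q, hq⟩ := hd
        have h1 : n j = e j + p * q := by
          have := hle j
          simp only [Finsupp.coe_tsub, Pi.sub_apply] at hq
          omega
        rw [h1, Nat.add_mul_mod_self_left, Nat.mod_eq_of_lt (he j)]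
      rw [coeff_Phi_of_not_dvd p hp k' h hnd, zero_mul]
    · rfl

end General

section Basis

variable (p : ℕ) (hp : p ≠ 0) {k : Type u} [Field k] {σ : Type v} [Finite σ] (k' : Subfield k)
  {I : Type w} [Finite I] (b : Module.Basis I k' k)

/-- exponent vector of `e : σ → Fin p` -/
noncomputable def toE (e : σ → Fin p) : σ →₀ ℕ :=
  Finsupp.equivFunOnFinite.symm (fun j => (e j : ℕ))

lemma toE_apply (e : σ → Fin p) (j : σ) : toE p e j = (e j : ℕ) := rfl

lemma toE_lt (e : σ → Fin p) (j : σ) : toE p e j < p := (e j).2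

/-- residue exponent -/
def md (n : σ →₀ ℕ) : σ → Fin p := fun j => ⟨n j % p, Nat.mod_lt _ (Nat.pos_of_ne_zero hp)⟩

omit [Finite σ] in
lemma md_apply (n : σ →₀ ℕ) (j : σ) : (md p hp n j : ℕ) = n j % p := rfl

lemma forall_mod_iff (n : σ →₀ ℕ) (e : σ → Fin p) :
    (∀ j, n j % p = toE p e j) ↔ e = md p hp n := by
  constructor
  · intro h; funext j; apply Fin.ext; rw [md_apply, h j, toE_apply]
  · rintro rfl j; rfl

lemma smul_dv_add_md (n : σ →₀ ℕ) : p • dv p n + toE p (md p hp n) = n := by
  ext j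
  simp only [Finsupp.coe_add, Finsupp.coe_smul, Pi.add_apply, Pi.smul_apply, dv_apply,
    smul_eq_mul, toE_apply, md_apply]
  exact Nat.div_add_mod (n j) p

lemma md_smul_add (m : σ →₀ ℕ) (e : σ → Fin p) : md p hp (p • m + toE p e) = e := by
  funext j; apply Fin.ext
  simp only [md_apply, Finsupp.coe_add, Finsupp.coe_smul, Pi.add_apply, Pi.smul_apply,
    smul_eq_mul, toE_apply]
  rw [Nat.mul_add_mod, Nat.mod_eq_of_lt (e j).2]

include hp in
lemma dv_smul_add (m : σ →₀ ℕ) (e : σ → Fin p) : dv p (p • m + toE p e) = m := by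
  ext j
  simp only [dv_apply, Finsupp.coe_add, Finsupp.coe_smul, Pi.add_apply, Pi.smul_apply,
    smul_eq_mul, toE_apply]
  rw [Nat.mul_add_div (Nat.pos_of_ne_zero hp), Nat.div_eq_of_lt (e j).2, add_zero]

/-- the candidate basis vectors `b_i T^e` -/
noncomputable def vec (j : I × (σ → Fin p)) : MvPowerSeries σ k :=
  monomial (toE p j.2) (b j.1)

/-- coefficient of a combination -/
lemma coeff_sum_vec [Fintype I] [Fintype (σ → Fin p)] (h : I × (σ → Fin p) → MvPowerSeries σ k')
    (n : σ →₀ ℕ) :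
    coeff n (∑ j, Phi p hp k' (h j) * vec p k' b j) =
      ∑ i, ((coeff (dv p n) (h (i, md p hp n)) : k') : k) * b i := by
  rw [map_sum, Fintype.sum_prod_type]
  refine Finset.sum_congr rfl fun i _ => ?_
  simp only [vec]
  simp_rw [coeff_Phi_mul_monomial p hp k' _ _ (toE_lt p _), forall_mod_iff p hp]
  rw [Finset.sum_ite_eq' Finset.univ (md p hp n)]
  simp

theorem linearIndependent_vec : LinearIndependent (SF p hp k' (σ := σ)) (vec p k' b (σ := σ)) := by
  haveI := Fintype.ofFinite I
  haveI : Fintype (σ → Fin p) := Fintype.ofFinite _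
  rw [Fintype.linearIndependent_iff]
  intro g hg
  have hex : ∀ j, ∃ h, Phi p hp k' h = (g j : MvPowerSeries σ k) := fun j => (g j).2
  choose h hh using hex
  have hg' : ∑ j, Phi p hp k' (h j) * vec p k' b j = 0 := by
    rw [← hg]
    refine Finset.sum_congr rfl fun j _ => ?_
    rw [hh j]; rfl
  have hz : ∀ i e m, coeff m (h (i, e)) = 0 := by
    intro i e m
    have h1 := congrArg (coeff (p • m + toE p e)) hg'
    rw [coeff_sum_vec, map_zero, md_smul_add, dv_smul_add p hp] at h1
    have h2 : ∑ i, (coeff m (h (i, e))) • b i = 0 := by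
      rw [← h1]
      refine Finset.sum_congr rfl fun i _ => ?_
      rfl
    exact Fintype.linearIndependent_iff.mp b.linearIndependent _ h2 i
  rintro ⟨i, e⟩
  apply Subtype.ext
  rw [← hh (i, e)]
  have : h (i, e) = 0 := by
    ext m; rw [hz i e m]; rfl
  rw [this, map_zero]; rfl

theorem span_vec : ⊤ ≤ Submodule.span (SF p hp k' (σ := σ)) (Set.range (vec p k' b (σ := σ))) := by
  haveI := Fintype.ofFinite I
  haveI : Fintype (σ → Fin p) := Fintype.ofFinite _
  intro f _
  let h : I × (σ → Fin p) → MvPowerSeries σ k' :=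
    fun j m => b.repr (coeff (p • m + toE p j.2) f) j.1
  have key : f = ∑ j, (⟨Phi p hp k' (h j), ⟨_, rfl⟩⟩ : SF p hp k') • vec p k' b j := by
    have : ∑ j, (⟨Phi p hp k' (h j), ⟨_, rfl⟩⟩ : SF p hp k') • vec p k' b j =
        ∑ j, Phi p hp k' (h j) * vec p k' b j := Finset.sum_congr rfl fun j _ => rfl
    rw [this]
    ext n
    rw [coeff_sum_vec]
    have h3 : ∀ i, ((coeff (dv p n) (h (i, md p hp n)) : k') : k) * b i =
        (b.repr (coeff n f) i) • b i := by
      intro i
      show ((b.repr (coeff (p • dv p n + toE p (md p hp n)) f) i : k') : k) * b i = _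
      rw [smul_dv_add_md]; rfl
    simp_rw [h3]
    exact (b.sum_repr _).symm
  rw [key]
  exact Submodule.sum_mem _ fun j _ => Submodule.smul_mem _ _ (Submodule.subset_span ⟨j, rfl⟩)

/-- `k[[T]]` is free over `k'[[T^p]]` on the `b_i T^e` -/
noncomputable def basisVec :
    Module.Basis (I × (σ → Fin p)) (SF p hp k' (σ := σ)) (MvPowerSeries σ k) :=
  Module.Basis.mk (linearIndependent_vec p hp k' b) (span_vec p hp k' b)

theorem free_SF [Module.Finite k' k] :
    Module.Free (SF p hp k' (σ := σ)) (MvPowerSeries σ k) :=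
  Module.Free.of_basis (basisVec p hp k' (Module.finBasis k' k))

theorem finite_SF [Module.Finite k' k] :
    Module.Finite (SF p hp k' (σ := σ)) (MvPowerSeries σ k) :=
  Module.Finite.of_basis (basisVec p hp k' (Module.finBasis k' k))

end Basis

section Closure

/-- if `A` is faithfully flat over a subring `S`, then `A ∩ Frac S = S` inside `Frac A` -/
theorem mem_of_algebraMap_mem_closure {A K : Type*} [CommRing A] [IsDomain A] [Field K]
    [Algebra A K] [IsFractionRing A K] (S : Subring A) [Module.FaithfullyFlat S A] (u : A)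
    (hu : algebraMap A K u ∈ Subfield.closure (algebraMap A K '' (S : Set A))) : u ∈ S := by
  rw [Subfield.mem_closure_iff] at hu
  obtain ⟨y, hy, z, hz, hyz⟩ := hu
  have hcl : Subring.closure (algebraMap A K '' (S : Set A)) = S.map (algebraMap A K) := by
    rw [← Subring.coe_map, Subring.closure_eq]
  rw [hcl] at hy hz
  obtain ⟨s, hs, rfl⟩ := hy
  obtain ⟨t, ht, rfl⟩ := hz
  have hinj := IsFractionRing.injective A K
  by_cases ht0 : t = 0
  · subst ht0
    rw [map_zero, div_zero] at hyz
    have : u = 0 := hinj (by rw [← hyz, map_zero])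
    rw [this]; exact zero_mem _
  · have ht0' : algebraMap A K t ≠ 0 := fun h => ht0 (hinj (by rw [h, map_zero]))
    have h1 : u * t = s := by
      apply hinj; rw [map_mul, ← hyz, div_mul_cancel₀ _ ht0']
    have h2 : (⟨s, hs⟩ : S) ∈
        ((Ideal.span {(⟨t, ht⟩ : S)}).map (algebraMap S A)).comap (algebraMap S A) := by
      rw [Ideal.mem_comap, Ideal.map_span, Set.image_singleton]
      show s ∈ Ideal.span {t}
      rw [Ideal.mem_span_singleton']; exact ⟨u, h1⟩
    rw [Ideal.comap_map_eq_self_of_faithfullyFlat, Ideal.mem_span_singleton'] at h2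
    obtain ⟨a, ha⟩ := h2
    have h3 : (a : A) * t = s := congrArg Subtype.val ha
    have : u = a := mul_right_cancel₀ ht0 (h1.trans h3.symm)
    rw [this]; exact a.2

end Closure

section Frob

variable (p : ℕ) (hp : p ≠ 0) {k : Type u} [Field k] [ExpChar k p] {σ : Type v} [Finite σ]
  (k' : Subfield k)

theorem pow_mem_SF (hk' : ∀ y : k, y ^ p ∈ k') (a : MvPowerSeries σ k) : a ^ p ∈ SF p hp k' := by
  rw [mem_SF_iff, ← map_frobenius_expand p hp]
  intro n
  rw [coeff_map, frobenius_def]
  refine ⟨hk' _, fun hne i => ?_⟩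
  by_contra hi
  apply hne
  rw [coeff_expand_of_not_dvd p hp a hi, zero_pow hp]

include hp in
theorem exists_pow_eq (u : MvPowerSeries σ k) (h1 : ∀ n, ∃ y : k, y ^ p = coeff n u)
    (h2 : ∀ n, coeff n u ≠ 0 → ∀ i, p ∣ n i) : ∃ w : MvPowerSeries σ k, w ^ p = u := by
  choose y hy using h1
  refine ⟨fun m => y (p • m), ?_⟩
  rw [← map_frobenius_expand p hp]
  ext n
  rw [coeff_map, frobenius_def]
  by_cases hn : ∀ i, p ∣ n i
  · rw [eq_smul_dv p hn, coeff_expand_smul]
    exact hy _
  · have h0 : coeff n u = 0 := by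
      by_contra h0; exact hn (h2 n h0)
    obtain ⟨i, hi⟩ := not_forall.mp hn
    rw [coeff_expand_of_not_dvd p hp _ hi, h0, zero_pow hp]

end Frob

end Groth.Agent.Lib.Helper13.PSFrob
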