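import Mathlib
import Groth.Agent.Lib.Helper13.PBasisField

/-!
# `(k₀(K₀^p))((T)) = k₀(K₀^p((T)))` (helper13, EGA 0_IV 21.8.?)
-/

namespace Groth.Agent.Lib.Helper13.PSFrob

open MvPowerSeries Groth.Agent.Lib.Helper13.PBasis

universe u

variable (p : ℕ) [hp : Fact p.Prime] {k₀ K₀ : Type u} [Field k₀] [Field K₀] [Algebra k₀ K₀]

/-- Lemma A: `k₀(K₀^p)` is spanned over `K₀^p` by the images of generators of `k₀` over `k₀^p`. -/
theorem mem_span_of_mem_closure {n : ℕ} (c : Fin n → k₀)
    (hc : Submodule.span (Subfield.closure (Set.range fun x : k₀ => x ^ p)) (Set.range c) = ⊤)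
    (x : K₀)
    (hx : x ∈ Subfield.closure (Set.range (algebraMap k₀ K₀) ∪ Set.range fun y : K₀ => y ^ p)) :
    x ∈ Submodule.span (Subfield.closure (Set.range fun y : K₀ => y ^ p))
      (Set.range fun i => algebraMap k₀ K₀ (c i)) := by
  set E' : Subfield K₀ := Subfield.closure (Set.range fun y : K₀ => y ^ p) with hE'
  set F' : Subfield k₀ := Subfield.closure (Set.range fun x : k₀ => x ^ p) with hF'
  -- the subalgebra generated by `k₀`
  let M : Subalgebra E' K₀ := Algebra.adjoin E' (Set.range (algebraMap k₀ K₀))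
  have hpow : ∀ y : K₀, y ^ p ∈ M := fun y =>
    M.algebraMap_mem (⟨y ^ p, Subfield.subset_closure ⟨y, rfl⟩⟩ : E')
  have hfield : IsField M := isField_of_pow_mem p M hpow
  have hle : Subfield.closure (Set.range (algebraMap k₀ K₀) ∪ Set.range fun y : K₀ => y ^ p) ≤
      (Subalgebra.toIntermediateField' M hfield).toSubfield := by
    rw [Subfield.closure_le]
    rintro y (hy | ⟨z, rfl⟩)
    · exact Algebra.subset_adjoin hy
    · exact hpow z
  have hxM : x ∈ M := hle hx
  -- `M` is the span of the image of `k₀`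
  have hM : (Subalgebra.toSubmodule M) =
      Submodule.span E' (Set.range (algebraMap k₀ K₀)) := by
    show Subalgebra.toSubmodule (Algebra.adjoin E' (Set.range (algebraMap k₀ K₀))) = _
    rw [Algebra.adjoin_eq_span]
    congr 1
    have hr : Set.range (algebraMap k₀ K₀) =
        ((MonoidHom.mrange ((algebraMap k₀ K₀ : k₀ →+* K₀) : k₀ →* K₀) : Submonoid K₀) :
          Set K₀) := by
      ext z; simp [MonoidHom.mem_mrange]
    rw [hr, Submonoid.closure_eq]
  have hxs : x ∈ Submodule.span E' (Set.range (algebraMap k₀ K₀)) := by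
    rw [← hM]; exact hxM
  -- image of `k₀^p` lies in `K₀^p`
  have hF'E' : ∀ y : k₀, y ∈ F' → algebraMap k₀ K₀ y ∈ E' := by
    have : F' ≤ E'.comap (algebraMap k₀ K₀) := by
      rw [hF', Subfield.closure_le]
      rintro _ ⟨z, rfl⟩
      show algebraMap k₀ K₀ (z ^ p) ∈ E'
      rw [map_pow]; exact Subfield.subset_closure ⟨_, rfl⟩
    exact fun y hy => this hy
  refine Submodule.span_le.mpr ?_ hxs
  rintro _ ⟨y, rfl⟩
  have hy : y ∈ Submodule.span F' (Set.range c) := by rw [hc]; trivial
  obtain ⟨a, rfl⟩ := (Submodule.mem_span_range_iff_exists_fun F').mp hy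
  rw [map_sum]
  refine Submodule.sum_mem _ fun i _ => ?_
  have : algebraMap k₀ K₀ (a i • c i) =
      (⟨algebraMap k₀ K₀ (a i), hF'E' _ (a i).2⟩ : E') • algebraMap k₀ K₀ (c i) := by
    rw [Subfield.smul_def, smul_eq_mul, map_mul]; rfl
  rw [this]
  exact Submodule.smul_mem _ _ (Submodule.subset_span ⟨i, rfl⟩)

end Groth.Agent.Lib.Helper13.PSFrob
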