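import Mathlib

/-!
# Flatness of Frobenius and of the perfect closure for rings with a `p`-basis
-/

set_option autoImplicit false

namespace Groth.Agent.Lib.Helper13.PerfFlat

section Generic

variable {R S : Type*} [CommRing R] [CommRing S]

/-- a ring map for which `S` has an `R`-basis is flat (basis given by bijectivity) -/
theorem flat_of_bijective_sum (f : R →+* S) {ι : Type*} (m : ι → S)
    (hbij : Function.Bijective (fun c : ι →₀ R => c.sum (fun e r => f r * m e))) : f.Flat := by
  letI : Algebra R S := f.toAlgebra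
  have hfun : ⇑(Finsupp.linearCombination R m) =
      (fun c : ι →₀ R => c.sum (fun e r => f r * m e)) := by
    funext c
    rw [Finsupp.linearCombination_apply]
    rfl
  let E : (ι →₀ R) ≃ₗ[R] S := LinearEquiv.ofBijective (Finsupp.linearCombination R m) (by
    rw [hfun]; exact hbij)
  exact Module.Flat.of_linearEquiv E.symm

/-- trivialisation of relations for a flat ring map, in untwisted form -/
theorem exists_trivialisation (f : R →+* S) (hf : f.Flat) {l : ℕ} (a : Fin l → R) (s : Fin l → S)
    (h : ∑ i, f (a i) * s i = 0) :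
    ∃ (k : ℕ) (c : Fin l → Fin k → R) (y : Fin k → S),
      (∀ i, s i = ∑ j, f (c i j) * y j) ∧ ∀ j, ∑ i, a i * c i j = 0 := by
  letI : Algebra R S := f.toAlgebra
  haveI : Module.Flat R S := hf
  have h' : ∑ i, a i • s i = 0 := by
    rw [← h]
    refine Finset.sum_congr rfl fun i _ => ?_
    rw [Algebra.smul_def]
    rfl
  obtain ⟨k, c, y, h1, h2⟩ := Module.Flat.isTrivialRelation_of_sum_smul_eq_zero (R := R) (M := S)
    (f := a) (x := s) h'
  refine ⟨k, c, y, fun i => ?_, h2⟩
  rw [h1 i]
  refine Finset.sum_congr rfl fun j _ => ?_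
  rw [Algebra.smul_def]
  rfl

end Generic

section Frob

variable (p : ℕ) [hp : Fact p.Prime] (R : Type*) [CommRing R] [CharP R p]

theorem iterateFrobenius_flat (hF : (frobenius R p).Flat) (n : ℕ) :
    (iterateFrobenius R p n).Flat := by
  induction n with
  | zero =>
    rw [iterateFrobenius_zero]
    exact RingHom.Flat.id R
  | succ n ih =>
    have : iterateFrobenius R p (n + 1) = (frobenius R p).comp (iterateFrobenius R p n) := by
      rw [add_comm, iterateFrobenius_add, iterateFrobenius_one]
    rw [this]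
    exact RingHom.Flat.comp ih hF

variable [IsReduced R]

theorem of_injective : Function.Injective (PerfectClosure.of R p) := by
  intro x y h
  rw [PerfectClosure.of_apply, PerfectClosure.of_apply, PerfectClosure.eq_iff] at h
  simpa using h

theorem exists_pow_eq_of (z : PerfectClosure R p) :
    ∃ (n : ℕ) (r : R), z ^ p ^ n = PerfectClosure.of R p r := by
  induction z using PerfectClosure.induction_on with
  | h x =>
    obtain ⟨n, r⟩ := x
    refine ⟨n, r, ?_⟩
    rw [PerfectClosure.mk_pow, PerfectClosure.of_apply, PerfectClosure.eq_iff]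
    simp [iterate_frobenius]

theorem exists_pow_eq_of_ge (z : PerfectClosure R p) :
    ∃ (n : ℕ), ∀ N, n ≤ N → ∃ r : R, z ^ p ^ N = PerfectClosure.of R p r := by
  obtain ⟨n, r, h⟩ := exists_pow_eq_of p R z
  refine ⟨n, fun N hN => ⟨r ^ p ^ (N - n), ?_⟩⟩
  rw [map_pow, ← h, ← pow_mul, ← pow_add, Nat.add_sub_cancel' hN]

theorem exists_root_of (n : ℕ) (y : R) :
    ∃ Y : PerfectClosure R p, Y ^ p ^ n = PerfectClosure.of R p y := by
  refine ⟨PerfectClosure.mk R p (n, y), ?_⟩
  rw [PerfectClosure.mk_pow, PerfectClosure.of_apply, PerfectClosure.eq_iff]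
  simp [iterate_frobenius]

theorem pow_injective (n : ℕ) :
    Function.Injective (fun z : PerfectClosure R p => z ^ p ^ n) :=
  iterateFrobenius_inj (PerfectClosure R p) p n

/-- if Frobenius is flat on the reduced ring `R`, then `R → R^{perf}` is flat. -/
theorem flat_perfectClosure (hF : (frobenius R p).Flat) : (PerfectClosure.of R p).Flat := by
  classical
  letI : Algebra R (PerfectClosure R p) := (PerfectClosure.of R p).toAlgebra
  show Module.Flat R (PerfectClosure R p)
  apply Module.Flat.of_forall_isTrivialRelation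
  intro l f x hrel
  have hrel' : ∑ i, PerfectClosure.of R p (f i) * x i = 0 := by
    rw [← hrel]
    refine Finset.sum_congr rfl fun i _ => ?_
    rw [Algebra.smul_def]
    rfl
  choose n hn using fun i => exists_pow_eq_of_ge p R (x i)
  let N := Finset.univ.sup n
  choose r hr using fun i => hn i N (Finset.le_sup (Finset.mem_univ i))
  have h1 : ∑ i, iterateFrobenius R p N (f i) * r i = 0 := by
    apply of_injective p R
    rw [map_zero, map_sum]
    have h2 : (∑ i, PerfectClosure.of R p (f i) * x i) ^ p ^ N =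
        (0 : PerfectClosure R p) ^ p ^ N := by rw [hrel']
    rw [sum_pow_char_pow, zero_pow (pow_ne_zero _ hp.out.ne_zero)] at h2
    rw [← h2]
    refine Finset.sum_congr rfl fun i _ => ?_
    rw [map_mul, mul_pow, hr, iterateFrobenius_def, map_pow]
  obtain ⟨k, c, y, hc1, hc2⟩ := exists_trivialisation (iterateFrobenius R p N)
    (iterateFrobenius_flat p R hF N) f r h1
  choose Y hY using fun j => exists_root_of p R N (y j)
  refine ⟨k, c, Y, fun i => ?_, hc2⟩
  apply pow_injective p R N
  show x i ^ p ^ N = (∑ j, c i j • Y j) ^ p ^ N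
  rw [hr, hc1 i, sum_pow_char_pow, map_sum]
  refine Finset.sum_congr rfl fun j _ => ?_
  rw [Algebra.smul_def, mul_pow, hY, map_mul, iterateFrobenius_def, map_pow]
  rfl

/-- `R → R^{perf}` is faithfully flat when Frobenius is flat on the reduced ring `R`. -/
theorem faithfullyFlat_perfectClosure (hF : (frobenius R p).Flat) :
    (PerfectClosure.of R p).FaithfullyFlat := by
  classical
  have hflat := flat_perfectClosure p R hF
  letI : Algebra R (PerfectClosure R p) := (PerfectClosure.of R p).toAlgebra
  show Module.FaithfullyFlat R (PerfectClosure R p)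
  haveI : Module.Flat R (PerfectClosure R p) := hflat
  refine ⟨fun m hm htop => ?_⟩
  have key : ∀ z ∈ (m • (⊤ : Submodule R (PerfectClosure R p))),
      ∃ n, ∀ N, n ≤ N → ∃ r ∈ m, z ^ p ^ N = PerfectClosure.of R p r := by
    intro z hz
    refine Submodule.smul_induction_on hz ?_ ?_
    · intro a ha w _
      obtain ⟨n, hn⟩ := exists_pow_eq_of_ge p R w
      refine ⟨n, fun N hN => ?_⟩
      obtain ⟨r, hr⟩ := hn N hN
      refine ⟨a ^ p ^ N * r, Ideal.mul_mem_right _ _ (Ideal.pow_mem_of_mem _ ha _
        (pow_pos hp.out.pos _)), ?_⟩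
      rw [Algebra.smul_def, mul_pow, hr, map_mul, map_pow]
      rfl
    · intro z w hz hw
      obtain ⟨n1, h1⟩ := hz
      obtain ⟨n2, h2⟩ := hw
      refine ⟨max n1 n2, fun N hN => ?_⟩
      obtain ⟨r1, hr1, e1⟩ := h1 N (le_trans (le_max_left _ _) hN)
      obtain ⟨r2, hr2, e2⟩ := h2 N (le_trans (le_max_right _ _) hN)
      exact ⟨r1 + r2, m.add_mem hr1 hr2, by rw [add_pow_char_pow, e1, e2, map_add]⟩
  obtain ⟨n, hn⟩ := key 1 (by rw [htop]; trivial)
  obtain ⟨r, hr, e⟩ := hn n le_rfl
  rw [one_pow, ← map_one (PerfectClosure.of R p)] at e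
  have := of_injective p R e
  exact hm.ne_top ((Ideal.eq_top_iff_one m).mpr (this ▸ hr))

end Frob

end Groth.Agent.Lib.Helper13.PerfFlat
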