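import Mathlib
import Groth.Agent.Lib.Helper13.LIChain

/-!
# Reduction modulo the square of the maximal ideal

* a ring surjecting onto a local ring with kernel in the Jacobson radical is local
* a surjection of local rings with kernel in `m²` preserves the embedding dimension
* `C ⊗ Ω_{A/ℤ} → C ⊗ Ω_{Q/ℤ}` is injective when `ker (A → Q) ⊆ (ker (A → C))²`
-/

set_option autoImplicit false

namespace Groth.Agent.Lib.Helper13.RegQuot

open IsLocalRing TensorProduct Groth.Agent.Lib.Helper13.Fred

section Local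

variable {R R' : Type*} [CommRing R] [CommRing R']

theorem isUnit_of_map_isUnit_of_ker_le_jacobson (ψ : R →+* R') (hψ : Function.Surjective ψ)
    (hker : RingHom.ker ψ ≤ Ideal.jacobson ⊥) {x : R} (hx : IsUnit (ψ x)) : IsUnit x := by
  obtain ⟨u, hu⟩ := hx
  obtain ⟨y, hy⟩ := hψ (↑u⁻¹ : R')
  have h1 : ψ (x * y - 1) = 0 := by
    rw [map_sub, map_mul, map_one, hy, ← hu, Units.mul_inv, sub_self]
  have h2 : x * y - 1 ∈ Ideal.jacobson (⊥ : Ideal R) := hker h1
  have h3 := (Ideal.mem_jacobson_bot.mp h2) 1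
  rw [mul_one, sub_add_cancel] at h3
  exact isUnit_of_mul_isUnit_left h3

theorem isLocalRing_of_surjective_of_ker_le_jacobson [Nontrivial R] [IsLocalRing R']
    (ψ : R →+* R') (hψ : Function.Surjective ψ) (hker : RingHom.ker ψ ≤ Ideal.jacobson ⊥) :
    IsLocalRing R := by
  refine IsLocalRing.of_isUnit_or_isUnit_one_sub_self fun b => ?_
  rcases IsLocalRing.isUnit_or_isUnit_one_sub_self (ψ b) with h | h
  · exact Or.inl (isUnit_of_map_isUnit_of_ker_le_jacobson ψ hψ hker h)
  · refine Or.inr (isUnit_of_map_isUnit_of_ker_le_jacobson ψ hψ hker ?_)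
    rwa [map_sub, map_one]

end Local

section Cotangent

universe u

variable {R R' : Type u} [CommRing R] [CommRing R'] [IsLocalRing R] [IsLocalRing R']

theorem finrank_cotangentSpace_eq_of_surjective (φ : R →+* R') (hφ : Function.Surjective φ)
    (hker : RingHom.ker φ ≤ maximalIdeal R ^ 2) :
    Module.finrank (ResidueField R) (CotangentSpace R) =
      Module.finrank (ResidueField R') (CotangentSpace R') := by
  letI := φ.toAlgebra
  haveI : IsLocalHom (algebraMap R R') := IsLocalHom.of_surjective φ hφ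
  have hsurj : Function.Surjective (algebraMap R R') := hφ
  have hle : RingHom.ker (algebraMap R R') ≤ maximalIdeal R :=
    hker.trans (Ideal.pow_le_self two_ne_zero)
  have comapeq : (maximalIdeal R').comap (algebraMap R R') =
      RingHom.ker (algebraMap R R') ⊔ maximalIdeal R := by
    rw [IsLocalRing.maximalIdeal_comap (algebraMap R R'), sup_eq_right.mpr hle]
  let g := Ideal.mapCotangent (maximalIdeal R) (maximalIdeal R') (Algebra.ofId R R')
    (le_of_le_of_eq le_sup_right comapeq.symm)
  have surj : Function.Surjective g := Ideal.mapCotangent_surjective_of_comap_eq hsurj comapeq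
  have inj : Function.Injective g := by
    rw [← LinearMap.ker_eq_bot, Ideal.mapCotangent_ker_of_surjective hsurj comapeq, eq_bot_iff]
    rintro _ ⟨x, hx, rfl⟩
    have hx' : (x : R) ∈ RingHom.ker (algebraMap R R') := (Ideal.mem_inf.mp hx).1
    rw [Submodule.mem_bot, Ideal.toCotangent_eq_zero]
    exact hker hx'
  have hbij : Function.Bijective (IsLocalRing.ResidueField.map (algebraMap R R')) := by
    refine ⟨RingHom.injective _, fun y => ?_⟩
    obtain ⟨y', rfl⟩ := IsLocalRing.residue_surjective y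
    obtain ⟨x, rfl⟩ := hsurj y'
    exact ⟨IsLocalRing.residue R x, rfl⟩
  have rkeq := rank_eq_of_equiv_equiv _
    (LinearEquiv.ofBijective g ⟨inj, surj⟩).toAddEquiv hbij (fun r m ↦ by
      rcases IsLocalRing.residue_surjective r with ⟨s, rfl⟩
      exact map_smul g s m)
  simp [Module.finrank, CotangentSpace, rkeq]

end Cotangent

section Kaehler

variable {A Q C : Type*} [CommRing A] [CommRing Q] [CommRing C] [Algebra A Q] [Algebra Q C]
  [Algebra A C] [IsScalarTower A Q C]

theorem one_tmul_D_eq_zero_of_mem_sq {x : A} (hx : x ∈ RingHom.ker (algebraMap A C) ^ 2) :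
    (1 : C) ⊗ₜ[A] KaehlerDifferential.D ℤ A x = 0 := by
  rw [pow_two] at hx
  refine Submodule.mul_induction_on hx (fun a ha b hb => ?_) (fun x y hx hy => ?_)
  · rw [Derivation.leibniz, TensorProduct.tmul_add, TensorProduct.tmul_smul,
      TensorProduct.tmul_smul, TensorProduct.smul_tmul', TensorProduct.smul_tmul',
      Algebra.smul_def, Algebra.smul_def, mul_one, mul_one,
      (RingHom.mem_ker).mp ha, (RingHom.mem_ker).mp hb, TensorProduct.zero_tmul,
      TensorProduct.zero_tmul, add_zero]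
  · rw [map_add, TensorProduct.tmul_add, hx, hy, add_zero]

end Kaehler

section Kaehler2

variable {A Q C : Type*} [CommRing A] [CommRing Q] [Field C] [Algebra A Q] [Algebra Q C]
  [Algebra A C] [IsScalarTower A Q C]

theorem baseChange_mapBaseChange_injective_of_ker_le_sq
    (hsurj : Function.Surjective (algebraMap A Q))
    (hker : RingHom.ker (algebraMap A Q) ≤ RingHom.ker (algebraMap A C) ^ 2) :
    Function.Injective ((KaehlerDifferential.mapBaseChange ℤ A Q).baseChange C) := by
  rw [← LinearMap.ker_eq_bot, ker_baseChange_of_surjective _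
    (KaehlerDifferential.mapBaseChange_surjective ℤ A Q hsurj),
    ker_mapBaseChange_eq_span hsurj (fun x : RingHom.ker (algebraMap A Q) => (x : A))
      (by rw [Subtype.range_coe_subtype]; exact (Ideal.span_eq _).symm),
    Submodule.baseChange_span, eq_bot_iff, Submodule.span_le]
  rintro _ ⟨_, ⟨x, rfl⟩, rfl⟩
  show (1 : C) ⊗ₜ[Q] ((1 : Q) ⊗ₜ[A] KaehlerDifferential.D ℤ A (x : A)) ∈ _
  have h := one_tmul_D_eq_zero_of_mem_sq (C := C) (hker x.2)
  have h2 : (1 : C) ⊗ₜ[Q] ((1 : Q) ⊗ₜ[A] KaehlerDifferential.D ℤ A (x : A)) =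
      (TensorProduct.AlgebraTensorModule.cancelBaseChange A Q C C (Ω[A⁄ℤ])).symm
        ((1 : C) ⊗ₜ[A] KaehlerDifferential.D ℤ A (x : A)) := by
    rw [TensorProduct.AlgebraTensorModule.cancelBaseChange_symm_tmul]
  rw [h2, h, map_zero]
  exact Submodule.zero_mem _

end Kaehler2

section LI

variable {A Q K C : Type*} [CommRing A] [CommRing Q] [Field K] [Field C] [Algebra A Q]
  [Algebra Q C] [Algebra A C] [IsScalarTower A Q C] [Algebra A K] [Algebra K C]
  [IsScalarTower A K C] {ι : Type*} (f : ι → A)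

theorem linearIndependent_one_tmul_D_iff_of_ker_le_sq
    (hsurj : Function.Surjective (algebraMap A Q))
    (hker : RingHom.ker (algebraMap A Q) ≤ RingHom.ker (algebraMap A C) ^ 2) :
    LinearIndependent C
        (fun i => (1 : C) ⊗ₜ[Q] KaehlerDifferential.D ℤ Q (algebraMap A Q (f i))) ↔
      LinearIndependent K (fun i => (1 : K) ⊗ₜ[A] KaehlerDifferential.D ℤ A (f i)) := by
  have hinj := baseChange_mapBaseChange_injective_of_ker_le_sq (C := C) hsurj hker
  let c₀ := TensorProduct.AlgebraTensorModule.cancelBaseChange A K C C (Ω[A⁄ℤ])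
  let c₁ := TensorProduct.AlgebraTensorModule.cancelBaseChange A Q C C (Ω[A⁄ℤ])
  let Ψ : C ⊗[K] (K ⊗[A] Ω[A⁄ℤ]) →ₗ[C] C ⊗[Q] Ω[Q⁄ℤ] :=
    ((KaehlerDifferential.mapBaseChange ℤ A Q).baseChange C) ∘ₗ
      c₁.symm.toLinearMap ∘ₗ c₀.toLinearMap
  have hΨ : Function.Injective Ψ := hinj.comp (c₁.symm.injective.comp c₀.injective)
  have hrel : (fun i => (1 : C) ⊗ₜ[Q] KaehlerDifferential.D ℤ Q (algebraMap A Q (f i))) =
      (Ψ ∘ fun i => (1 : C) ⊗ₜ[K] ((1 : K) ⊗ₜ[A] KaehlerDifferential.D ℤ A (f i))) := by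
    funext i
    show _ = ((KaehlerDifferential.mapBaseChange ℤ A Q).baseChange C)
        (c₁.symm (c₀ ((1 : C) ⊗ₜ[K] ((1 : K) ⊗ₜ[A] KaehlerDifferential.D ℤ A (f i)))))
    rw [TensorProduct.AlgebraTensorModule.cancelBaseChange_tmul, one_smul,
      TensorProduct.AlgebraTensorModule.cancelBaseChange_symm_tmul, LinearMap.baseChange_tmul,
      KaehlerDifferential.mapBaseChange_tmul, one_smul, KaehlerDifferential.map_D]
  rw [hrel, LinearMap.linearIndependent_iff Ψ (LinearMap.ker_eq_bot.mpr hΨ),
    linearIndependent_one_tmul_iff]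

end LI

end Groth.Agent.Lib.Helper13.RegQuot
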