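import Mathlib
import Groth.Agent.Lib.Helper13.RegQuot
import Groth.Agent.Lib.Helper13.ArtinPoly2
import Groth.Agent.Lib.Helper11.IntegralDim
import Groth.Agent.Lib.Helper33.RegularRing
import Groth.Agent.S0558

/-!
# `B = A[T_1..T_r]/(T_i^p + p g_i(T_i) - f_i)` over a regular local ring (EGA 0_IV 22.x)
-/

set_option autoImplicit false

namespace Groth.Agent.Lib.Helper13.S2473Lib

open IsLocalRing TensorProduct

universe u

section Poly

variable {A : Type u} [CommRing A] (p : ℕ) {r : ℕ} (c : Fin r → Fin p → A) (f : Fin r → A)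

/-- the lower order part, as a one-variable polynomial -/
noncomputable def g (i : Fin r) : Polynomial A :=
  Finset.univ.sum fun j : Fin p =>
    if (j : ℕ) = 0 then 0 else Polynomial.C (c i j) * Polynomial.X ^ (p - (j : ℕ))

/-- the one-variable polynomial `T^p + p g_i(T) - f_i` -/
noncomputable def q (i : Fin r) : Polynomial A :=
  Polynomial.X ^ p + ((p : Polynomial A) * g p c i - Polynomial.C (f i))

/-- the relations -/
noncomputable def F (i : Fin r) : MvPolynomial (Fin r) A :=
  MvPolynomial.X i ^ p + (p : MvPolynomial (Fin r) A) * (Finset.univ.sum fun j : Fin p =>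
    if (j : ℕ) = 0 then 0 else MvPolynomial.C (c i j) * MvPolynomial.X i ^ (p - (j : ℕ))) -
      MvPolynomial.C (f i)

/-- the quotient ring -/
abbrev B : Type u := MvPolynomial (Fin r) A ⧸ Ideal.span (Set.range (F p c f))

theorem degree_g_lt (hp : 0 < p) (i : Fin r) : (g p c i).degree < p := by
  refine (Polynomial.degree_sum_le _ _).trans_lt ?_
  refine (Finset.sup_lt_iff (WithBot.bot_lt_coe p)).mpr ?_
  intro j _
  split_ifs with h
  · rw [Polynomial.degree_zero]; exact WithBot.bot_lt_coe p
  · refine (Polynomial.degree_C_mul_X_pow_le _ _).trans_lt ?_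
    have : p - (j : ℕ) < p := by omega
    exact Nat.cast_lt.mpr this

theorem degree_rest_lt (hp : 0 < p) (i : Fin r) :
    ((p : Polynomial A) * g p c i - Polynomial.C (f i)).degree < p := by
  refine (Polynomial.degree_sub_le _ _).trans_lt (max_lt ?_ ?_)
  · rw [← Polynomial.C_eq_natCast]
    refine (Polynomial.degree_mul_le _ _).trans_lt ?_
    refine lt_of_le_of_lt (add_le_add_left Polynomial.degree_C_le _) ?_
    rw [zero_add]
    exact degree_g_lt p c hp i
  · refine Polynomial.degree_C_le.trans_lt ?_
    exact_mod_cast hp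

theorem q_monic (hp : 0 < p) (i : Fin r) : (q p c f i).Monic :=
  Polynomial.monic_X_pow_add (degree_rest_lt p c f hp i)

theorem q_degree [Nontrivial A] (hp : 0 < p) (i : Fin r) : (q p c f i).degree = p := by
  unfold q
  rw [Polynomial.degree_add_eq_left_of_degree_lt, Polynomial.degree_X_pow]
  rw [Polynomial.degree_X_pow]
  exact degree_rest_lt p c f hp i

theorem aeval_X_q (i : Fin r) :
    Polynomial.aeval (MvPolynomial.X i : MvPolynomial (Fin r) A) (q p c f i) = F p c f i := by
  unfold q F g
  simp only [map_add, map_sub, map_mul, map_pow, map_natCast, map_sum, Polynomial.aeval_X,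
    Polynomial.aeval_C, apply_ite (Polynomial.aeval (MvPolynomial.X i : MvPolynomial (Fin r) A)),
    map_zero, MvPolynomial.algebraMap_eq, add_sub_assoc]

theorem mk_F_eq_zero (i : Fin r) :
    Ideal.Quotient.mk (Ideal.span (Set.range (F p c f))) (F p c f i) = 0 :=
  Ideal.Quotient.eq_zero_iff_mem.mpr (Ideal.subset_span ⟨i, rfl⟩)

theorem isIntegral_mk_X (hp : 0 < p) (i : Fin r) :
    IsIntegral A (Ideal.Quotient.mk (Ideal.span (Set.range (F p c f))) (MvPolynomial.X i)) := by
  refine ⟨q p c f i, q_monic p c f hp i, ?_⟩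
  have h := Polynomial.aeval_algHom_apply
    (Ideal.Quotient.mkₐ A (Ideal.span (Set.range (F p c f)))) (MvPolynomial.X i) (q p c f i)
  rw [aeval_X_q] at h
  rw [← Polynomial.aeval_def]
  exact h.trans (mk_F_eq_zero p c f i)

theorem isIntegral_B (hp : 0 < p) : Algebra.IsIntegral A (B p c f) := by
  refine ⟨fun b => ?_⟩
  obtain ⟨P, rfl⟩ := Ideal.Quotient.mk_surjective b
  induction P using MvPolynomial.induction_on with
  | C a => exact isIntegral_algebraMap
  | add P P' h h' => rw [map_add]; exact h.add h'
  | mul_X P i h => rw [map_mul]; exact h.mul (isIntegral_mk_X p c f hp i)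

theorem finite_B (hp : 0 < p) : Module.Finite A (B p c f) := by
  haveI := isIntegral_B p c f hp
  haveI : Algebra.FiniteType A (B p c f) :=
    Algebra.FiniteType.of_surjective (Ideal.Quotient.mkₐ A _) (Ideal.Quotient.mkₐ_surjective A _)
  exact Algebra.IsIntegral.finite

theorem algebraMap_injective [IsDomain A] (hp : 0 < p) :
    Function.Injective (algebraMap A (B p c f)) := by
  let Ω := AlgebraicClosure (FractionRing A)
  have hinj : Function.Injective (algebraMap A Ω) := by
    rw [IsScalarTower.algebraMap_eq A (FractionRing A) Ω]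
    exact (algebraMap (FractionRing A) Ω).injective.comp (IsFractionRing.injective A _)
  have hroot : ∀ i, ∃ z : Ω, Polynomial.aeval z (q p c f i) = 0 := fun i =>
    IsAlgClosed.exists_aeval_eq_zero_of_injective Ω hinj _ (by
      rw [q_degree p c f hp i]
      exact_mod_cast hp.ne')
  choose z hz using hroot
  let χ : MvPolynomial (Fin r) A →ₐ[A] Ω := MvPolynomial.aeval z
  have hχ : ∀ i, χ (F p c f i) = 0 := fun i => by
    rw [← aeval_X_q, ← Polynomial.aeval_algHom_apply]
    show Polynomial.aeval (MvPolynomial.aeval z (MvPolynomial.X i)) _ = 0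
    rw [MvPolynomial.aeval_X, hz]
  have hle : Ideal.span (Set.range (F p c f)) ≤ RingHom.ker χ.toRingHom := by
    rw [Ideal.span_le]
    rintro _ ⟨i, rfl⟩
    exact hχ i
  rw [injective_iff_map_eq_zero]
  intro a ha
  have h1 : MvPolynomial.C a ∈ Ideal.span (Set.range (F p c f)) :=
    Ideal.Quotient.eq_zero_iff_mem.mp ha
  have h2 : χ (MvPolynomial.C a) = 0 := hle h1
  have h3 : χ (MvPolynomial.C a) = algebraMap A Ω a := MvPolynomial.aeval_C z a
  rw [h3] at h2
  exact hinj (h2.trans (map_zero _).symm)

end Poly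

section Reduction

open Groth.Agent.Lib.Helper13.ArtinPoly

variable {A : Type u} [CommRing A] (p : ℕ) [hpf : Fact p.Prime] {r : ℕ}
  (c : Fin r → Fin p → A) (f : Fin r → A)
  (Q : Type u) [CommRing Q] [Algebra A Q] [IsArtinianRing Q] [IsLocalRing Q] [CharP Q p]

/-- the reduction map on polynomial rings composed with the quotient map -/
noncomputable def ψ₀ : MvPolynomial (Fin r) A →+*
    ArtinPoly.Quot p (fun i => algebraMap A Q (f i)) :=
  (Ideal.Quotient.mk _).comp (MvPolynomial.map (algebraMap A Q))

theorem ψ₀_rel (i : Fin r) :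
    ψ₀ p f Q (MvPolynomial.X i ^ p - MvPolynomial.C (f i)) = 0 := by
  show Ideal.Quotient.mk _ (MvPolynomial.map (algebraMap A Q)
    (MvPolynomial.X i ^ p - MvPolynomial.C (f i))) = 0
  rw [map_sub, map_pow, MvPolynomial.map_X, MvPolynomial.map_C]
  exact Ideal.Quotient.eq_zero_iff_mem.mpr (Ideal.subset_span ⟨i, rfl⟩)

theorem ψ₀_F (i : Fin r) : ψ₀ p f Q (F p c f i) = 0 := by
  have h : F p c f i = (MvPolynomial.X i ^ p - MvPolynomial.C (f i)) +
      (p : MvPolynomial (Fin r) A) * (Finset.univ.sum fun j : Fin p =>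
        if (j : ℕ) = 0 then 0 else MvPolynomial.C (c i j) * MvPolynomial.X i ^ (p - (j : ℕ))) := by
    unfold F; ring
  rw [h, map_add, ψ₀_rel, zero_add, map_mul, map_natCast,
    natCast_eq_zero p (fun i => algebraMap A Q (f i)), zero_mul]

theorem ψ₀_surjective (hsurj : Function.Surjective (algebraMap A Q)) :
    Function.Surjective (ψ₀ p f Q) :=
  Ideal.Quotient.mk_surjective.comp (MvPolynomial.map_surjective _ hsurj)

/-- the reduction map `B → B̄` -/
noncomputable def ψ : B p c f →+* ArtinPoly.Quot p (fun i => algebraMap A Q (f i)) :=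
  Ideal.Quotient.lift _ (ψ₀ p f Q) (by
    intro x hx
    have hle : Ideal.span (Set.range (F p c f)) ≤ RingHom.ker (ψ₀ p f Q) := by
      rw [Ideal.span_le]
      rintro _ ⟨i, rfl⟩
      exact ψ₀_F p c f Q i
    exact hle hx)

theorem ψ_mk (x : MvPolynomial (Fin r) A) :
    ψ p c f Q (Ideal.Quotient.mk _ x) = ψ₀ p f Q x := rfl

theorem ψ_surjective (hsurj : Function.Surjective (algebraMap A Q)) :
    Function.Surjective (ψ p c f Q) := by
  intro y
  obtain ⟨x, rfl⟩ := ψ₀_surjective p f Q hsurj y
  exact ⟨Ideal.Quotient.mk _ x, rfl⟩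

theorem natCast_mem_ker : (p : A) ∈ RingHom.ker (algebraMap A Q) := by
  rw [RingHom.mem_ker, map_natCast, CharP.cast_eq_zero]

theorem ker_ψ_le (hsurj : Function.Surjective (algebraMap A Q)) :
    RingHom.ker (ψ p c f Q) ≤
      Ideal.map (algebraMap A (B p c f)) (RingHom.ker (algebraMap A Q)) := by
  set J := Ideal.map (algebraMap A (B p c f)) (RingHom.ker (algebraMap A Q)) with hJ
  let mk := Ideal.Quotient.mk (Ideal.span (Set.range (F p c f)))
  -- the relations `X^p - f` die in `B / J`
  have hp_mem : (p : B p c f) ∈ J := by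
    have : (p : B p c f) = algebraMap A (B p c f) (p : A) := (map_natCast _ p).symm
    rw [this]
    exact Ideal.mem_map_of_mem _ (natCast_mem_ker p Q)
  have hrel : Ideal.span (Set.range fun i : Fin r =>
      (MvPolynomial.X i ^ p - MvPolynomial.C (f i) : MvPolynomial (Fin r) A)) ≤ J.comap mk := by
    rw [Ideal.span_le]
    rintro _ ⟨i, rfl⟩
    show mk (MvPolynomial.X i ^ p - MvPolynomial.C (f i)) ∈ J
    have h : (MvPolynomial.X i ^ p - MvPolynomial.C (f i) : MvPolynomial (Fin r) A) =
        F p c f i - (p : MvPolynomial (Fin r) A) * (Finset.univ.sum fun j : Fin p =>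
          if (j : ℕ) = 0 then 0 else
            MvPolynomial.C (c i j) * MvPolynomial.X i ^ (p - (j : ℕ))) := by
      unfold F; ring
    rw [h, map_sub, mk_F_eq_zero, zero_sub, map_mul, map_natCast]
    exact J.neg_mem (J.mul_mem_right _ hp_mem)
  have hC : Ideal.map (MvPolynomial.C : A →+* MvPolynomial (Fin r) A)
      (RingHom.ker (algebraMap A Q)) ≤ J.comap mk := by
    rw [Ideal.map_le_iff_le_comap]
    intro a ha
    show mk (MvPolynomial.C a) ∈ J
    exact Ideal.mem_map_of_mem (algebraMap A (B p c f)) ha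
  intro b hb
  obtain ⟨x, rfl⟩ := Ideal.Quotient.mk_surjective b
  have hx : Ideal.Quotient.mk (Ideal.span (Set.range (rel p fun i => algebraMap A Q (f i))))
      (MvPolynomial.map (algebraMap A Q) x) = 0 := hb
  rw [Ideal.Quotient.eq_zero_iff_mem] at hx
  have hspan : Ideal.span (Set.range (rel p fun i => algebraMap A Q (f i))) =
      Ideal.map (MvPolynomial.map (algebraMap A Q)) (Ideal.span (Set.range fun i : Fin r =>
        (MvPolynomial.X i ^ p - MvPolynomial.C (f i) : MvPolynomial (Fin r) A))) := by
    rw [Ideal.map_span, ← Set.range_comp]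
    congr 2
    funext i
    show _ = MvPolynomial.map (algebraMap A Q) (MvPolynomial.X i ^ p - MvPolynomial.C (f i))
    rw [map_sub, map_pow, MvPolynomial.map_X, MvPolynomial.map_C]
  rw [hspan, Ideal.mem_map_iff_of_surjective _ (MvPolynomial.map_surjective _ hsurj)] at hx
  obtain ⟨x', hx', hxx'⟩ := hx
  have hk : x - x' ∈ RingHom.ker (MvPolynomial.map (σ := Fin r) (algebraMap A Q)) := by
    rw [RingHom.mem_ker, map_sub, hxx', sub_self]
  rw [MvPolynomial.ker_map] at hk
  have : x = x' + (x - x') := by ring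
  rw [this, map_add]
  exact J.add_mem (hrel hx') (hC hk)

end Reduction

section Main

open Groth.Agent.Lib.Helper13.ArtinPoly Groth.Agent.Lib.Helper13.RegQuot

variable {A : Type u} [CommRing A] [IsRegularLocalRing A] (p : ℕ) [hpf : Fact p.Prime]
  {r : ℕ} (c : Fin r → Fin p → A) (f : Fin r → A)

theorem main_aux (Q : Type u) [CommRing Q] [Algebra A Q]
    (hsurj : Function.Surjective (algebraMap A Q))
    (hker : RingHom.ker (algebraMap A Q) = maximalIdeal A ^ 2)
    (hp : (p : A) ∈ maximalIdeal A ^ 2) :
    IsLocalRing (B p c f) ∧ (IsRegularRing (B p c f) ↔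
      LinearIndependent (ResidueField A)
        (fun i => (1 : ResidueField A) ⊗ₜ[A] KaehlerDifferential.D ℤ A (f i))) := by
  have hp0 : 0 < p := hpf.out.pos
  haveI : IsDomain A := Groth.Agent.S0558.result A
  -- instances on `Q`
  haveI : Nontrivial Q := by
    refine nontrivial_of_ne (1 : Q) 0 fun h => ?_
    have h1 : (1 : A) ∈ RingHom.ker (algebraMap A Q) := by
      rw [RingHom.mem_ker, map_one]; exact h
    rw [hker] at h1
    exact (Ideal.ne_top_iff_one _).mp (maximalIdeal.isMaximal A).ne_top
      (Ideal.pow_le_self two_ne_zero h1)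
  haveI : IsLocalRing Q := IsLocalRing.of_surjective' (algebraMap A Q) hsurj
  haveI : IsLocalHom (algebraMap A Q) := IsLocalHom.of_surjective _ hsurj
  haveI : IsNoetherianRing Q := isNoetherianRing_of_surjective A Q (algebraMap A Q) hsurj
  have hmQ : maximalIdeal Q ^ 2 = ⊥ := by
    rw [← IsLocalRing.map_maximalIdeal_of_surjective (algebraMap A Q) hsurj, ← Ideal.map_pow,
      ← hker, Ideal.map_eq_bot_iff_le_ker]
  haveI : IsArtinianRing Q := (isArtinianRing_iff_isNilpotent_maximalIdeal Q).mpr ⟨2, hmQ⟩
  haveI : CharP Q p := (CharP.charP_iff_prime_eq_zero hpf.out).mpr (by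
    have : (p : Q) = algebraMap A Q (p : A) := (map_natCast _ p).symm
    rw [this]
    exact (RingHom.mem_ker).mp (hker ▸ hp))
  -- instances on `B`
  have hinjB := algebraMap_injective p c f hp0
  haveI : Nontrivial (B p c f) := hinjB.nontrivial
  haveI := isIntegral_B p c f hp0
  haveI := finite_B p c f hp0
  have hdim : ringKrullDim (B p c f) = ringKrullDim A :=
    Groth.Agent.Lib.Helper11.IntegralDim.ringKrullDim_eq_of_isIntegral_of_injective hinjB
  -- `m B` lies in every maximal ideal
  have hmax : ∀ n : Ideal (B p c f), n.IsMaximal →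
      Ideal.map (algebraMap A (B p c f)) (maximalIdeal A) ≤ n := by
    intro n hn
    haveI := hn
    have h1 : (n.comap (algebraMap A (B p c f))).IsMaximal :=
      Ideal.isMaximal_comap_of_isIntegral_of_isMaximal n
    rw [Ideal.map_le_iff_le_comap, IsLocalRing.eq_maximalIdeal h1]
  have hjac : Ideal.map (algebraMap A (B p c f)) (maximalIdeal A) ≤ Ideal.jacobson ⊥ := by
    refine le_sInf ?_
    rintro n ⟨-, hn⟩
    exact hmax n hn
  have hkerψ := ker_ψ_le p c f Q hsurj
  rw [hker] at hkerψ
  have hψsurj := ψ_surjective p c f Q hsurj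
  haveI hloc : IsLocalRing (B p c f) :=
    isLocalRing_of_surjective_of_ker_le_jacobson (ψ p c f Q) hψsurj
      (hkerψ.trans ((Ideal.map_mono (Ideal.pow_le_self two_ne_zero)).trans hjac))
  refine ⟨hloc, ?_⟩
  -- embedding dimensions
  have hmB : Ideal.map (algebraMap A (B p c f)) (maximalIdeal A) ≤ maximalIdeal (B p c f) :=
    hmax _ (maximalIdeal.isMaximal _)
  have hkerψ2 : RingHom.ker (ψ p c f Q) ≤ maximalIdeal (B p c f) ^ 2 := by
    refine hkerψ.trans ?_
    rw [Ideal.map_pow]
    exact Ideal.pow_right_mono hmB 2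
  have e1 := finrank_cotangentSpace_eq_of_surjective (ψ p c f Q) hψsurj hkerψ2
  have e2 := finrank_cotangentSpace_eq_of_surjective (algebraMap A Q) hsurj hker.le
  have e3 := finrank_cotangentSpace_eq_iff p (fun i => algebraMap A Q (f i))
  -- transfer of linear independence
  have hkerC : RingHom.ker (algebraMap A (ResidueField Q)) = maximalIdeal A := by
    rw [IsScalarTower.algebraMap_eq A Q (ResidueField Q), ← RingHom.comap_ker]
    have : RingHom.ker (algebraMap Q (ResidueField Q)) = maximalIdeal Q :=
      IsLocalRing.ker_residue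
    rw [this, IsLocalRing.maximalIdeal_comap]
  have e4 := linearIndependent_one_tmul_D_iff_of_ker_le_sq (K := ResidueField A)
    (C := ResidueField Q) f hsurj (by rw [hkerC, hker])
  rw [← e4, ← e3, ← e2, ← e1]
  -- regularity
  have hA : (Module.finrank (ResidueField A) (CotangentSpace A) : WithBot ℕ∞) =
      ringKrullDim A := (IsRegularLocalRing.iff_finrank_cotangentSpace A).mp inferInstance
  haveI : IsNoetherianRing (B p c f) := inferInstance
  constructor
  · intro hreg
    haveI := hreg
    have hB : IsRegularLocalRing (B p c f) :=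
      IsRegularLocalRing.of_isRegularRing_of_isLocalRing (B p c f)
    have h := (IsRegularLocalRing.iff_finrank_cotangentSpace (B p c f)).mp hB
    rw [hdim, ← hA] at h
    have h' : ((Module.finrank (ResidueField (B p c f)) (CotangentSpace (B p c f)) : ℕ∞) :
        WithBot ℕ∞) = ((Module.finrank (ResidueField A) (CotangentSpace A) : ℕ∞) : WithBot ℕ∞) := by
      exact_mod_cast h
    have h'' := WithBot.coe_injective h'
    exact (Nat.cast_injective h'').symm
  · intro h
    have hB : IsRegularLocalRing (B p c f) := by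
      rw [IsRegularLocalRing.iff_finrank_cotangentSpace, hdim, ← hA, ← h]
    exact Groth.Agent.Lib.Helper33.isRegularRing_of_isRegularLocalRing (B p c f)

end Main

end Groth.Agent.Lib.Helper13.S2473Lib
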