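import Mathlib
import Groth.Agent.Lib.Helper13.FSInj
import Groth.Agent.Lib.Helper13.FSProj
import Groth.Agent.Lib.Helper13.OmegaHat
import Groth.Agent.Lib.Helper13.Cartier
import Groth.Agent.Lib.Helper13.CotKer
import Groth.Agent.Lib.Helper13.Fred2
import Groth.Agent.Lib.Helper96.SmoothRegular2
import Groth.Agent.Lib.Helper96.PerfectSmooth

/-!
# `Ω̂_{A/k₀}` for a complete Noetherian local ring formally smooth over a field (EGA 0_IV 22.x)
-/

set_option autoImplicit false

namespace Groth.Agent.Lib.Helper13.S2476Lib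

universe u

open IsLocalRing TensorProduct Groth.Agent.Lib.Helper13.Fred Groth.Agent.Lib.Helper13.CotKer
  Groth.Agent.Lib.Helper13.Cartier

section CotK

variable (k : Type*) {R : Type u} [CommRing k] [CommRing R] [IsLocalRing R] [Algebra k R]

/-- the map `m/m² → κ ⊗ Ω_{R/k}`, `R`-linear version -/
noncomputable def cotToTensor₀ :
    CotangentSpace R →ₗ[R] (ResidueField R) ⊗[R] Ω[R⁄k] :=
  (KaehlerDifferential.kerCotangentToTensor k R (ResidueField R)) ∘ₗ
    (Ideal.Cotangent.equivOfEq _ _ (ker_algebraMap_residueField (R := R)).symm).toLinearMap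

/-- the map `m/m² → κ ⊗ Ω_{R/k}`, `κ`-linear version -/
noncomputable def cotToTensor :
    CotangentSpace R →ₗ[ResidueField R] (ResidueField R) ⊗[R] Ω[R⁄k] :=
  LinearMap.extendScalarsOfSurjective (residue_surjective (R := R)) (cotToTensor₀ k)

theorem range_cotToTensor :
    LinearMap.range (cotToTensor k (R := R)) =
      LinearMap.ker (KaehlerDifferential.mapBaseChange k R (ResidueField R)) := by
  have h := KaehlerDifferential.range_kerCotangentToTensor k R (ResidueField R)
    (residue_surjective (R := R))
  ext y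
  have h2 := SetLike.ext_iff.mp h y
  rw [Submodule.restrictScalars_mem] at h2
  rw [← h2]
  constructor
  · rintro ⟨x, rfl⟩
    exact ⟨(Ideal.Cotangent.equivOfEq _ _ (ker_algebraMap_residueField (R := R)).symm) x, rfl⟩
  · rintro ⟨x, rfl⟩
    refine ⟨(Ideal.Cotangent.equivOfEq _ _ (ker_algebraMap_residueField (R := R)).symm).symm x, ?_⟩
    show KaehlerDifferential.kerCotangentToTensor k R (ResidueField R)
      ((Ideal.Cotangent.equivOfEq _ _ (ker_algebraMap_residueField (R := R)).symm)
        ((Ideal.Cotangent.equivOfEq _ _ (ker_algebraMap_residueField (R := R)).symm).symm x)) = _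
    rw [LinearEquiv.apply_symm_apply]

theorem finite_residue_tensor_kaehler [IsNoetherianRing R]
    [Module.Finite (ResidueField R) (Ω[ResidueField R⁄k])] :
    Module.Finite (ResidueField R) (ResidueField R ⊗[R] Ω[R⁄k]) := by
  let g := KaehlerDifferential.mapBaseChange k R (ResidueField R)
  have hg : Function.Surjective g :=
    KaehlerDifferential.mapBaseChange_surjective k R (ResidueField R) residue_surjective
  haveI : Module.Finite (ResidueField R) (LinearMap.ker g) := by
    rw [← range_cotToTensor]; infer_instance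
  haveI : Module.Finite (ResidueField R) ((ResidueField R ⊗[R] Ω[R⁄k]) ⧸ LinearMap.ker g) :=
    Module.Finite.equiv (g.quotKerEquivOfSurjective hg).symm
  exact Module.Finite.of_submodule_quotient (LinearMap.ker g)

end CotK

section Coker

variable (k K L : Type*) [CommRing k] [CommRing K] [CommRing L] [Algebra k K] [Algebra K L]
  [Algebra k L] [IsScalarTower k K L]

/-- the cokernel of `L ⊗ Ω_{K/k} → Ω_{L/k}` is `Ω_{L/K}` (rings) -/
noncomputable def cokerEquivRing :
    (Ω[L⁄k] ⧸ LinearMap.range (KaehlerDifferential.mapBaseChange k K L)) ≃ₗ[L] Ω[L⁄K] :=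
  (Submodule.quotEquivOfEq _ _
    (KaehlerDifferential.exact_mapBaseChange_map k K L).linearMap_ker_eq.symm).trans
    ((KaehlerDifferential.map k K L L).quotKerEquivOfSurjective
      (KaehlerDifferential.map_surjective k K L))

end Coker

section Section

/-- a complete local ring containing a field has a coefficient field -/
theorem exists_section (k₀ : Type u) {A : Type u} [Field k₀] [CommRing A] [IsLocalRing A]
    [Algebra k₀ A] [IsAdicComplete (maximalIdeal A) A] :
    ∃ σ : ResidueField A →+* A, ∀ x, residue A (σ x) = x := by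
  haveI key : Algebra.FormallySmooth (⊥ : Subfield k₀) (ResidueField A) := by
    obtain ⟨p, hp⟩ := CharP.exists k₀
    rcases CharP.char_is_prime_or_zero k₀ p with hp' | rfl
    · haveI : Fact p.Prime := ⟨hp'⟩
      haveI : CharP (⊥ : Subfield k₀) p :=
        (RingHom.charP_iff _ (algebraMap (⊥ : Subfield k₀) k₀).injective p).mpr inferInstance
      haveI : Fintype (⊥ : Subfield k₀) := Subfield.fintypeBot k₀ p
      haveI : PerfectRing (⊥ : Subfield k₀) p := PerfectRing.ofFiniteOfIsReduced p _
      haveI : CharP (ResidueField A) p :=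
        charP_of_injective_algebraMap (algebraMap k₀ (ResidueField A)).injective p
      exact Groth.Agent.Lib.Helper96.formallySmooth_of_perfectRing_charP p
    · haveI : CharZero k₀ := CharP.charP_to_charZero k₀
      haveI : CharZero (⊥ : Subfield k₀) :=
        (RingHom.charZero_iff (algebraMap (⊥ : Subfield k₀) k₀).injective).mpr inferInstance
      exact Groth.Agent.Lib.Helper96.formallySmooth_of_charZero
  obtain ⟨g, hg⟩ := Algebra.FormallySmooth.exists_mkₐ_comp_eq_of_isAdicComplete
    (R := (⊥ : Subfield k₀)) (A := ResidueField A) (S := A) (I := maximalIdeal A)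
    (AlgHom.id (⊥ : Subfield k₀) (ResidueField A))
  exact ⟨g.toRingHom, fun x => DFunLike.congr_fun hg x⟩

end Section

section Main

variable {k₀ A : Type u} [Field k₀] [CommRing A] [IsLocalRing A] [IsNoetherianRing A]
  [Algebra k₀ A] [IsAdicComplete (maximalIdeal A) A]

theorem main (hfs : CAlgX.IsAdicFormallySmooth k₀ A (maximalIdeal A))
    [Algebra.EssFiniteType k₀ (ResidueField A)] :
    Module.Finite A (AdicCompletion (maximalIdeal A) (Ω[A⁄k₀])) ∧
      Module.Free A (AdicCompletion (maximalIdeal A) (Ω[A⁄k₀])) ∧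
      (Module.finrank A (AdicCompletion (maximalIdeal A) (Ω[A⁄k₀])) : WithBot ℕ∞) =
        ringKrullDim A + (Cardinal.toNat (Algebra.trdeg k₀ (ResidueField A)) : WithBot ℕ∞) := by
  haveI hfin : Module.Finite (ResidueField A) (ResidueField A ⊗[A] Ω[A⁄k₀]) :=
    finite_residue_tensor_kaehler k₀
  -- a basis of `K ⊗ Ω` lifted to `Ω`
  set N := Module.finrank (ResidueField A) (ResidueField A ⊗[A] Ω[A⁄k₀]) with hN
  let b : Module.Basis (Fin N) (ResidueField A) (ResidueField A ⊗[A] Ω[A⁄k₀]) :=
    Module.finBasis (ResidueField A) _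
  have hmk : Function.Surjective (TensorProduct.mk A (ResidueField A) (Ω[A⁄k₀]) 1) :=
    TensorProduct.mk_surjective A _ (ResidueField A) residue_surjective
  choose ω hω using fun i => hmk (b i)
  have hfun : (fun i => (1 : ResidueField A) ⊗ₜ[A] ω i) = b := funext hω
  have hli : LinearIndependent (ResidueField A) (fun i => (1 : ResidueField A) ⊗ₜ[A] ω i) := by
    rw [hfun]; exact b.linearIndependent
  have hsp : Submodule.span (ResidueField A)
      (Set.range fun i => (1 : ResidueField A) ⊗ₜ[A] ω i) = ⊤ := by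
    rw [hfun]; exact b.span_eq
  have hflat : ∀ n, Module.Flat (A ⧸ maximalIdeal A ^ n)
      ((A ⧸ maximalIdeal A ^ n) ⊗[A] Ω[A⁄k₀]) := fun n => by
    haveI := FSProj.projective_quotient_tensor_kaehler (maximalIdeal A) n hfs
    infer_instance
  obtain ⟨e⟩ := OmegaHat.exists_linearEquiv ω hflat hli hsp
  refine ⟨Module.Finite.equiv e, Module.Free.of_equiv e, ?_⟩
  have hrank : Module.finrank A (AdicCompletion (maximalIdeal A) (Ω[A⁄k₀])) = N := by
    rw [← e.finrank_eq, Module.finrank_fin_fun]
  -- the index computation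
  have hinj := FSInj.baseChange_mapBaseChange_injective hfs
  let ec : ((ResidueField A ⊗[A] Ω[A⁄ℤ]) ⧸ LinearMap.range
        ((KaehlerDifferential.mapBaseChange ℤ k₀ A).baseChange (ResidueField A))) ≃ₗ[ResidueField A]
      ResidueField A ⊗[A] Ω[A⁄k₀] :=
    (cokerBaseChangeEquiv (C := ResidueField A) (KaehlerDifferential.mapBaseChange ℤ k₀ A)).trans
      (LinearEquiv.baseChange A (ResidueField A) _ _ (cokerEquivRing ℤ k₀ A))
  have hτ : IsFred ((KaehlerDifferential.mapBaseChange ℤ k₀ A).baseChange (ResidueField A)) :=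
    ⟨by rw [LinearMap.ker_eq_bot.mpr hinj]; infer_instance, Module.Finite.equiv ec.symm⟩
  have hτi : ((KaehlerDifferential.mapBaseChange ℤ k₀ A).baseChange (ResidueField A)).index =
      -(N : ℤ) := by
    rw [LinearMap.index_of_injective hinj, ec.finrank_eq]
  obtain ⟨σ, hσ⟩ := exists_section k₀ (A := A)
  obtain ⟨hres, hresi⟩ := isFred_residue σ hσ
  obtain ⟨-, htowi⟩ := isFred_tower_int k₀ A (ResidueField A) hτ hres
  obtain ⟨-, hcart⟩ := isFred_of_essFiniteType k₀ (ResidueField A)
  have htowi := (hcart.symm.trans htowi).trans (congrArg₂ (· + ·) hresi hτi)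
  have hNeq : N = Module.finrank (ResidueField A) (CotangentSpace A) +
      Cardinal.toNat (Algebra.trdeg k₀ (ResidueField A)) := by
    have : (N : ℤ) = (Module.finrank (ResidueField A) (CotangentSpace A) : ℤ) +
        (Cardinal.toNat (Algebra.trdeg k₀ (ResidueField A)) : ℤ) := by linarith
    exact_mod_cast this
  have hreg : IsRegularLocalRing A :=
    (Groth.Agent.Lib.Helper96.isRegular_and_completion_of_adicFormallySmooth hfs).1
  have hdim := (IsRegularLocalRing.iff_finrank_cotangentSpace A).mp hreg
  rw [hrank, hNeq, ← hdim]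
  push_cast
  rfl

end Main

end Groth.Agent.Lib.Helper13.S2476Lib
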