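import Mathlib
import Groth.Agent.Lib.Helper13.GenPos
import Groth.Agent.S4558

/-!
# Units making differentials generate the localized completed Kähler module (helper13)
-/

namespace Groth.Agent.Lib.Helper13.S5080Lib

open IsLocalRing

universe u

section General

variable {A : Type*} [CommRing A]

theorem mem_of_smul_mem {p : Ideal A} [p.IsPrime] {N : Type*} [AddCommGroup N] [Module A N]
    [Module (Localization.AtPrime p) N] [IsScalarTower A (Localization.AtPrime p) N]
    (T : Submodule (Localization.AtPrime p) N) (x : A) (hx : x ∉ p) (n : N) (h : x • n ∈ T) :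
    n ∈ T := by
  have hu : IsUnit (algebraMap A (Localization.AtPrime p) x) :=
    IsLocalization.map_units _ (⟨x, hx⟩ : p.primeCompl)
  obtain ⟨u, hu⟩ := hu
  have : n = (↑u⁻¹ : Localization.AtPrime p) • (x • n) := by
    rw [← algebraMap_smul (Localization.AtPrime p) x n, ← hu, smul_smul, Units.inv_mul, one_smul]
  rw [this]; exact T.smul_mem _ h

theorem isUnit_one_add [IsLocalRing A] (z : A) (hz : z ∈ maximalIdeal A) : IsUnit (1 + z) := by
  by_contra h
  have h1 : 1 + z ∈ maximalIdeal A := (IsLocalRing.mem_maximalIdeal _).mpr h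
  have h2 : (1 : A) ∈ maximalIdeal A := by
    have := (maximalIdeal A).sub_mem h1 hz
    rwa [add_sub_cancel_right] at this
  exact (Ideal.ne_top_iff_one _).mp (IsLocalRing.maximalIdeal.isMaximal A).ne_top h2

end General

variable (k A : Type u) [Field k] [CommRing A] [IsLocalRing A] [IsNoetherianRing A] [Algebra k A]
  [IsAdicComplete (maximalIdeal A) A] [Module.Finite k (ResidueField A)]

theorem finite_W : Module.Finite A (AdicCompletion (maximalIdeal A) (Ω[A⁄k])) := by
  haveI : Module.Finite (ResidueField A) (Ω[ResidueField A⁄k]) := inferInstance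
  haveI h1 : Module.Finite (A ⧸ maximalIdeal A) (Ω[A ⧸ maximalIdeal A⁄k]) :=
    inferInstanceAs (Module.Finite (ResidueField A) (Ω[ResidueField A⁄k]))
  haveI h2 : Module.Finite (A ⧸ maximalIdeal A) (maximalIdeal A).Cotangent :=
    inferInstanceAs (Module.Finite (ResidueField A) (CotangentSpace A))
  exact Groth.Agent.S4558.result (A := k) (B := A) (maximalIdeal A)

theorem span_range_of_D :
    Submodule.span A (Set.range fun a : A =>
      AdicCompletion.of (maximalIdeal A) (Ω[A⁄k]) (KaehlerDifferential.D k A a)) = ⊤ := by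
  haveI := finite_W k A
  have hι : ∀ ω : Ω[A⁄k], AdicCompletion.of (maximalIdeal A) _ ω ∈
      Submodule.span A (Set.range fun a : A =>
        AdicCompletion.of (maximalIdeal A) (Ω[A⁄k]) (KaehlerDifferential.D k A a)) := by
    intro ω
    have : ω ∈ Submodule.span A (Set.range (KaehlerDifferential.D k A)) := by
      rw [KaehlerDifferential.span_range_derivation]; trivial
    induction this using Submodule.span_induction with
    | mem x hx => obtain ⟨a, rfl⟩ := hx; exact Submodule.subset_span ⟨a, rfl⟩
    | zero => rw [map_zero]; exact zero_mem _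
    | add x y _ _ hx hy => rw [map_add]; exact add_mem hx hy
    | smul a x _ hx => rw [map_smul]; exact Submodule.smul_mem _ _ hx
  have hle : (⊤ : Submodule A (AdicCompletion (maximalIdeal A) (Ω[A⁄k]))) ≤
      Submodule.span A (Set.range fun a : A =>
        AdicCompletion.of (maximalIdeal A) (Ω[A⁄k]) (KaehlerDifferential.D k A a)) ⊔
        maximalIdeal A • ⊤ := by
    intro w _
    obtain ⟨ω, hω⟩ := Submodule.Quotient.mk_surjective _
      (AdicCompletion.eval (maximalIdeal A) (Ω[A⁄k]) 1 w)
    have hker : w - AdicCompletion.of (maximalIdeal A) _ ω ∈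
        (maximalIdeal A • ⊤ : Submodule A (AdicCompletion (maximalIdeal A) (Ω[A⁄k]))) := by
      have hk : (maximalIdeal A • ⊤ : Submodule A (AdicCompletion (maximalIdeal A) (Ω[A⁄k]))) =
          LinearMap.ker (AdicCompletion.eval (maximalIdeal A) (Ω[A⁄k]) 1) := by
        have := AdicCompletion.pow_smul_top_eq_ker_eval (I := maximalIdeal A) (M := Ω[A⁄k])
          (n := 1) (IsNoetherian.noetherian _)
        rw [← this, pow_one]
      rw [hk, LinearMap.mem_ker, map_sub, AdicCompletion.eval_of, ← hω]
      exact sub_self _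
    have : w = AdicCompletion.of (maximalIdeal A) _ ω +
        (w - AdicCompletion.of (maximalIdeal A) _ ω) := by abel
    rw [this]
    exact Submodule.add_mem_sup (hι ω) hker
  exact eq_top_iff.mpr (Submodule.le_of_le_smul_of_le_jacobson_bot Module.Finite.fg_top
    (maximalIdeal_le_jacobson ⊥) hle)

theorem main' (p : Ideal A) [p.IsPrime] (M : ℕ)
    (hM : M = Module.finrank (ResidueField (Localization.AtPrime p))
      (TensorProduct (Localization.AtPrime p) (ResidueField (Localization.AtPrime p))
        (LocalizedModule p.primeCompl (AdicCompletion (maximalIdeal A) (Ω[A⁄k])))))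
    (x : Fin M → A) (hx : ∀ i, x i ∈ maximalIdeal A ∧ x i ∉ p) :
    ∃ u : Fin M → Aˣ, Submodule.span (Localization.AtPrime p)
      (Set.range (fun i => LocalizedModule.mkLinearMap p.primeCompl
        (AdicCompletion (maximalIdeal A) (Ω[A⁄k]))
        (AdicCompletion.of (maximalIdeal A) (Ω[A⁄k])
          (KaehlerDifferential.D k A ((u i : A) * x i))))) = ⊤ := by
  classical
  haveI := finite_W k A
  haveI : Module.Finite (Localization.AtPrime p) (LocalizedModule p.primeCompl
      (AdicCompletion (maximalIdeal A) (Ω[A⁄k]))) :=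
    Module.Finite.of_isLocalizedModule p.primeCompl (LocalizedModule.mkLinearMap p.primeCompl
      (AdicCompletion (maximalIdeal A) (Ω[A⁄k])))
  -- the additive map `δ`
  let δ : A →+ LocalizedModule p.primeCompl (AdicCompletion (maximalIdeal A) (Ω[A⁄k])) :=
    (LocalizedModule.mkLinearMap p.primeCompl
      (AdicCompletion (maximalIdeal A) (Ω[A⁄k]))).toAddMonoidHom.comp
    ((AdicCompletion.of (maximalIdeal A) (Ω[A⁄k])).toAddMonoidHom.comp
      (KaehlerDifferential.D k A).toLinearMap.toAddMonoidHom)
  have hδ : ∀ a, δ a = LocalizedModule.mkLinearMap p.primeCompl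
      (AdicCompletion (maximalIdeal A) (Ω[A⁄k]))
      (AdicCompletion.of (maximalIdeal A) (Ω[A⁄k]) (KaehlerDifferential.D k A a)) := fun a => rfl
  have hδmul : ∀ a b, δ (a * b) = a • δ b + b • δ a := by
    intro a b
    rw [hδ, hδ, hδ, Derivation.leibniz, map_add, map_add, map_smul, map_smul, map_smul, map_smul]
  -- the subgroups
  let Wg : Fin M → AddSubgroup (LocalizedModule p.primeCompl
      (AdicCompletion (maximalIdeal A) (Ω[A⁄k]))) := fun i =>
    AddSubgroup.map (δ.comp (AddMonoidHom.mulRight (x i))) (maximalIdeal A).toAddSubgroup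
  have hWg : ∀ i z, z ∈ maximalIdeal A → δ (z * x i) ∈ Wg i := by
    intro i z hz
    exact ⟨z, hz, rfl⟩
  have hW : ∀ i, Submodule.span (Localization.AtPrime p)
      ((Wg i : Set (LocalizedModule p.primeCompl
        (AdicCompletion (maximalIdeal A) (Ω[A⁄k])))) ∪ {δ (x i)}) = ⊤ := by
    intro i
    have hv : δ (x i) ∈ Submodule.span (Localization.AtPrime p)
        ((Wg i : Set (LocalizedModule p.primeCompl
          (AdicCompletion (maximalIdeal A) (Ω[A⁄k])))) ∪ {δ (x i)}) :=
      Submodule.subset_span (Or.inr rfl)
    have hAsmul : ∀ (a : A) (n : LocalizedModule p.primeCompl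
        (AdicCompletion (maximalIdeal A) (Ω[A⁄k]))),
        n ∈ Submodule.span (Localization.AtPrime p)
          ((Wg i : Set (LocalizedModule p.primeCompl
            (AdicCompletion (maximalIdeal A) (Ω[A⁄k])))) ∪ {δ (x i)}) →
        a • n ∈ Submodule.span (Localization.AtPrime p)
          ((Wg i : Set (LocalizedModule p.primeCompl
            (AdicCompletion (maximalIdeal A) (Ω[A⁄k])))) ∪ {δ (x i)}) := by
      intro a n hn
      rw [← algebraMap_smul (Localization.AtPrime p) a n]
      exact Submodule.smul_mem _ _ hn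
    have h1 : ∀ z ∈ maximalIdeal A, δ z ∈ Submodule.span (Localization.AtPrime p)
        ((Wg i : Set (LocalizedModule p.primeCompl
          (AdicCompletion (maximalIdeal A) (Ω[A⁄k])))) ∪ {δ (x i)}) := by
      intro z hz
      apply mem_of_smul_mem _ (x i) (hx i).2
      have : x i • δ z = δ (z * x i) - z • δ (x i) := by
        rw [hδmul]; abel
      rw [this]
      exact sub_mem (Submodule.subset_span (Or.inl (hWg i z hz))) (hAsmul z _ hv)
    have h2 : ∀ a, δ a ∈ Submodule.span (Localization.AtPrime p)
        ((Wg i : Set (LocalizedModule p.primeCompl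
          (AdicCompletion (maximalIdeal A) (Ω[A⁄k])))) ∪ {δ (x i)}) := by
      intro a
      apply mem_of_smul_mem _ (x i) (hx i).2
      have : x i • δ a = δ (x i * a) - a • δ (x i) := by
        rw [hδmul]; abel
      rw [this]
      exact sub_mem (h1 _ (Ideal.mul_mem_right _ _ (hx i).1)) (hAsmul a _ hv)
    have h3 : ∀ w : AdicCompletion (maximalIdeal A) (Ω[A⁄k]),
        LocalizedModule.mkLinearMap p.primeCompl _ w ∈ Submodule.span (Localization.AtPrime p)
        ((Wg i : Set (LocalizedModule p.primeCompl
          (AdicCompletion (maximalIdeal A) (Ω[A⁄k])))) ∪ {δ (x i)}) := by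
      intro w
      have hw : w ∈ Submodule.span A (Set.range fun a : A =>
          AdicCompletion.of (maximalIdeal A) (Ω[A⁄k]) (KaehlerDifferential.D k A a)) := by
        rw [span_range_of_D]; trivial
      induction hw using Submodule.span_induction with
      | mem y hy => obtain ⟨a, rfl⟩ := hy; exact h2 a
      | zero => rw [map_zero]; exact zero_mem _
      | add y y' _ _ hy hy' => rw [map_add]; exact add_mem hy hy'
      | smul a y _ hy => rw [map_smul]; exact hAsmul a _ hy
    rw [eq_top_iff]
    intro n _
    induction n using LocalizedModule.induction_on with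
    | _ w s =>
      have : LocalizedModule.mk w s = (Localization.mk 1 s : Localization.AtPrime p) •
          LocalizedModule.mkLinearMap p.primeCompl _ w := by
        rw [LocalizedModule.mkLinearMap_apply, LocalizedModule.mk_smul_mk, one_smul, mul_one]
      rw [this]
      exact Submodule.smul_mem _ _ (h3 w)
  obtain ⟨y, hy, hspan⟩ := GenPos.exists_span_eq_top_add M hM (fun i => δ (x i)) Wg hW
  have hy' : ∀ i, ∃ z ∈ maximalIdeal A, δ (z * x i) = y i := by
    intro i
    obtain ⟨z, hz, hzy⟩ := hy i
    exact ⟨z, hz, hzy⟩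
  choose z hz hzy using hy'
  refine ⟨fun i => (isUnit_one_add (z i) (hz i)).unit, ?_⟩
  have hfun : (fun i => LocalizedModule.mkLinearMap p.primeCompl
        (AdicCompletion (maximalIdeal A) (Ω[A⁄k]))
        (AdicCompletion.of (maximalIdeal A) (Ω[A⁄k])
          (KaehlerDifferential.D k A ((((isUnit_one_add (z i) (hz i)).unit : Aˣ) : A) * x i)))) =
      fun i => δ (x i) + y i := by
    funext i
    rw [← hδ, IsUnit.unit_spec, ← hzy i, ← map_add, add_mul, one_mul]
  rw [hfun]
  exact hspan

theorem main (p : Ideal A) [p.IsPrime] (M : ℕ)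
    (hgen : ∃ s : Fin M → (LocalizedModule p.primeCompl
      (AdicCompletion (maximalIdeal A) (Ω[A⁄k]))),
      Submodule.span (Localization.AtPrime p) (Set.range s) = ⊤)
    (hmin : ∀ (s : Finset (LocalizedModule p.primeCompl
      (AdicCompletion (maximalIdeal A) (Ω[A⁄k])))),
      Submodule.span (Localization.AtPrime p) (↑s : Set (LocalizedModule p.primeCompl
        (AdicCompletion (maximalIdeal A) (Ω[A⁄k])))) = ⊤ → M ≤ s.card)
    (x : Fin M → A) (hx : ∀ i, x i ∈ maximalIdeal A ∧ x i ∉ p) :
    ∃ u : Fin M → Aˣ, Submodule.span (Localization.AtPrime p)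
      (Set.range (fun i => LocalizedModule.mkLinearMap p.primeCompl
        (AdicCompletion (maximalIdeal A) (Ω[A⁄k]))
        (AdicCompletion.of (maximalIdeal A) (Ω[A⁄k])
          (KaehlerDifferential.D k A ((u i : A) * x i))))) = ⊤ := by
  haveI := finite_W k A
  haveI : Module.Finite (Localization.AtPrime p) (LocalizedModule p.primeCompl
      (AdicCompletion (maximalIdeal A) (Ω[A⁄k]))) :=
    Module.Finite.of_isLocalizedModule p.primeCompl (LocalizedModule.mkLinearMap p.primeCompl
      (AdicCompletion (maximalIdeal A) (Ω[A⁄k])))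
  exact main' k A p M (GenPos.finrank_eq_of_min M hgen hmin).symm x hx

end Groth.Agent.Lib.Helper13.S5080Lib
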