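import Mathlib

/-!
# Upper semicontinuity of the fibre rank of a finite module (helper13)

For a finite `A`-module `M`, a prime `p` and a field `F` over `A` in which all elements outside `p`
become nonzero, `dim_F (F ⊗ M) ≤ dim_{κ(p)} (κ(p) ⊗ M)`.
-/

namespace Groth.Agent.Lib.Helper13.SemiCont

open TensorProduct

universe u

section

variable {A : Type*} [CommRing A] {M : Type*} [AddCommGroup M] [Module A M]

/-- the pure tensors `1 ⊗ m` span `F ⊗ M` over `F` -/
theorem span_one_tmul (F : Type*) [CommRing F] [Algebra A F] :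
    Submodule.span F (Set.range fun m : M => (1 : F) ⊗ₜ[A] m) = ⊤ := by
  rw [eq_top_iff]
  rintro x -
  induction x using TensorProduct.induction_on with
  | zero => exact zero_mem _
  | tmul c m =>
    have : c ⊗ₜ[A] m = c • ((1 : F) ⊗ₜ[A] m) := by
      rw [TensorProduct.smul_tmul', smul_eq_mul, mul_one]
    rw [this]
    exact Submodule.smul_mem _ _ (Submodule.subset_span ⟨m, rfl⟩)
  | add x y hx hy => exact add_mem hx hy

variable [Module.Finite A M]

theorem finrank_tensor_le (p : Ideal A) [p.IsPrime] (F : Type*) [Field F] [Algebra A F]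
    (hF : ∀ a : A, a ∉ p → algebraMap A F a ≠ 0) :
    Module.finrank F (F ⊗[A] M) ≤ Module.finrank p.ResidueField (p.ResidueField ⊗[A] M) := by
  classical
  obtain ⟨f, hfmem, hfspan, -⟩ := Submodule.exists_fun_fin_finrank_span_eq p.ResidueField
    (Set.range fun m : M => (1 : p.ResidueField) ⊗ₜ[A] m)
  have hfspan : Submodule.span p.ResidueField (Set.range f) = ⊤ :=
    hfspan.trans (span_one_tmul (A := A) (M := M) p.ResidueField)
  have hr : Module.finrank p.ResidueField
      (Submodule.span p.ResidueField (Set.range fun m : M => (1 : p.ResidueField) ⊗ₜ[A] m)) =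
      Module.finrank p.ResidueField (p.ResidueField ⊗[A] M) := by
    rw [span_one_tmul, finrank_top]
  choose g hg using hfmem
  -- the submodule generated by the lifts
  set M' : Submodule A M := Submodule.span A (Set.range g) with hM'
  -- `κ(p) ⊗ (M ⧸ M') = 0`
  have hsub : Subsingleton (p.ResidueField ⊗[A] (M ⧸ M')) := by
    have hzero : ∀ m : M, (1 : p.ResidueField) ⊗ₜ[A] (M'.mkQ m) = 0 := by
      intro m
      have hm : (1 : p.ResidueField) ⊗ₜ[A] m ∈
          Submodule.span p.ResidueField (Set.range f) := by rw [hfspan]; trivial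
      have hmap : ∀ y ∈ Submodule.span p.ResidueField (Set.range f),
          (AlgebraTensorModule.lTensor p.ResidueField p.ResidueField M'.mkQ) y = 0 := by
        intro y hy
        induction hy using Submodule.span_induction with
        | mem y hy =>
          obtain ⟨i, rfl⟩ := hy
          rw [← hg i]
          show (1 : p.ResidueField) ⊗ₜ[A] (M'.mkQ (g i)) = 0
          rw [Submodule.mkQ_apply,
            (Submodule.Quotient.mk_eq_zero M').mpr (Submodule.subset_span ⟨i, rfl⟩),
            TensorProduct.tmul_zero]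
        | zero => rw [map_zero]
        | add y z _ _ hy hz => rw [map_add, hy, hz, add_zero]
        | smul c y _ hy => rw [map_smul, hy, smul_zero]
      exact hmap _ hm
    refine ⟨fun x y => ?_⟩
    have hx : ∀ z : p.ResidueField ⊗[A] (M ⧸ M'), z = 0 := by
      intro z
      induction z using TensorProduct.induction_on with
      | zero => rfl
      | tmul c m =>
        obtain ⟨m, rfl⟩ := Submodule.Quotient.mk_surjective _ m
        have : c ⊗ₜ[A] (Submodule.Quotient.mk m : M ⧸ M') =
            c • ((1 : p.ResidueField) ⊗ₜ[A] (M'.mkQ m)) := by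
          rw [TensorProduct.smul_tmul', smul_eq_mul, mul_one]; rfl
        rw [this, hzero, smul_zero]
      | add x y hx hy => rw [hx, hy, add_zero]
    rw [hx x, hx y]
  -- hence some `s ∉ p` kills `M ⧸ M'`
  have hnot : (⟨p, inferInstance⟩ : PrimeSpectrum A) ∉ Module.support A (M ⧸ M') := by
    rw [Module.mem_support_iff_nontrivial_residueField_tensorProduct]
    exact not_nontrivial_iff_subsingleton.mpr hsub
  rw [Module.mem_support_iff_of_finite] at hnot
  obtain ⟨s, hsann, hsp⟩ := Set.not_subset.mp hnot
  have hsM : ∀ m : M, s • m ∈ M' := by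
    intro m
    have := Module.mem_annihilator.mp hsann (M'.mkQ m)
    rwa [← map_smul, Submodule.mkQ_apply, Submodule.Quotient.mk_eq_zero] at this
  -- the lifts span `F ⊗ M`
  have hspanF : Submodule.span F (Set.range fun i => (1 : F) ⊗ₜ[A] g i) = ⊤ := by
    rw [eq_top_iff, ← span_one_tmul (A := A) (M := M) F, Submodule.span_le]
    rintro _ ⟨m, rfl⟩
    have hs0 : algebraMap A F s ≠ 0 := hF s hsp
    have h1 : (1 : F) ⊗ₜ[A] m = (algebraMap A F s)⁻¹ • ((1 : F) ⊗ₜ[A] (s • m)) := by
      rw [TensorProduct.tmul_smul, ← algebraMap_smul F s ((1 : F) ⊗ₜ[A] m), smul_smul,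
        inv_mul_cancel₀ hs0, one_smul]
    show (1 : F) ⊗ₜ[A] m ∈ Submodule.span F (Set.range fun i => (1 : F) ⊗ₜ[A] g i)
    rw [h1]
    refine Submodule.smul_mem _ _ ?_
    have hmem : ∀ y ∈ M', (1 : F) ⊗ₜ[A] y ∈
        Submodule.span F (Set.range fun i => (1 : F) ⊗ₜ[A] g i) := by
      intro y hy
      induction hy using Submodule.span_induction with
      | mem y hy => obtain ⟨i, rfl⟩ := hy; exact Submodule.subset_span ⟨i, rfl⟩
      | zero => rw [TensorProduct.tmul_zero]; exact zero_mem _
      | add y z _ _ hy hz => rw [TensorProduct.tmul_add]; exact add_mem hy hz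
      | smul a y _ hy =>
        rw [TensorProduct.tmul_smul, ← algebraMap_smul F a ((1 : F) ⊗ₜ[A] y)]
        exact Submodule.smul_mem _ _ hy
    exact hmem _ (hsM m)
  have := finrank_le_of_span_eq_top hspanF
  rw [Fintype.card_fin, hr] at this
  exact this

end

end Groth.Agent.Lib.Helper13.SemiCont
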