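import Mathlib
import Groth.Agent.Lib.Helper13.GenRank
import Groth.Agent.Lib.Helper13.SemiCont
import Groth.Agent.Lib.Helper13.ComplDiff3
import Groth.Agent.Lib.Helper13.S5080Lib
import Groth.Agent.Lib.Helper64.CRingQuot
import Groth.Agent.Lib.Helper76.PSDim
import Groth.Agent.S2460

/-!
# Rank of completed differentials at a prime is at least the dimension (helper13)
-/

set_option autoImplicit false

namespace Groth.Agent.Lib.Helper13.S3847Lib

open TensorProduct KaehlerDifferential IsLocalRing

universe u

set_option maxHeartbeats 800000 in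
theorem le_rank_generic (k A B P : Type u) [Field k] [CommRing A] [IsLocalRing A]
    [IsNoetherianRing A] [Algebra k A] [IsAdicComplete (maximalIdeal A) A]
    [CommRing B] [IsDomain B] [Algebra A B] [Algebra k B] [IsScalarTower k A B]
    (hAB : Function.Surjective (algebraMap A B))
    [CommRing P] [IsDomain P] [Algebra k P] [Algebra P B] [IsScalarTower k P B]
    [Module.Finite P B] (hPB : Function.Injective (algebraMap P B))
    {n : ℕ} (δ : Fin n → Derivation k P P) (t : Fin n → P)
    (hδ : ∀ i j, δ i (t j) = if i = j then 1 else 0) :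
    (n : Cardinal) ≤ Module.rank (FractionRing B)
      (FractionRing B ⊗[A] AdicCompletion (maximalIdeal A) (Ω[A⁄k])) := by
  classical
  haveI : IsScalarTower P B (FractionRing B) := inferInstance
  haveI : FaithfulSMul P B := (faithfulSMul_iff_algebraMap_injective P B).mpr hPB
  haveI : FaithfulSMul P (FractionRing B) :=
    (faithfulSMul_iff_algebraMap_injective P (FractionRing B)).mpr
      (by
        rw [IsScalarTower.algebraMap_eq P B (FractionRing B)]
        exact (IsFractionRing.injective B (FractionRing B)).comp hPB)
  letI : Algebra (FractionRing P) (FractionRing B) := FractionRing.liftAlgebra P (FractionRing B)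
  haveI : IsScalarTower P (FractionRing P) (FractionRing B) :=
    FractionRing.isScalarTower_liftAlgebra P (FractionRing B)
  haveI : IsScalarTower k P (FractionRing B) := IsScalarTower.of_algebraMap_eq (fun r => by
    rw [IsScalarTower.algebraMap_apply k B (FractionRing B),
      IsScalarTower.algebraMap_apply k P B, ← IsScalarTower.algebraMap_apply P B (FractionRing B)])
  haveI : IsScalarTower k (FractionRing P) (FractionRing B) :=
    IsScalarTower.of_algebraMap_eq (fun r => by
      rw [IsScalarTower.algebraMap_apply k P (FractionRing P),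
        ← IsScalarTower.algebraMap_apply P (FractionRing P) (FractionRing B),
        ← IsScalarTower.algebraMap_apply k P (FractionRing B)])
  haveI : Algebra.IsAlgebraic P B := inferInstance
  haveI : Module.Finite (FractionRing P) (FractionRing B) :=
    Module.Finite.of_isLocalization P B (nonZeroDivisors P)
  obtain ⟨Y', hrank, ι, _, z, hz⟩ := GenRank.exists_quotient k P B (FractionRing P)
    (FractionRing B) δ t hδ
  haveI : IsScalarTower k A (FractionRing B) := IsScalarTower.of_algebraMap_eq (fun r => by
    rw [IsScalarTower.algebraMap_apply k B (FractionRing B),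
      IsScalarTower.algebraMap_apply k A B, ← IsScalarTower.algebraMap_apply A B (FractionRing B)])
  -- the linear map on `Ω[A⁄k]`
  let ψ : Ω[A⁄k] →ₗ[A] (Ω[FractionRing B⁄k] ⧸ Y') :=
    (Y'.mkQ.restrictScalars A) ∘ₗ (KaehlerDifferential.map k k A (FractionRing B))
  have hψD : ∀ a : A, ψ (D k A a) = Y'.mkQ (D k (FractionRing B) (algebraMap A (FractionRing B) a)) := by
    intro a
    show Y'.mkQ (KaehlerDifferential.map k k A (FractionRing B) (D k A a)) = _
    rw [KaehlerDifferential.map_D]
  have hrange : LinearMap.range ψ ≤ Submodule.span A (Set.range z) := by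
    rintro _ ⟨ω, rfl⟩
    have hω : ω ∈ Submodule.span A (Set.range (D k A)) := by
      rw [KaehlerDifferential.span_range_derivation]; trivial
    induction hω using Submodule.span_induction with
    | mem x hx =>
      obtain ⟨a, rfl⟩ := hx
      obtain ⟨c, hc⟩ := hz (algebraMap A B a)
      rw [hψD, IsScalarTower.algebraMap_apply A B (FractionRing B), hc]
      refine Submodule.sum_mem _ fun i _ => ?_
      obtain ⟨a', ha'⟩ := hAB (c i)
      rw [← ha', ← IsScalarTower.algebraMap_apply A B (FractionRing B), algebraMap_smul]
      exact Submodule.smul_mem _ _ (Submodule.subset_span ⟨i, rfl⟩)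
    | zero => rw [map_zero]; exact zero_mem _
    | add x y _ _ hx hy => rw [map_add]; exact add_mem hx hy
    | smul a x _ hx => rw [map_smul]; exact Submodule.smul_mem _ _ hx
  obtain ⟨ψ', hψ'⟩ := ComplDiff.exists_extend (maximalIdeal A) ψ (Submodule.span A (Set.range z))
    (Submodule.fg_span (Set.finite_range z)) hrange
  let Ψ : FractionRing B ⊗[A] AdicCompletion (maximalIdeal A) (Ω[A⁄k]) →ₗ[FractionRing B]
      (Ω[FractionRing B⁄k] ⧸ Y') := LinearMap.liftBaseChange (FractionRing B) ψ'
  have hΨsurj : Function.Surjective Ψ := by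
    rw [← LinearMap.range_eq_top, eq_top_iff]
    rintro x -
    obtain ⟨y, rfl⟩ := Y'.mkQ_surjective x
    have hy : y ∈ Submodule.span (FractionRing B)
        (Set.range (KaehlerDifferential.map k k B (FractionRing B) ∘ D k B)) := by
      rw [KaehlerDifferential.span_range_map_derivation_of_isLocalization k B (FractionRing B)
        (nonZeroDivisors B)]
      trivial
    induction hy using Submodule.span_induction with
    | mem x hx =>
      obtain ⟨b, rfl⟩ := hx
      obtain ⟨a, rfl⟩ := hAB b
      refine ⟨(1 : FractionRing B) ⊗ₜ[A] AdicCompletion.of (maximalIdeal A) _ (D k A a), ?_⟩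
      show LinearMap.liftBaseChange (FractionRing B) ψ' _ = _
      rw [LinearMap.liftBaseChange_tmul, one_smul, hψ', hψD, Function.comp_apply,
        KaehlerDifferential.map_D, ← IsScalarTower.algebraMap_apply A B (FractionRing B)]
    | zero => rw [map_zero]; exact zero_mem _
    | add x y _ _ hx hy => rw [map_add]; exact add_mem hx hy
    | smul a x _ hx => rw [map_smul]; exact Submodule.smul_mem _ _ hx
  exact hrank.trans (LinearMap.rank_le_of_surjective Ψ hΨsurj)

/-- integral extensions do not raise the dimension -/
theorem ringKrullDim_le_of_isIntegral {R S : Type*} [CommRing R] [CommRing S] [Algebra R S]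
    [Algebra.IsIntegral R S] : ringKrullDim S ≤ ringKrullDim R := by
  unfold ringKrullDim
  refine Order.krullDim_le_of_strictMono (PrimeSpectrum.comap (algebraMap R S)) ?_
  intro P Q hPQ
  have := Ideal.IsIntegral.comap_lt_comap (R := R) (I := P.asIdeal) (J := Q.asIdeal) hPQ
  exact this

theorem finite_residueField_quotient (k A : Type u) [Field k] [CommRing A] [IsLocalRing A]
    [IsNoetherianRing A] [Algebra k A] [Module.Finite k (ResidueField A)] (q : Ideal A)
    (hq : q ≠ ⊤) :
    haveI := Groth.Agent.Lib.Helper64.isLocalRing_quotient q hq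
    Module.Finite k (ResidueField (A ⧸ q)) := by
  haveI := Groth.Agent.Lib.Helper64.isLocalRing_quotient q hq
  haveI : IsLocalHom (Ideal.Quotient.mk q) :=
    IsLocalHom.of_surjective _ Ideal.Quotient.mk_surjective
  let f : ResidueField A →ₐ[k] ResidueField (A ⧸ q) :=
    { IsLocalRing.ResidueField.map (Ideal.Quotient.mk q) with
      commutes' := fun r => by
        show IsLocalRing.ResidueField.map (Ideal.Quotient.mk q)
          (IsLocalRing.residue A (algebraMap k A r)) = _
        rw [IsLocalRing.ResidueField.map_residue]
        rfl }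
  have hf : Function.Surjective f := by
    intro x
    obtain ⟨b, rfl⟩ := IsLocalRing.residue_surjective x
    obtain ⟨a, rfl⟩ := Ideal.Quotient.mk_surjective b
    exact ⟨IsLocalRing.residue A a, IsLocalRing.ResidueField.map_residue _ a⟩
  exact Module.Finite.of_surjective f.toLinearMap hf

set_option maxHeartbeats 800000 in
theorem main (k A : Type u) [Field k] [CommRing A] [IsLocalRing A] [IsNoetherianRing A]
    [Algebra k A] [IsAdicComplete (maximalIdeal A) A] [Module.Finite k (ResidueField A)]
    (p q : Ideal A) [p.IsPrime] (hq : q ∈ minimalPrimes A) (hqp : q ≤ p) :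
    ringKrullDim (A ⧸ q) ≤
      (Cardinal.toENat (Module.rank p.ResidueField
        (TensorProduct A p.ResidueField
          (AdicCompletion (maximalIdeal A) (KaehlerDifferential k A)))) : WithBot ℕ∞) := by
  classical
  haveI : q.IsPrime := hq.1.1
  have hqne : q ≠ ⊤ := Ideal.IsPrime.ne_top'
  haveI := Groth.Agent.Lib.Helper64.isLocalRing_quotient q hqne
  haveI : IsAdicComplete (maximalIdeal (A ⧸ q)) (A ⧸ q) :=
    Groth.Agent.Lib.Helper64.isAdicComplete_quotient q hqne
  haveI : Module.Finite k (ResidueField (A ⧸ q)) := finite_residueField_quotient k A q hqne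
  obtain ⟨n, w, hwinj, -, hwfin⟩ := Groth.Agent.S2460.result (k₀ := k) (A := A ⧸ q)
  letI : Algebra (MvPowerSeries (Fin n) k) (A ⧸ q) := w.toRingHom.toAlgebra
  haveI : IsScalarTower k (MvPowerSeries (Fin n) k) (A ⧸ q) :=
    IsScalarTower.of_algebraMap_eq (fun r => (w.commutes r).symm)
  haveI : Module.Finite (MvPowerSeries (Fin n) k) (A ⧸ q) := hwfin
  haveI : IsDomain (MvPowerSeries (Fin n) k) := NoZeroDivisors.to_isDomain _
  have h1 := le_rank_generic k A (A ⧸ q) (MvPowerSeries (Fin n) k) Ideal.Quotient.mk_surjective
    hwinj (fun i => MvPowerSeries.pderiv k i) (fun i => MvPowerSeries.X i) (by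
      intro i j
      by_cases hij : i = j
      · subst hij
        rw [if_pos rfl, MvPowerSeries.pderiv_X_self]
      · rw [if_neg hij, MvPowerSeries.pderiv_X_of_ne (Ne.symm hij)])
  haveI := S5080Lib.finite_W k A
  -- dimension
  have hdim : ringKrullDim (A ⧸ q) ≤ (n : WithBot ℕ∞) :=
    (ringKrullDim_le_of_isIntegral (R := MvPowerSeries (Fin n) k)).trans
      (Groth.Agent.Lib.Helper76.PSComplete.ringKrullDim_le_card k n)
  -- semicontinuity
  have h2 := SemiCont.finrank_tensor_le (A := A)
    (M := AdicCompletion (maximalIdeal A) (Ω[A⁄k])) p (FractionRing (A ⧸ q)) (by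
      intro a ha h0
      rw [IsScalarTower.algebraMap_apply A (A ⧸ q) (FractionRing (A ⧸ q))] at h0
      have h3 : algebraMap A (A ⧸ q) a = 0 :=
        (IsFractionRing.injective (A ⧸ q) (FractionRing (A ⧸ q))) (by rw [h0, map_zero])
      exact ha (hqp (Ideal.Quotient.eq_zero_iff_mem.mp h3)))
  have h3 : n ≤ Module.finrank (FractionRing (A ⧸ q))
      (FractionRing (A ⧸ q) ⊗[A] AdicCompletion (maximalIdeal A) (Ω[A⁄k])) := by
    rw [← Module.finrank_eq_rank] at h1
    exact_mod_cast h1
  have h4 : (Cardinal.toENat (Module.rank p.ResidueField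
        (TensorProduct A p.ResidueField
          (AdicCompletion (maximalIdeal A) (KaehlerDifferential k A))))) =
      (Module.finrank p.ResidueField (p.ResidueField ⊗[A]
        AdicCompletion (maximalIdeal A) (Ω[A⁄k])) : ℕ∞) := by
    rw [← Module.finrank_eq_rank, Cardinal.toENat_nat]
  rw [h4]
  refine hdim.trans ?_
  exact_mod_cast h3.trans h2

end Groth.Agent.Lib.Helper13.S3847Lib
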