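import Mathlib
import Groth.Agent.Lib.Helper13.ComplDiff2
import Groth.Agent.Lib.Helper13.ComplDiff3
import Groth.Agent.Lib.Helper13.S5080Lib
import Groth.Agent.Lib.Helper76.PSCRing
import Groth.Agent.S2460
import Groth.Agent.Lib.Helper13.S3847Lib

/-!
# Generators of localized completed differentials and unramified power series subrings (helper13)
-/

set_option autoImplicit false

namespace Groth.Agent.Lib.Helper13.S5054Lib

open TensorProduct KaehlerDifferential IsLocalRing MvPowerSeries
  Groth.Agent.Lib.Helper76.PSComplete Groth.Agent.Lib.Helper13.ComplDiff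

universe u

section Unram

variable (k A : Type u) [Field k] [CommRing A] [IsLocalRing A] [IsNoetherianRing A] [Algebra k A]
  [IsAdicComplete (maximalIdeal A) A] [Module.Finite k (ResidueField A)]
  (p : Ideal A) [p.IsPrime] (m : ℕ)
  [Algebra (MvPowerSeries (Fin m) k) A] [IsScalarTower k (MvPowerSeries (Fin m) k) A]

/-- some `s ∉ p` kills a finite module whose localization at `p` vanishes -/
theorem exists_smul_eq_zero {M : Type*} [AddCommGroup M] [Module A M] [Module.Finite A M]
    (h : Subsingleton (LocalizedModule p.primeCompl M)) : ∃ s : A, s ∉ p ∧ ∀ x : M, s • x = 0 := by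
  have hnot : (⟨p, inferInstance⟩ : PrimeSpectrum A) ∉ Module.support A M :=
    Module.notMem_support_iff.mpr h
  rw [Module.mem_support_iff_of_finite] at hnot
  obtain ⟨s, hsann, hsp⟩ := Set.not_subset.mp hnot
  exact ⟨s, hsp, fun x => Module.mem_annihilator.mp hsann x⟩

set_option maxHeartbeats 800000 in
theorem span_of_unramified (hloc : IsLocalHom (algebraMap (MvPowerSeries (Fin m) k) A))
    [Module.Finite (MvPowerSeries (Fin m) k) A]
    (hunr : Algebra.IsUnramifiedAt (MvPowerSeries (Fin m) k) p) :
    Submodule.span (Localization.AtPrime p) (Set.range fun i : Fin m =>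
      LocalizedModule.mkLinearMap p.primeCompl (AdicCompletion (maximalIdeal A) (Ω[A⁄k]))
        (AdicCompletion.of (maximalIdeal A) (Ω[A⁄k])
          (D k A (algebraMap (MvPowerSeries (Fin m) k) A (X i))))) = ⊤ := by
  classical
  let P := MvPowerSeries (Fin m) k
  haveI := S5080Lib.finite_W k A
  -- `Ω[A⁄P]` localized at `p` vanishes
  haveI : Subsingleton (Ω[Localization.AtPrime p⁄P]) := hunr.subsingleton_kaehlerDifferential
  have hsub : Subsingleton (LocalizedModule p.primeCompl (Ω[A⁄P])) :=
    (IsLocalizedModule.iso p.primeCompl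
      (KaehlerDifferential.map P P A (Localization.AtPrime p))).toEquiv.subsingleton
  obtain ⟨s, hsp, hs⟩ := exists_smul_eq_zero A p hsub
  have hrange : ∀ y : A ⊗[P] Ω[P⁄k], KaehlerDifferential.mapBaseChange k P A y ∈
      U (P := P) (D k A) := by
    intro y
    induction y using TensorProduct.induction_on with
    | zero => rw [map_zero]; exact zero_mem _
    | tmul a η =>
      have hη : η ∈ Submodule.span P (Set.range (D k P)) := by
        rw [KaehlerDifferential.span_range_derivation]; trivial
      induction hη using Submodule.span_induction with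
      | mem x hx =>
        obtain ⟨f, rfl⟩ := hx
        rw [KaehlerDifferential.mapBaseChange_tmul, KaehlerDifferential.map_D]
        exact Submodule.smul_mem _ _ (Submodule.subset_span ⟨f, rfl⟩)
      | zero => rw [TensorProduct.tmul_zero, map_zero]; exact zero_mem _
      | add x y _ _ hx hy => rw [TensorProduct.tmul_add, map_add]; exact add_mem hx hy
      | smul c x _ hx =>
        rw [TensorProduct.tmul_smul, ← algebraMap_smul A c (a ⊗ₜ[P] x), map_smul]
        exact Submodule.smul_mem _ _ hx
    | add x y hx hy => rw [map_add]; exact add_mem hx hy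
  -- hence `s • ω ∈ U`
  have hsU : ∀ ω : Ω[A⁄k], s • ω ∈ U (P := P) (D k A) := by
    intro ω
    have h1 : s • ω ∈ LinearMap.ker (KaehlerDifferential.map k P A A) := by
      rw [LinearMap.mem_ker, map_smul]
      exact hs _
    rw [← KaehlerDifferential.range_mapBaseChange] at h1
    obtain ⟨y, hy⟩ := h1
    rw [← hy]
    exact hrange y
  have hJ : (varIdeal (Fin m) k).map (algebraMap P A) ≤ maximalIdeal A := by
    haveI := hloc
    calc (varIdeal (Fin m) k).map (algebraMap P A) ≤ (maximalIdeal P).map (algebraMap P A) :=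
          Ideal.map_mono Groth.Agent.Lib.Helper76.PSCRing.varIdeal_le_maximalIdeal
      _ ≤ maximalIdeal A := IsLocalRing.map_maximalIdeal_le (algebraMap P A)
  let t : Fin m → Ω[A⁄k] := fun i => D k A (algebraMap P A (X i))
  have hsn : ∀ (ω : Ω[A⁄k]) (n : ℕ), s • ω ∈
      Submodule.span A (Set.range t) ⊔ (maximalIdeal A ^ n • ⊤ : Submodule A (Ω[A⁄k])) :=
    fun ω n => U_le m (D k A) (maximalIdeal A) hJ n (hsU ω)
  have hs' := smul_mem_span_of_forall t s hsn
  rw [eq_top_iff]
  intro z _
  induction z using LocalizedModule.induction_on with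
  | _ w σ =>
    have h1 : LocalizedModule.mk w σ = (Localization.mk 1 σ : Localization.AtPrime p) •
        LocalizedModule.mkLinearMap p.primeCompl _ w := by
      rw [LocalizedModule.mkLinearMap_apply, LocalizedModule.mk_smul_mk, one_smul, mul_one]
    rw [h1]
    refine Submodule.smul_mem _ _ ?_
    apply S5080Lib.mem_of_smul_mem _ s hsp
    rw [← map_smul]
    have h2 := hs' w
    generalize s • w = w' at h2
    induction h2 using Submodule.span_induction with
    | mem y hy => obtain ⟨i, rfl⟩ := hy; exact Submodule.subset_span ⟨i, rfl⟩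
    | zero => rw [map_zero]; exact zero_mem _
    | add y y' _ _ hy hy' => rw [map_add]; exact add_mem hy hy'
    | smul a y _ hy =>
      rw [map_smul, ← algebraMap_smul (Localization.AtPrime p) a]
      exact Submodule.smul_mem _ _ hy

end Unram

section Forward

variable (k A : Type u) [Field k] [CommRing A] [IsLocalRing A] [IsNoetherianRing A] [Algebra k A]
  [IsAdicComplete (maximalIdeal A) A] [Module.Finite k (ResidueField A)]
  (p : Ideal A) [p.IsPrime]

/-- a system of parameters (padded) avoiding a non-maximal prime -/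
theorem exists_sop (hp : p ≠ maximalIdeal A) (m : ℕ) (hm : ringKrullDim A ≤ m) :
    ∃ x : Fin m → A, (∀ i, x i ∈ maximalIdeal A ∧ x i ∉ p) ∧
      maximalIdeal A ∈ (Ideal.span (Set.range x)).minimalPrimes := by
  classical
  obtain ⟨s, hs, hcard⟩ :=
    Ideal.exists_finset_card_eq_height_of_isNoetherianRing (maximalIdeal A)
  have hsm : s.card ≤ m := by
    have h1 : ((s.card : ℕ∞) : WithBot ℕ∞) = ringKrullDim A := by
      rw [hcard, IsLocalRing.maximalIdeal_height_eq_ringKrullDim]
    have h2 : ((s.card : ℕ) : WithBot ℕ∞) ≤ ((m : ℕ) : WithBot ℕ∞) := by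
      have : ((s.card : ℕ) : WithBot ℕ∞) = ((s.card : ℕ∞) : WithBot ℕ∞) := rfl
      rw [this, h1]; exact hm
    exact_mod_cast h2
  have hple : p ≤ maximalIdeal A := IsLocalRing.le_maximalIdeal (Ideal.IsPrime.ne_top')
  have hsle : Ideal.span (s : Set A) ≤ maximalIdeal A := hs.1.2
  obtain ⟨y₀, hy₀s, hy₀p⟩ : ∃ y₀ ∈ s, y₀ ∉ p := by
    by_contra hcon
    push Not at hcon
    have h1 : Ideal.span (s : Set A) ≤ p := Ideal.span_le.mpr hcon
    have h2 := hs.2 ⟨inferInstance, h1⟩ hple
    exact hp (le_antisymm hple h2)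
  let f : A → A := fun y => if y ∈ p then y + y₀ else y
  have hf1 : ∀ y, f y ∉ p := by
    intro y
    by_cases hy : y ∈ p
    · simp only [f, if_pos hy]
      intro h
      exact hy₀p ((Ideal.add_mem_iff_right p hy).mp h)
    · simp only [f, if_neg hy]
      exact hy
  have hf2 : ∀ y ∈ s, f y ∈ Ideal.span (s : Set A) := by
    intro y hy
    by_cases hyp : y ∈ p
    · simp only [f, if_pos hyp]
      exact add_mem (Ideal.subset_span hy) (Ideal.subset_span hy₀s)
    · simp only [f, if_neg hyp]
      exact Ideal.subset_span hy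
  have hfy₀ : f y₀ = y₀ := by simp only [f, if_neg hy₀p]
  let x : Fin m → A := fun i =>
    if h : i.val < s.card then f (s.equivFin.symm ⟨i.val, h⟩ : s) else y₀
  have hxs : ∀ i, x i ∈ Ideal.span (s : Set A) := by
    intro i
    by_cases h : i.val < s.card
    · simp only [x, dif_pos h]
      exact hf2 _ (s.equivFin.symm ⟨i.val, h⟩).2
    · simp only [x, dif_neg h]
      exact Ideal.subset_span hy₀s
  have hxp : ∀ i, x i ∉ p := by
    intro i
    by_cases h : i.val < s.card
    · simp only [x, dif_pos h]
      exact hf1 _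
    · simp only [x, dif_neg h]
      exact hy₀p
  have hfx : ∀ y ∈ s, f y ∈ Set.range x := by
    intro y hy
    let j := s.equivFin ⟨y, hy⟩
    refine ⟨⟨j.val, lt_of_lt_of_le j.2 hsm⟩, ?_⟩
    simp only [x, dif_pos j.2]
    congr 1
    simp [j]
  have hspan : Ideal.span (Set.range x) = Ideal.span (s : Set A) := by
    apply le_antisymm
    · rw [Ideal.span_le]
      rintro _ ⟨i, rfl⟩
      exact hxs i
    · rw [Ideal.span_le]
      intro y hy
      have hy₀x : y₀ ∈ Ideal.span (Set.range x) := by
        have := Ideal.subset_span (hfx y₀ hy₀s)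
        rwa [hfy₀] at this
      by_cases hyp : y ∈ p
      · have h1 : f y ∈ Ideal.span (Set.range x) := Ideal.subset_span (hfx y hy)
        have h2 : f y = y + y₀ := by simp only [f, if_pos hyp]
        have h3 : y = f y - y₀ := by rw [h2]; ring
        show y ∈ Ideal.span (Set.range x)
        rw [h3]
        exact sub_mem h1 hy₀x
      · have h1 : f y ∈ Ideal.span (Set.range x) := Ideal.subset_span (hfx y hy)
        have h2 : f y = y := by simp only [f, if_neg hyp]
        rwa [h2] at h1
  refine ⟨x, fun i => ⟨hsle (hxs i), hxp i⟩, ?_⟩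
  rw [hspan]
  exact hs

set_option maxHeartbeats 800000 in
/-- the evaluation map at a (padded) system of parameters is local and finite -/
theorem finite_of_sop (m : ℕ) (x : Fin m → A) (hx : ∀ i, x i ∈ maximalIdeal A)
    (hmin : maximalIdeal A ∈ (Ideal.span (Set.range x)).minimalPrimes) :
    IsLocalHom (evC (A := k) (maximalIdeal A) x hx).toRingHom ∧
      (evC (A := k) (maximalIdeal A) x hx).toRingHom.Finite := by
  classical
  have hIle : Ideal.span (Set.range x) ≤ maximalIdeal A := hmin.1.2
  let w : MvPowerSeries (Fin m) k →ₐ[k] A := evC (maximalIdeal A) x hx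
  have hwX : ∀ i, w (MvPowerSeries.X i) = x i := evC_X (maximalIdeal A) x hx
  letI : Algebra (MvPowerSeries (Fin m) k) A := w.toRingHom.toAlgebra
  have halg : ∀ F, algebraMap (MvPowerSeries (Fin m) k) A F = w F := fun F => rfl
  haveI : IsScalarTower k (MvPowerSeries (Fin m) k) A :=
    IsScalarTower.of_algebraMap_eq (fun c => (w.commutes c).symm)
  have hmapP : (maximalIdeal (MvPowerSeries (Fin m) k)).map
      (algebraMap (MvPowerSeries (Fin m) k) A) = Ideal.span (Set.range x) := by
    rw [maximalIdeal_eq_varIdeal]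
    unfold varIdeal
    rw [Ideal.map_span]
    congr 1
    ext y
    constructor
    · rintro ⟨_, ⟨i, rfl⟩, rfl⟩
      exact ⟨i, (hwX i).symm⟩
    · rintro ⟨i, rfl⟩
      exact ⟨MvPowerSeries.X i, ⟨i, rfl⟩, hwX i⟩
  haveI : IsAdicComplete (maximalIdeal (MvPowerSeries (Fin m) k))
      (MvPowerSeries (Fin m) k) := by
    rw [maximalIdeal_eq_varIdeal]; infer_instance
  haveI : IsArtinianRing (A ⧸ Ideal.span (Set.range x)) :=
    IsLocalRing.quotient_artinian_of_mem_minimalPrimes_of_isLocalRing _ hmin
  have hfin0 : Module.Finite k (A ⧸ Ideal.span (Set.range x)) :=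
    Groth.Agent.Lib.Helper96.finite_quotient_of_isArtinianRing _
  have hsmul : ∀ n : ℕ, ((maximalIdeal (MvPowerSeries (Fin m) k)) ^ n • ⊤ :
      Submodule (MvPowerSeries (Fin m) k) A) =
      ((Ideal.span (Set.range x)) ^ n).restrictScalars (MvPowerSeries (Fin m) k) := by
    intro n
    rw [Ideal.smul_top_eq_map, Ideal.map_pow, hmapP]
  haveI : IsHausdorff (maximalIdeal (MvPowerSeries (Fin m) k)) A := by
    refine ⟨fun a ha => ?_⟩
    apply IsHausdorff.haus' (I := maximalIdeal A) a
    intro n
    have := ha n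
    rw [SModEq.zero, hsmul n] at this
    rw [SModEq.zero, smul_eq_mul, Ideal.mul_top]
    exact Ideal.pow_right_mono hIle n this
  have hfinP : Module.Finite (MvPowerSeries (Fin m) k) A := by
    apply Groth.Agent.S0544.result (MvPowerSeries (Fin m) k)
      (maximalIdeal (MvPowerSeries (Fin m) k))
    have e1 : (maximalIdeal (MvPowerSeries (Fin m) k) • ⊤ :
        Submodule (MvPowerSeries (Fin m) k) A) =
        (Ideal.span (Set.range x)).restrictScalars (MvPowerSeries (Fin m) k) := by
      have := hsmul 1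
      rwa [pow_one, pow_one] at this
    have h3 : Module.Finite (MvPowerSeries (Fin m) k) (A ⧸ Ideal.span (Set.range x)) :=
      Module.Finite.of_restrictScalars_finite k _ _
    let e := (Submodule.quotEquivOfEq _ _ e1).trans
      (Submodule.Quotient.restrictScalarsEquiv (MvPowerSeries (Fin m) k)
        (Ideal.span (Set.range x)))
    exact Module.Finite.equiv e.symm
  refine ⟨?_, hfinP⟩
  constructor
  intro F hF
  rw [MvPowerSeries.isUnit_iff_constantCoeff, isUnit_iff_ne_zero]
  intro h0
  have hFm : F ∈ maximalIdeal (MvPowerSeries (Fin m) k) := by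
    rw [IsLocalRing.mem_maximalIdeal, mem_nonunits_iff, MvPowerSeries.isUnit_iff_constantCoeff,
      h0]
    exact not_isUnit_zero
  have h1 : w F ∈ (maximalIdeal (MvPowerSeries (Fin m) k)).map
      (algebraMap (MvPowerSeries (Fin m) k) A) := Ideal.mem_map_of_mem _ hFm
  rw [hmapP] at h1
  exact (IsLocalRing.mem_maximalIdeal _).mp (hIle h1) hF

set_option maxHeartbeats 800000 in
theorem unramified_of_span (m : ℕ) [Algebra (MvPowerSeries (Fin m) k) A]
    [IsScalarTower k (MvPowerSeries (Fin m) k) A] [Module.Finite (MvPowerSeries (Fin m) k) A]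
    (hspan : Submodule.span (Localization.AtPrime p) (Set.range fun i : Fin m =>
      LocalizedModule.mkLinearMap p.primeCompl (AdicCompletion (maximalIdeal A) (Ω[A⁄k]))
        (AdicCompletion.of (maximalIdeal A) (Ω[A⁄k])
          (D k A (algebraMap (MvPowerSeries (Fin m) k) A (X i))))) = ⊤) :
    Algebra.IsUnramifiedAt (MvPowerSeries (Fin m) k) p := by
  classical
  let P := MvPowerSeries (Fin m) k
  haveI : Module.Finite A (Ω[A⁄P]) := inferInstance
  obtain ⟨ψ', hψ'⟩ := ComplDiff.exists_extend (maximalIdeal A) (KaehlerDifferential.map k P A A) ⊤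
    Module.Finite.fg_top le_top
  let T : Submodule A (AdicCompletion (maximalIdeal A) (Ω[A⁄k])) :=
    Submodule.span A (Set.range fun i : Fin m =>
      AdicCompletion.of (maximalIdeal A) (Ω[A⁄k]) (D k A (algebraMap P A (X i))))
  have hψT : ∀ w ∈ T, ψ' w = 0 := by
    intro w hw
    induction hw using Submodule.span_induction with
    | mem y hy =>
      obtain ⟨i, rfl⟩ := hy
      rw [hψ', KaehlerDifferential.map_D]
      exact (D P A).map_algebraMap _
    | zero => rw [map_zero]
    | add y z _ _ hy hz => rw [map_add, hy, hz, add_zero]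
    | smul a y _ hy => rw [map_smul, hy, smul_zero]
  -- clearing denominators
  have hclear : ∀ z : LocalizedModule p.primeCompl (AdicCompletion (maximalIdeal A) (Ω[A⁄k])),
      ∃ σ : A, σ ∉ p ∧ ∃ w ∈ T, σ • z = LocalizedModule.mkLinearMap p.primeCompl _ w := by
    intro z
    have hz : z ∈ Submodule.span (Localization.AtPrime p) (Set.range fun i : Fin m =>
      LocalizedModule.mkLinearMap p.primeCompl (AdicCompletion (maximalIdeal A) (Ω[A⁄k]))
        (AdicCompletion.of (maximalIdeal A) (Ω[A⁄k])
          (D k A (algebraMap P A (X i))))) := by rw [hspan]; trivial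
    induction hz using Submodule.span_induction with
    | mem y hy =>
      obtain ⟨i, rfl⟩ := hy
      exact ⟨1, fun h => (Ideal.ne_top_iff_one p).mp Ideal.IsPrime.ne_top' h, _,
        Submodule.subset_span ⟨i, rfl⟩, one_smul _ _⟩
    | zero => exact ⟨1, fun h => (Ideal.ne_top_iff_one p).mp Ideal.IsPrime.ne_top' h, 0,
        zero_mem _, by rw [smul_zero, map_zero]⟩
    | add y y' _ _ hy hy' =>
      obtain ⟨σ₁, hσ₁, w₁, hw₁, h₁⟩ := hy
      obtain ⟨σ₂, hσ₂, w₂, hw₂, h₂⟩ := hy'
      refine ⟨σ₁ * σ₂, fun h => (Ideal.IsPrime.mem_or_mem inferInstance h).elim hσ₁ hσ₂,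
        σ₂ • w₁ + σ₁ • w₂, add_mem (T.smul_mem _ hw₁) (T.smul_mem _ hw₂), ?_⟩
      rw [smul_add, map_add, map_smul, map_smul, ← h₁, ← h₂, smul_smul, smul_smul, mul_comm σ₂ σ₁]
    | smul r y _ hy =>
      obtain ⟨σ, hσ, w, hw, h⟩ := hy
      obtain ⟨⟨a, τ⟩, hτ⟩ := IsLocalization.surj p.primeCompl r
      refine ⟨σ * τ, fun h' => (Ideal.IsPrime.mem_or_mem inferInstance h').elim hσ τ.2,
        a • w, T.smul_mem _ hw, ?_⟩
      have h1 : ((τ : A) : A) • (r • y) = a • y := by
        rw [← algebraMap_smul (Localization.AtPrime p) (τ : A) (r • y), smul_smul, mul_comm,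
          hτ, algebraMap_smul]
      rw [mul_smul, h1, smul_comm, h, map_smul]
  -- every element of `Ω[A⁄P]` is killed by some `σ ∉ p`
  have hkill : ∀ η : Ω[A⁄P], ∃ σ : A, σ ∉ p ∧ σ • η = 0 := by
    intro η
    obtain ⟨ω, rfl⟩ := KaehlerDifferential.map_surjective k P A η
    obtain ⟨σ, hσ, w, hw, h⟩ := hclear (LocalizedModule.mkLinearMap p.primeCompl _
      (AdicCompletion.of (maximalIdeal A) (Ω[A⁄k]) ω))
    rw [← map_smul] at h
    obtain ⟨τ, hτ⟩ := IsLocalizedModule.exists_of_eq (S := p.primeCompl) h
    refine ⟨τ * σ, fun h' => (Ideal.IsPrime.mem_or_mem inferInstance h').elim τ.2 hσ, ?_⟩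
    have h2 : ψ' (τ • σ • AdicCompletion.of (maximalIdeal A) (Ω[A⁄k]) ω) = ψ' (τ • w) := by
      rw [hτ]
    have h2' : ψ' (τ • w) = 0 := by
      rw [Submonoid.smul_def]
      exact hψT _ (T.smul_mem _ hw)
    rw [h2'] at h2
    have h3 : ψ' (τ • σ • AdicCompletion.of (maximalIdeal A) (Ω[A⁄k]) ω) =
        ((τ : A) * σ) • KaehlerDifferential.map k P A A ω := by
      rw [Submonoid.smul_def, map_smul, map_smul, hψ', smul_smul]
    rw [← h3, h2]
  refine ⟨⟨fun y y' => ?_⟩⟩
  have hzero : ∀ y : Ω[Localization.AtPrime p⁄P], y = 0 := by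
    intro y
    obtain ⟨⟨η, σ'⟩, hσ'⟩ := IsLocalizedModule.surj p.primeCompl
      (KaehlerDifferential.map P P A (Localization.AtPrime p)) y
    obtain ⟨σ, hσ, hση⟩ := hkill η
    have h1 : σ • σ' • y = 0 := by
      rw [hσ', ← map_smul, hση, map_zero]
    have h2 : σ' • y = 0 :=
      S5080Lib.mem_of_smul_mem (p := p) (⊥ : Submodule (Localization.AtPrime p) _) σ hσ _
        (by rw [Submodule.mem_bot]; exact h1)
    exact S5080Lib.mem_of_smul_mem (p := p) (⊥ : Submodule (Localization.AtPrime p) _) (σ' : A)
      σ'.2 _ (by rw [Submodule.mem_bot]; exact h2)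
  rw [hzero y, hzero y']

noncomputable def fibreEquiv (W : Type u) [AddCommGroup W] [Module A W] :
    p.ResidueField ⊗[A] W ≃ₗ[p.ResidueField]
      p.ResidueField ⊗[Localization.AtPrime p] (LocalizedModule p.primeCompl W) :=
  (AlgebraTensorModule.cancelBaseChange A (Localization.AtPrime p) p.ResidueField
    p.ResidueField W).symm ≪≫ₗ
    (AlgebraTensorModule.congr (LinearEquiv.refl p.ResidueField p.ResidueField)
      (LocalizedModule.equivTensorProduct p.primeCompl W).symm)

theorem finrank_fibre_eq (W : Type u) [AddCommGroup W] [Module A W] :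
    Module.finrank p.ResidueField (p.ResidueField ⊗[A] W) =
      Module.finrank (ResidueField (Localization.AtPrime p))
        ((ResidueField (Localization.AtPrime p)) ⊗[Localization.AtPrime p]
          (LocalizedModule p.primeCompl W)) :=
  (fibreEquiv A p W).finrank_eq

set_option maxHeartbeats 1600000 in
theorem forward (hp : p ≠ maximalIdeal A)
    (hq : ∃ q ∈ minimalPrimes A, q ≤ p ∧ ringKrullDim (A ⧸ q) = ringKrullDim A) (m : ℕ)
    (hgen : ∃ s : Fin m → (LocalizedModule p.primeCompl
      (AdicCompletion (maximalIdeal A) (Ω[A⁄k]))),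
      Submodule.span (Localization.AtPrime p) (Set.range s) = ⊤) :
    ∃ (_ : Algebra (MvPowerSeries (Fin m) k) A) (_ : IsScalarTower k (MvPowerSeries (Fin m) k) A),
      IsLocalHom (algebraMap (MvPowerSeries (Fin m) k) A) ∧
        Module.Finite (MvPowerSeries (Fin m) k) A ∧
          Algebra.IsUnramifiedAt (MvPowerSeries (Fin m) k) p := by
  classical
  haveI := S5080Lib.finite_W k A
  haveI : Module.Finite (Localization.AtPrime p) (LocalizedModule p.primeCompl
      (AdicCompletion (maximalIdeal A) (Ω[A⁄k]))) :=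
    Module.Finite.of_isLocalizedModule p.primeCompl (LocalizedModule.mkLinearMap p.primeCompl
      (AdicCompletion (maximalIdeal A) (Ω[A⁄k])))
  obtain ⟨s, hs⟩ := hgen
  have hMm : Module.finrank (ResidueField (Localization.AtPrime p))
      ((ResidueField (Localization.AtPrime p)) ⊗[Localization.AtPrime p]
        (LocalizedModule p.primeCompl (AdicCompletion (maximalIdeal A) (Ω[A⁄k])))) ≤ m := by
    have h1 := GenPos.span_image_eq_top (R := Localization.AtPrime p) (Set.range s) hs
    rw [← Set.range_comp] at h1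
    have := finrank_le_of_span_eq_top h1
    rwa [Fintype.card_fin] at this
  obtain ⟨q, hqmin, hqp, hqdim⟩ := hq
  have hdimM : ringKrullDim A ≤ ((Module.finrank (ResidueField (Localization.AtPrime p))
      ((ResidueField (Localization.AtPrime p)) ⊗[Localization.AtPrime p]
        (LocalizedModule p.primeCompl (AdicCompletion (maximalIdeal A) (Ω[A⁄k])))) : ℕ) :
          WithBot ℕ∞) := by
    have h1 := S3847Lib.main k A p q hqmin hqp
    rw [hqdim] at h1
    have h4 : Cardinal.toENat (Module.rank p.ResidueField (TensorProduct A p.ResidueField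
        (AdicCompletion (maximalIdeal A) (Ω[A⁄k])))) =
        (Module.finrank p.ResidueField (p.ResidueField ⊗[A]
          (AdicCompletion (maximalIdeal A) (Ω[A⁄k]))) : ℕ∞) := by
      rw [← Module.finrank_eq_rank, Cardinal.toENat_nat]
    rw [h4, finrank_fibre_eq] at h1
    exact h1
  have hdimm : ringKrullDim A ≤ (m : WithBot ℕ∞) :=
    hdimM.trans (by exact_mod_cast hMm)
  obtain ⟨x, hx, hxmin⟩ := exists_sop A p hp m hdimm
  obtain ⟨u', hu'⟩ := S5080Lib.main' k A p _ rfl (fun i => x (Fin.castLE hMm i)) (fun i => hx _)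
  let u : Fin m → Aˣ := fun i =>
    if h : i.val < Module.finrank (ResidueField (Localization.AtPrime p))
      ((ResidueField (Localization.AtPrime p)) ⊗[Localization.AtPrime p]
        (LocalizedModule p.primeCompl (AdicCompletion (maximalIdeal A) (Ω[A⁄k]))))
    then u' ⟨i.val, h⟩ else 1
  let x' : Fin m → A := fun i => (u i : A) * x i
  have hx'm : ∀ i, x' i ∈ maximalIdeal A := fun i => Ideal.mul_mem_left _ _ (hx i).1
  have hspanx' : Ideal.span (Set.range x') = Ideal.span (Set.range x) := by
    apply le_antisymm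
    · rw [Ideal.span_le]
      rintro _ ⟨i, rfl⟩
      exact Ideal.mul_mem_left _ _ (Ideal.subset_span ⟨i, rfl⟩)
    · rw [Ideal.span_le]
      rintro _ ⟨i, rfl⟩
      have h1 : x i = (((u i)⁻¹ : Aˣ) : A) * x' i := by
        simp only [x']
        rw [← mul_assoc, Units.inv_mul, one_mul]
      show x i ∈ Ideal.span (Set.range x')
      rw [h1]
      exact Ideal.mul_mem_left _ _ (Ideal.subset_span ⟨i, rfl⟩)
  have hx'min : maximalIdeal A ∈ (Ideal.span (Set.range x')).minimalPrimes := by
    rw [hspanx']; exact hxmin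
  obtain ⟨hloc, hfin⟩ := finite_of_sop k A m x' hx'm hx'min
  letI alg : Algebra (MvPowerSeries (Fin m) k) A :=
    (evC (A := k) (maximalIdeal A) x' hx'm).toRingHom.toAlgebra
  haveI tower : IsScalarTower k (MvPowerSeries (Fin m) k) A :=
    IsScalarTower.of_algebraMap_eq (fun c =>
      ((evC (A := k) (maximalIdeal A) x' hx'm).commutes c).symm)
  haveI : Module.Finite (MvPowerSeries (Fin m) k) A := hfin
  refine ⟨alg, tower, hloc, hfin, ?_⟩
  apply unramified_of_span k A p m
  rw [eq_top_iff, ← hu']
  apply Submodule.span_mono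
  rintro _ ⟨i, rfl⟩
  refine ⟨Fin.castLE hMm i, ?_⟩
  show LocalizedModule.mkLinearMap _ _ (AdicCompletion.of _ _
    (D k A (evC (A := k) (maximalIdeal A) x' hx'm (X (Fin.castLE hMm i))))) = _
  rw [evC_X]
  simp only [x', u, Fin.val_castLE, dif_pos i.2, Fin.eta]

end Forward

end Groth.Agent.Lib.Helper13.S5054Lib
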