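import Mathlib
import Groth.Agent.Lib.Helper13.S5054Lib
import Groth.Agent.Lib.Helper13.SemiCont
import Groth.Agent.Lib.Helper29.RegHom
import Groth.Agent.Lib.Helper33.RegularRing
import Groth.Agent.Lib.Helper73.HeightGoingDown
import Groth.Agent.Lib.Helper76.PSCohen
import Groth.Agent.S9829
import Groth.Agent.S0558
import Groth.Agent.S0564
import Groth.Agent.S5671

/-!
# Finite power series subrings: unramified at `p` implies étale at `p` (helper13)
-/

set_option autoImplicit false
set_option linter.style.haveILetI false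

namespace Groth.Agent.Lib.Helper13.S3850Lib

open TensorProduct IsLocalRing Groth.Agent.Lib.Helper29 KaehlerDifferential MvPowerSeries

universe u

section Abstract

/-- an integral map from a domain to a ring of the same finite dimension is injective -/
theorem injective_of_ringKrullDim_eq {R S : Type*} [CommRing R] [IsDomain R] [CommRing S]
    [Algebra R S] [Algebra.IsIntegral R S] {n : ℕ} (hR : ringKrullDim R = n)
    (hS : ringKrullDim S = n) : Function.Injective (algebraMap R S) := by
  rw [injective_iff_map_eq_zero]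
  intro r hr
  by_contra hne
  let I : Ideal R := Ideal.span {r}
  have hI : ∀ a ∈ I, algebraMap R S a = 0 := by
    intro a ha
    obtain ⟨c, rfl⟩ := Ideal.mem_span_singleton'.mp ha
    rw [map_mul, hr, mul_zero]
  letI : Algebra (R ⧸ I) S := (Ideal.Quotient.lift I (algebraMap R S) hI).toAlgebra
  haveI : IsScalarTower R (R ⧸ I) S := IsScalarTower.of_algebraMap_eq (fun a => rfl)
  haveI : Algebra.IsIntegral (R ⧸ I) S := Algebra.IsIntegral.tower_top R
  have h1 : ringKrullDim S ≤ ringKrullDim (R ⧸ I) := S3847Lib.ringKrullDim_le_of_isIntegral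
  have h2 : ringKrullDim (R ⧸ I) + 1 ≤ ringKrullDim R :=
    ringKrullDim_quotient_succ_le_of_nonZeroDivisor (mem_nonZeroDivisors_of_ne_zero hne)
  rw [hR] at h2
  rw [hS] at h1
  have h3 : ((n + 1 : ℕ) : WithBot ℕ∞) ≤ (n : ℕ) := by
    push_cast
    exact (add_le_add_left h1 1).trans h2
  have h4 : n + 1 ≤ n := by exact_mod_cast h3
  omega

/-- heights do not increase along quotients -/
theorem height_le_height_comap_of_surjective {A B : Type*} [CommRing A] [CommRing B] (f : A →+* B)
    (hf : Function.Surjective f) (Q : Ideal B) [Q.IsPrime] :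
    Q.height ≤ (Q.comap f).height := by
  have hmono : Monotone (PrimeSpectrum.comap f) := fun P Q hPQ => Ideal.comap_mono hPQ
  have hsm : StrictMono (PrimeSpectrum.comap f) :=
    hmono.strictMono_of_injective (PrimeSpectrum.comap_injective_of_surjective f hf)
  have := Order.height_le_height_apply_of_strictMono _ hsm ⟨Q, inferInstance⟩
  rw [← PrimeSpectrum.height_eq_orderHeight, ← PrimeSpectrum.height_eq_orderHeight] at this
  exact this

/-- a spanning family of `n` elements is linearly independent as soon as the generic rank is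
at least `n` -/
theorem linearIndependent_of_span_of_le_finrank {R L M : Type*} [CommRing R] [Field L]
    [Algebra R L] [AddCommGroup M] [Module R M] (hinj : Function.Injective (algebraMap R L))
    {n : ℕ} (s : Fin n → M) (hs : Submodule.span R (Set.range s) = ⊤)
    (hn : n ≤ Module.finrank L (L ⊗[R] M)) : LinearIndependent R s := by
  classical
  let t : Fin n → L ⊗[R] M := fun i => (1 : L) ⊗ₜ[R] s i
  have ht : Submodule.span L (Set.range t) = ⊤ := by
    rw [eq_top_iff, ← SemiCont.span_one_tmul (A := R) (M := M) L, Submodule.span_le]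
    rintro _ ⟨m, rfl⟩
    have hm : m ∈ Submodule.span R (Set.range s) := by rw [hs]; trivial
    induction hm using Submodule.span_induction with
    | mem x hx => obtain ⟨i, rfl⟩ := hx; exact Submodule.subset_span ⟨i, rfl⟩
    | zero => simp
    | add x y _ _ hx hy =>
      show (1 : L) ⊗ₜ[R] (x + y) ∈ _
      rw [TensorProduct.tmul_add]; exact add_mem hx hy
    | smul a x _ hx =>
      show (1 : L) ⊗ₜ[R] (a • x) ∈ _
      rw [TensorProduct.tmul_smul, ← algebraMap_smul L a]
      exact Submodule.smul_mem _ _ hx
  have hfin : Module.Finite L (L ⊗[R] M) := Module.Finite.of_fg_top <| by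
    rw [← ht]; exact Submodule.fg_span (Set.finite_range t)
  have hle : Module.finrank L (L ⊗[R] M) ≤ n := by
    have := finrank_le_of_span_eq_top ht
    rwa [Fintype.card_fin] at this
  have hli : LinearIndependent L t :=
    linearIndependent_of_top_le_span_of_card_eq_finrank ht.ge
      (by rw [Fintype.card_fin]; omega)
  rw [Fintype.linearIndependent_iff]
  intro g hg i
  have h1 : ∑ j, algebraMap R L (g j) • t j = 0 := by
    have := congrArg (TensorProduct.mk R L M 1) hg
    rw [map_sum, map_zero] at this
    rw [← this]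
    refine Finset.sum_congr rfl fun j _ => ?_
    rw [map_smul, algebraMap_smul]
    rfl
  have h2 := Fintype.linearIndependent_iff.mp hli (fun j => algebraMap R L (g j)) h1 i
  exact (injective_iff_map_eq_zero _).mp hinj _ h2

end Abstract

section Etale

open Algebra

local notation "𝓀[" R "]" => ResidueField R

/-- flat at `q` + unramified at `q` ⇒ étale at `q` (local version of Mathlib's
`Algebra.IsEtaleAt.of_isUnramifiedAt_of_flat`). -/
theorem isEtaleAt_of_flat_localization {R S : Type*} [CommRing R] [CommRing S] [Algebra R S]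
    [Algebra.FinitePresentation R S] (p : Ideal R) (q : Ideal S) [p.IsPrime] [q.IsPrime]
    [q.LiesOver p]
    (hflat : letI := Localization.AtPrime.algebraOfLiesOver p q
      Module.Flat (Localization.AtPrime p) (Localization.AtPrime q))
    (hunr : Algebra.IsUnramifiedAt R q) : Algebra.IsEtaleAt R q := by
  let Rp := Localization.AtPrime p
  let Sp := Localization (algebraMapSubmonoid S p.primeCompl)
  let Sq := Localization.AtPrime q
  letI := Localization.AtPrime.algebraOfLiesOver p q
  haveI : Module.Flat Rp Sq := hflat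
  let f : Sp →ₐ[S] Sq := IsLocalization.liftAlgHom (M := algebraMapSubmonoid S p.primeCompl)
        (f := Algebra.ofId _ _) (by
      rintro ⟨_, x, hx, rfl⟩
      simpa using! IsLocalization.map_units (M := q.primeCompl) Sq ⟨algebraMap _ _ x,
        by simp_all [q.over_def p]⟩)
  algebraize [f.toRingHom]
  have : IsScalarTower R Sp Sq := .to₁₃₄ _ S _ _
  have : IsScalarTower Rp Sp Sq := .of_algebraMap_eq' <| by
    apply IsLocalization.ringHom_ext p.primeCompl
    simp only [RingHom.comp_assoc, ← IsScalarTower.algebraMap_eq]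
  have : IsLocalization (algebraMapSubmonoid Sp q.primeCompl) Sq :=
    .isLocalization_of_submonoid_le _ _ (algebraMapSubmonoid S p.primeCompl) _
    (by rintro _ ⟨x, hx, rfl⟩; simp_all [q.over_def p])
  have : FinitePresentation Rp Sp := by
    have : Algebra.IsPushout R Rp S Sp :=
      .symm <| Algebra.isPushout_of_isLocalization p.primeCompl _ _ _
    exact .equiv (Algebra.IsPushout.equiv R Rp S Sp)
  haveI : Algebra.FormallyUnramified Rp Sq := Algebra.FormallyUnramified.of_restrictScalars R Rp Sq
  haveI : Algebra.EssFiniteType Rp Sq := Algebra.EssFiniteType.of_comp R Rp Sq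
  haveI : Algebra.FormallyUnramified 𝓀[Rp] (𝓀[Rp] ⊗[Rp] Sq) := inferInstance
  haveI : Algebra.EssFiniteType 𝓀[Rp] (𝓀[Rp] ⊗[Rp] Sq) := inferInstance
  haveI : Algebra.FormallyEtale 𝓀[Rp] (𝓀[Rp] ⊗[Rp] Sq) :=
    FormallyEtale.of_formallyUnramified_of_field _ _
  haveI : Algebra.FormallySmooth 𝓀[Rp] (𝓀[Rp] ⊗[Rp] Sq) := inferInstance
  have hsm : Algebra.FormallySmooth Rp Sq := FormallySmooth.of_formallySmooth_residueField_tensor
    (R := Rp) (S := Sq) (P := Sp) (algebraMapSubmonoid _ q.primeCompl)
  haveI : Algebra.FormallySmooth R Sq := .comp R Rp Sq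
  exact Algebra.FormallyEtale.iff_formallyUnramified_and_formallySmooth.mpr ⟨hunr, inferInstance⟩

end Etale

section Core

variable (k A : Type u) [Field k] [CommRing A] [IsLocalRing A] [IsNoetherianRing A] [Algebra k A]
  (p : Ideal A) [p.IsPrime] (n : ℕ)
  [Algebra (MvPowerSeries (Fin n) k) A] [Module.Finite (MvPowerSeries (Fin n) k) A]

theorem regular_and_flat (q : Ideal A) (hqmin : q ∈ minimalPrimes A) (hqp : q ≤ p)
    (hqdim : ringKrullDim (A ⧸ q) = n)
    (hunr : Algebra.IsUnramifiedAt (MvPowerSeries (Fin n) k) p) :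
    IsRegularLocalRing (Localization.AtPrime p) ∧
      (letI := Localization.AtPrime.algebraOfLiesOver (p.under (MvPowerSeries (Fin n) k)) p
       Module.Flat (Localization.AtPrime (p.under (MvPowerSeries (Fin n) k)))
        (Localization.AtPrime p)) := by
  let P := MvPowerSeries (Fin n) k
  haveI : IsDomain P := NoZeroDivisors.to_isDomain _
  haveI : IsIntegrallyClosed P := Groth.Agent.S9829.result P
  have hdimP : ringKrullDim P = n := Groth.Agent.Lib.Helper76.PSComplete.ringKrullDim_eq_card k n
  haveI hqprime : q.IsPrime := hqmin.1.1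
  haveI : Algebra.IsIntegral P (A ⧸ q) := inferInstance
  have hinj : Function.Injective (algebraMap P (A ⧸ q)) := injective_of_ringKrullDim_eq hdimP hqdim
  haveI : FaithfulSMul P (A ⧸ q) := (faithfulSMul_iff_algebraMap_injective P (A ⧸ q)).mpr hinj
  haveI : Algebra.HasGoingDown P (A ⧸ q) := inferInstance
  let p' : Ideal P := p.under P
  let pq : Ideal (A ⧸ q) := p.map (Ideal.Quotient.mk q)
  haveI : pq.IsPrime := Ideal.map_isPrime_of_surjective Ideal.Quotient.mk_surjective
    (by rwa [Ideal.mk_ker])
  have hpq : pq.comap (Ideal.Quotient.mk q) = p := by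
    rw [Ideal.comap_map_of_surjective _ Ideal.Quotient.mk_surjective, ← RingHom.ker_eq_comap_bot,
      Ideal.mk_ker]
    exact sup_eq_left.mpr hqp
  haveI : pq.LiesOver p' := ⟨by
    show p.comap (algebraMap P A) = pq.comap (algebraMap P (A ⧸ q))
    rw [IsScalarTower.algebraMap_eq P A (A ⧸ q), ← Ideal.comap_comap]
    congr 1
    exact hpq.symm⟩
  have h1 : p'.height ≤ pq.height :=
    Groth.Agent.Lib.Helper73.height_le_height_of_hasGoingDown p' pq
  have h2 : pq.height ≤ p.height := by
    have := height_le_height_comap_of_surjective (Ideal.Quotient.mk q)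
      Ideal.Quotient.mk_surjective pq
    rwa [hpq] at this
  let Rp := Localization.AtPrime p'
  let Sq := Localization.AtPrime p
  letI : Algebra Rp Sq := Localization.AtPrime.algebraOfLiesOver p' p
  haveI : IsRegularLocalRing Rp := Groth.Agent.S0564.result P p'
  haveI : Algebra.FormallyUnramified Rp Sq := Algebra.FormallyUnramified.of_restrictScalars P Rp Sq
  haveI : Algebra.EssFiniteType Rp Sq := Algebra.EssFiniteType.of_comp P Rp Sq
  have hm : (maximalIdeal Rp).map (algebraMap Rp Sq) = maximalIdeal Sq :=
    Algebra.FormallyUnramified.map_maximalIdeal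
  have hdimRp : ringKrullDim Rp = p'.height := IsLocalization.AtPrime.ringKrullDim_eq_height p' Rp
  have hdimSq : ringKrullDim Sq = p.height := IsLocalization.AtPrime.ringKrullDim_eq_height p Sq
  have hle : ringKrullDim Rp ≤ ringKrullDim Sq := by
    rw [hdimRp, hdimSq]; exact_mod_cast h1.trans h2
  have hspan : (maximalIdeal Sq).spanFinrank ≤ (maximalIdeal Rp).spanFinrank := by
    rw [← hm]; exact Ideal.spanFinrank_map_le_of_fg _ (maximalIdeal Rp).fg_of_isNoetherianRing
  haveI hreg : IsRegularLocalRing Sq := by
    apply IsRegularLocalRing.of_spanFinrank_maximalIdeal_le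
    calc ((maximalIdeal Sq).spanFinrank : WithBot ℕ∞) ≤ (maximalIdeal Rp).spanFinrank := by
          exact_mod_cast hspan
      _ = ringKrullDim Rp := IsRegularLocalRing.spanFinrank_maximalIdeal
      _ ≤ ringKrullDim Sq := hle
  refine ⟨hreg, ?_⟩
  have hfield : ringKrullDim (Sq ⧸ (maximalIdeal Rp).map (algebraMap Rp Sq)) = 0 := by
    rw [hm]; exact ringKrullDim_eq_zero_of_field (ResidueField Sq)
  have hdimeq : ringKrullDim Sq = ringKrullDim Rp +
      ringKrullDim (Sq ⧸ (maximalIdeal Rp).map (algebraMap Rp Sq)) := by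
    rw [hfield, add_zero]
    refine le_antisymm ?_ hle
    have := RegHom.ringKrullDim_le_add Rp Sq
    rwa [hfield, add_zero] at this
  exact RegHom.flat_of_regular_of_isCM Rp Sq (Groth.Agent.S5671.isCM_of_regular Sq) hdimeq

end Core


section Free

variable (k A : Type u) [Field k] [CommRing A] [IsLocalRing A] [IsNoetherianRing A] [Algebra k A]
  [IsAdicComplete (maximalIdeal A) A] [Module.Finite k (ResidueField A)]
  (p : Ideal A) [p.IsPrime] (n : ℕ)
  [Algebra (MvPowerSeries (Fin n) k) A] [IsScalarTower k (MvPowerSeries (Fin n) k) A]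
  [Module.Finite (MvPowerSeries (Fin n) k) A]

set_option maxHeartbeats 800000 in
theorem free_of_unramified (hloc : IsLocalHom (algebraMap (MvPowerSeries (Fin n) k) A))
    (q : Ideal A) (hqmin : q ∈ minimalPrimes A) (hqp : q ≤ p)
    (hqdim : ringKrullDim (A ⧸ q) = n)
    (hunr : Algebra.IsUnramifiedAt (MvPowerSeries (Fin n) k) p) :
    Module.Free (Localization.AtPrime p)
        (LocalizedModule p.primeCompl (AdicCompletion (maximalIdeal A) (Ω[A⁄k]))) ∧
      Module.finrank (Localization.AtPrime p)
        (LocalizedModule p.primeCompl (AdicCompletion (maximalIdeal A) (Ω[A⁄k]))) = n := by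
  classical
  let P := MvPowerSeries (Fin n) k
  let Sq := Localization.AtPrime p
  let W := AdicCompletion (maximalIdeal A) (Ω[A⁄k])
  let M := LocalizedModule p.primeCompl W
  haveI := S5080Lib.finite_W k A
  obtain ⟨hreg, -⟩ := regular_and_flat k A p n q hqmin hqp hqdim hunr
  haveI : IsDomain Sq := Groth.Agent.S0558.result Sq
  haveI hqprime : q.IsPrime := hqmin.1.1
  let s : Fin n → M := fun i => LocalizedModule.mkLinearMap p.primeCompl W
    (AdicCompletion.of (maximalIdeal A) (Ω[A⁄k]) (D k A (algebraMap P A (X i))))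
  have hs : Submodule.span Sq (Set.range s) = ⊤ := S5054Lib.span_of_unramified k A p n hloc hunr
  -- the field `L = κ(q)` as an algebra over `A_p`
  let L := q.ResidueField
  have hunit : ∀ y : p.primeCompl, IsUnit (algebraMap A L y) := fun y => by
    rw [isUnit_iff_ne_zero, Ne, Ideal.algebraMap_residueField_eq_zero]
    exact fun h => y.2 (hqp h)
  letI : Algebra Sq L := (IsLocalization.lift (M := p.primeCompl) (S := Sq) hunit).toAlgebra
  haveI : IsScalarTower A Sq L := IsScalarTower.of_algebraMap_eq
    (fun a => (IsLocalization.lift_eq hunit a).symm)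
  have hinj : Function.Injective (algebraMap Sq L) := by
    rw [RingHom.injective_iff_ker_eq_bot]
    have h1 := IsLocalization.map_under p.primeCompl Sq (RingHom.ker (algebraMap Sq L))
    have h2 := IsLocalization.map_under p.primeCompl Sq (⊥ : Ideal Sq)
    have h3 : (RingHom.ker (algebraMap Sq L)).comap (algebraMap A Sq) = q := by
      rw [RingHom.comap_ker, ← IsScalarTower.algebraMap_eq]
      exact Ideal.ker_algebraMap_residueField q
    have h4 : (⊥ : Ideal Sq).comap (algebraMap A Sq) = q := by
      have hle : (⊥ : Ideal Sq).comap (algebraMap A Sq) ≤ q := by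
        rw [← h3]; exact Ideal.comap_mono bot_le
      have hprime : ((⊥ : Ideal Sq).comap (algebraMap A Sq)).IsPrime :=
        Ideal.comap_isPrime _ _
      exact le_antisymm hle (hqmin.2 ⟨hprime, bot_le⟩ hle)
    rw [← h1, Ideal.under_def, h3, ← h4]
    exact h2
  -- the generic fibre
  let e : L ⊗[A] W ≃ₗ[L] L ⊗[Sq] M :=
    (AlgebraTensorModule.cancelBaseChange A Sq L L W).symm ≪≫ₗ
      (AlgebraTensorModule.congr (LinearEquiv.refl L L)
        (LocalizedModule.equivTensorProduct p.primeCompl W).symm)
  have hrank : n ≤ Module.finrank L (L ⊗[Sq] M) := by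
    have h1 := S3847Lib.main k A q q hqmin le_rfl
    rw [hqdim] at h1
    have h4 : Cardinal.toENat (Module.rank q.ResidueField (TensorProduct A q.ResidueField
        (AdicCompletion (maximalIdeal A) (Ω[A⁄k])))) =
        (Module.finrank q.ResidueField (q.ResidueField ⊗[A]
          (AdicCompletion (maximalIdeal A) (Ω[A⁄k]))) : ℕ∞) := by
      rw [← Module.finrank_eq_rank, Cardinal.toENat_nat]
    rw [h4] at h1
    rw [← e.finrank_eq]
    exact_mod_cast h1
  have hli : LinearIndependent Sq s :=
    linearIndependent_of_span_of_le_finrank (L := L) hinj s hs hrank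
  let b : Module.Basis (Fin n) Sq M := Module.Basis.mk hli hs.ge
  exact ⟨Module.Free.of_basis b, by rw [Module.finrank_eq_card_basis b, Fintype.card_fin]⟩

end Free


section Main

variable (k A : Type u) [Field k] [CommRing A] [IsLocalRing A] [IsNoetherianRing A] [Algebra k A]
  [IsAdicComplete (maximalIdeal A) A] [Module.Finite k (ResidueField A)]
  (p : Ideal A) [p.IsPrime]

theorem main (n : ℕ) (hn : ringKrullDim A = n) (hp : p ≠ maximalIdeal A)
    (hq : ∃ q ∈ minimalPrimes A, q ≤ p ∧ ringKrullDim (A ⧸ q) = n) :
    (Module.Free (Localization.AtPrime p)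
        (LocalizedModule p.primeCompl (AdicCompletion (maximalIdeal A) (Ω[A⁄k]))) ∧
      Module.finrank (Localization.AtPrime p)
        (LocalizedModule p.primeCompl (AdicCompletion (maximalIdeal A) (Ω[A⁄k]))) = n) ↔
      ∃ (_ : Algebra (MvPowerSeries (Fin n) k) A) (_ : IsScalarTower k (MvPowerSeries (Fin n) k) A),
        IsLocalHom (algebraMap (MvPowerSeries (Fin n) k) A) ∧
          Module.Finite (MvPowerSeries (Fin n) k) A ∧
          Algebra.IsEtaleAt (MvPowerSeries (Fin n) k) p := by
  obtain ⟨q, hqmin, hqp, hqdim⟩ := hq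
  constructor
  · rintro ⟨hfree, hrank⟩
    have hgen : ∃ s : Fin n → (LocalizedModule p.primeCompl
        (AdicCompletion (maximalIdeal A) (Ω[A⁄k]))),
        Submodule.span (Localization.AtPrime p) (Set.range s) = ⊤ := by
      haveI := hfree
      haveI : Module.Finite (Localization.AtPrime p) (LocalizedModule p.primeCompl
          (AdicCompletion (maximalIdeal A) (Ω[A⁄k]))) := by
        haveI := S5080Lib.finite_W k A
        exact Module.Finite.of_isLocalizedModule p.primeCompl (LocalizedModule.mkLinearMap
          p.primeCompl (AdicCompletion (maximalIdeal A) (Ω[A⁄k])))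
      let b := Module.finBasisOfFinrankEq (Localization.AtPrime p) (LocalizedModule p.primeCompl
          (AdicCompletion (maximalIdeal A) (Ω[A⁄k]))) hrank
      exact ⟨b, b.span_eq⟩
    obtain ⟨alg, tower, hloc, hfin, hunr⟩ := S5054Lib.forward k A p hp
      ⟨q, hqmin, hqp, by rw [hqdim, hn]⟩ n hgen
    refine ⟨alg, tower, hloc, hfin, ?_⟩
    obtain ⟨-, hflat⟩ := regular_and_flat k A p n q hqmin hqp hqdim hunr
    haveI : IsNoetherianRing (MvPowerSeries (Fin n) k) := MvPowerSeries.isNoetherianRing _
    haveI : Algebra.FinitePresentation (MvPowerSeries (Fin n) k) A :=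
      Algebra.FinitePresentation.of_finiteType.mp inferInstance
    exact isEtaleAt_of_flat_localization (p.under (MvPowerSeries (Fin n) k)) p hflat hunr
  · rintro ⟨alg, tower, hloc, hfin, het⟩
    have hunr : Algebra.IsUnramifiedAt (MvPowerSeries (Fin n) k) p := by
      haveI : Algebra.FormallyEtale (MvPowerSeries (Fin n) k) (Localization.AtPrime p) := het
      infer_instance
    exact free_of_unramified k A p n hloc q hqmin hqp hqdim hunr

end Main

end Groth.Agent.Lib.Helper13.S3850Lib
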