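import Mathlib
import Groth.Prelude.Def_FSRel
import Groth.Agent.Lib.Helper13.ComplDer
import Groth.Agent.Lib.Helper18.FSRel

set_option autoImplicit false
set_option linter.style.haveILetI false
universe u
open EGA41 TensorProduct

namespace Groth.Agent.Lib.Helper13.S4581Lib

open Groth.Agent.Lib.Helper13.ComplDer

theorem main {A₀ A : Type u} [CommRing A₀] [IsNoetherianRing A₀] [CommRing A] [Algebra A₀ A]
    [Module.Finite A₀ A] (I : Ideal A) :
    EGA41.IsFormallySmoothRel A₀ A (AdicCompletion I A) := by
  haveI : IsNoetherianRing A := IsNoetherianRing.of_finite A₀ A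
  haveI : Algebra.FiniteType A₀ A := inferInstance
  haveI : Module.Finite A (Ω[A⁄A₀]) := inferInstance
  let e := AdicCompletion.ofTensorProductEquivOfFiniteNoetherian I (Ω[A⁄A₀])
  let D' : Derivation A₀ (AdicCompletion I A) (AdicCompletion I A ⊗[A] Ω[A⁄A₀]) :=
    e.symm.toLinearMap.compDer (complDer I (KaehlerDifferential.D A₀ A))
  have hD' : ∀ a : A, D' (algebraMap A (AdicCompletion I A) a) =
      (1 : AdicCompletion I A) ⊗ₜ[A] KaehlerDifferential.D A₀ A a := by
    intro a
    show e.symm (complDer I (KaehlerDifferential.D A₀ A) (AdicCompletion.of I A a)) = _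
    rw [complDer_of]
    exact AdicCompletion.ofTensorProductEquivOfFiniteNoetherian_symm_of I _ _
  refine Groth.Agent.Lib.Helper18.FSRel.isFormallySmoothRel_of_retraction A₀ A (AdicCompletion I A)
    D'.liftKaehlerDifferential ?_
  have key : ∀ ω : Ω[A⁄A₀], D'.liftKaehlerDifferential
      (KaehlerDifferential.map A₀ A₀ A (AdicCompletion I A) ω) =
      (1 : AdicCompletion I A) ⊗ₜ[A] ω := by
    intro ω
    have hω : ω ∈ Submodule.span A (Set.range (KaehlerDifferential.D A₀ A)) := by
      rw [KaehlerDifferential.span_range_derivation]; trivial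
    induction hω using Submodule.span_induction with
    | mem x hx =>
      obtain ⟨b, rfl⟩ := hx
      rw [KaehlerDifferential.map_D, Derivation.liftKaehlerDifferential_comp_D, hD']
    | zero => simp
    | add x y _ _ hx hy => simp [hx, hy, tmul_add]
    | smul b x _ hx =>
      rw [map_smul, ← algebraMap_smul (AdicCompletion I A) b, map_smul, hx, algebraMap_smul,
        tmul_smul]
  apply LinearMap.ext
  intro x
  induction x with
  | zero => simp
  | tmul c ω =>
    simp only [LinearMap.comp_apply, KaehlerDifferential.mapBaseChange_tmul, map_smul, key,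
      LinearMap.id_apply, smul_tmul', smul_eq_mul, mul_one]
  | add x y hx hy =>
    simp only [map_add, hx, hy]

end Groth.Agent.Lib.Helper13.S4581Lib
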