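import Mathlib
import Groth.Agent.Lib.Helper13.S3850Lib
import Groth.Agent.Lib.Helper96.SmoothRegular2
import Groth.Agent.Lib.Helper96.AdicSmoothPS

set_option autoImplicit false
set_option linter.style.haveILetI false
set_option linter.unusedSectionVars false

namespace Groth.Agent.Lib.Helper13.S5055Lib

open TensorProduct IsLocalRing KaehlerDifferential MvPowerSeries

universe u

/-- regular ascent along flat, unramified, essentially finite type maps -/
theorem isRegularRing_of_flat_of_formallyUnramified (R B : Type u) [CommRing R] [CommRing B]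
    [Algebra R B] [IsRegularRing R] [Module.Flat R B] [Algebra.FormallyUnramified R B]
    [Algebra.EssFiniteType R B] : IsRegularRing B := by
  haveI : IsNoetherianRing B := Algebra.EssFiniteType.isNoetherianRing R B
  rw [isRegularRing_iff]
  intro Q hQ
  let p := Q.under R
  let Rp := Localization.AtPrime p
  let Bq := Localization.AtPrime Q
  letI : Algebra Rp Bq := Localization.AtPrime.algebraOfLiesOver p Q
  haveI : IsRegularLocalRing Rp := inferInstance
  haveI : Module.Flat Rp Bq := inferInstance
  haveI : Algebra.FormallyUnramified B Bq := Algebra.FormallyUnramified.of_isLocalization Q.primeCompl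
  haveI : Algebra.FormallyUnramified R Bq := Algebra.FormallyUnramified.comp R B Bq
  haveI : Algebra.FormallyUnramified Rp Bq := Algebra.FormallyUnramified.of_restrictScalars R Rp Bq
  haveI : Algebra.EssFiniteType R Bq := Algebra.EssFiniteType.comp R B Bq
  haveI : Algebra.EssFiniteType Rp Bq := Algebra.EssFiniteType.of_comp R Rp Bq
  have hm : (maximalIdeal Rp).map (algebraMap Rp Bq) = maximalIdeal Bq :=
    Algebra.FormallyUnramified.map_maximalIdeal
  exact Groth.Agent.Lib.Helper33.isRegularLocalRing_of_flat_of_map_maximalIdeal Rp Bq hm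


section GeomReg

variable (k A : Type u) [Field k] [CommRing A] [IsLocalRing A] [IsNoetherianRing A] [Algebra k A]
  (p : Ideal A) [p.IsPrime] (n : ℕ)
  [Algebra (MvPowerSeries (Fin n) k) A] [IsScalarTower k (MvPowerSeries (Fin n) k) A]
  [Module.Finite (MvPowerSeries (Fin n) k) A]

theorem isGeometricallyRegular_mvPowerSeries :
    CAlg.IsGeometricallyRegular k (MvPowerSeries (Fin n) k) := by
  apply Groth.Agent.Lib.Helper96.isGeometricallyRegular_of_adicFormallySmooth
  refine Groth.Agent.Lib.Helper96.isAdicFormallySmooth_mvPowerSeries (⊥ : Ideal k) n _ ?_ ?_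
    (Groth.Agent.Lib.Helper96.isAdicFormallySmooth_of_formallySmooth ⊥)
  · intro l hl
    rw [Ideal.mem_bot] at hl
    rw [hl, map_zero]
    exact zero_mem _
  · intro i
    rw [IsLocalRing.mem_maximalIdeal, mem_nonunits_iff, MvPowerSeries.isUnit_iff_constantCoeff]
    simp

theorem isGeometricallyRegular_localization
    (hflat : letI := Localization.AtPrime.algebraOfLiesOver (p.under (MvPowerSeries (Fin n) k)) p
      Module.Flat (Localization.AtPrime (p.under (MvPowerSeries (Fin n) k)))
        (Localization.AtPrime p))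
    (hunr : Algebra.IsUnramifiedAt (MvPowerSeries (Fin n) k) p) :
    CAlg.IsGeometricallyRegular k (Localization.AtPrime p) := by
  intro k' _ _ hfin
  let P := MvPowerSeries (Fin n) k
  let Sq := Localization.AtPrime p
  have hR' : IsRegularRing (k' ⊗[k] P) := isGeometricallyRegular_mvPowerSeries k n k' hfin
  haveI : IsRegularRing (P ⊗[k] k') :=
    IsRegularRing.of_ringEquiv (Algebra.TensorProduct.comm k k' P).toRingEquiv
  haveI : Module.Flat P Sq := by
    letI := Localization.AtPrime.algebraOfLiesOver (p.under P) p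
    haveI := hflat
    exact Module.Flat.trans P (Localization.AtPrime (p.under P)) Sq
  haveI : Algebra.FormallyUnramified P Sq := hunr
  haveI : IsScalarTower k P Sq := IsScalarTower.of_algebraMap_eq (fun c => by
    rw [IsScalarTower.algebraMap_apply k A Sq, IsScalarTower.algebraMap_apply k P A,
      ← IsScalarTower.algebraMap_apply P A Sq])
  haveI : IsRegularRing ((P ⊗[k] k') ⊗[P] Sq) :=
    isRegularRing_of_flat_of_formallyUnramified (P ⊗[k] k') ((P ⊗[k] k') ⊗[P] Sq)
  let e1 : (P ⊗[k] k') ⊗[P] Sq ≃ₐ[P] Sq ⊗[P] (P ⊗[k] k') :=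
    Algebra.TensorProduct.comm P (P ⊗[k] k') Sq
  let e2 : Sq ⊗[P] (P ⊗[k] k') ≃ₐ[P] Sq ⊗[k] k' :=
    Algebra.TensorProduct.cancelBaseChange k P P Sq k'
  let e3 : Sq ⊗[k] k' ≃ₐ[k] k' ⊗[k] Sq := Algebra.TensorProduct.comm k Sq k'
  let e : (P ⊗[k] k') ⊗[P] Sq ≃+* k' ⊗[k] Sq :=
    e1.toRingEquiv.trans (e2.toRingEquiv.trans e3.toRingEquiv)
  exact IsRegularRing.of_ringEquiv (R := (P ⊗[k] k') ⊗[P] Sq) e

end GeomReg


section Main

open Groth.Agent.Lib.Helper13.S3850Lib

variable (k A : Type u) [Field k] [CommRing A] [IsLocalRing A] [IsNoetherianRing A] [Algebra k A]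
  [IsAdicComplete (maximalIdeal A) A] [Module.Finite k (ResidueField A)]
  (p : Ideal A) [p.IsPrime]

theorem main (n : ℕ) (hn : ringKrullDim A = n) (hp : p ≠ maximalIdeal A)
    (hq : ∃ q ∈ minimalPrimes A, q ≤ p ∧ ringKrullDim (A ⧸ q) = n)
    (hgen : ∃ s : Fin n → (LocalizedModule p.primeCompl
      (AdicCompletion (maximalIdeal A) (Ω[A⁄k]))),
      Submodule.span (Localization.AtPrime p) (Set.range s) = ⊤) :
    (Module.Free (Localization.AtPrime p)
        (LocalizedModule p.primeCompl (AdicCompletion (maximalIdeal A) (Ω[A⁄k]))) ∧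
      Module.finrank (Localization.AtPrime p)
        (LocalizedModule p.primeCompl (AdicCompletion (maximalIdeal A) (Ω[A⁄k]))) = n) ∧
      CAlg.IsGeometricallyRegular k (Localization.AtPrime p) := by
  obtain ⟨q, hqmin, hqp, hqdim⟩ := hq
  obtain ⟨alg, tower, hloc, hfin, hunr⟩ := S5054Lib.forward k A p hp
    ⟨q, hqmin, hqp, by rw [hqdim, hn]⟩ n hgen
  obtain ⟨-, hflat⟩ := regular_and_flat k A p n q hqmin hqp hqdim hunr
  exact ⟨free_of_unramified k A p n hloc q hqmin hqp hqdim hunr,
    isGeometricallyRegular_localization k A p n hflat hunr⟩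

end Main

end Groth.Agent.Lib.Helper13.S5055Lib
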