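import Mathlib
import Groth.Agent.Lib.Helper13.CartierH1
import Groth.Agent.Lib.Helper13.ComplDiff
import Groth.Agent.Lib.Helper13.SepDiff3
import Groth.Agent.Lib.Helper13.S3847Lib
import Groth.Agent.S4551
import Groth.Agent.S2460

/-!
# `dim Ω[L⁄k] ≥ dim C + dim Υ` for the fraction field of a complete local domain (helper13)
-/

set_option autoImplicit false

namespace Groth.Agent.Lib.Helper13.S5988Lib

open TensorProduct KaehlerDifferential Algebra IsLocalRing

universe u

section Tower

variable (k K L : Type u) [Field k] [Field K] [Field L] [Algebra k K] [Algebra k L] [Algebra K L]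
  [IsScalarTower k K L] [Module.Finite K L]

theorem map_injective_of_subsingleton (hsep : Subsingleton (H1Cotangent k K)) :
    Function.Injective (H1Cotangent.map k K L L) := by
  rw [injective_iff_map_eq_zero]
  intro x hx
  obtain ⟨y, rfl⟩ := (H1Cotangent.exact_liftBaseChange_map_of_flat k K L x).mp hx
  have hall : ∀ y : L ⊗[K] H1Cotangent k K, y = 0 := by
    intro y
    induction y using TensorProduct.induction_on with
    | zero => rfl
    | tmul a h => rw [Subsingleton.elim h 0, TensorProduct.tmul_zero]
    | add y z hy hz => rw [hy, hz, add_zero]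
  rw [hall y, map_zero]

theorem subsingleton_h1_of_isGeometricallyReduced [Algebra.IsGeometricallyReduced k K] :
    Subsingleton (H1Cotangent k K) := by
  have hinj := Groth.Agent.Lib.Helper13.SepDiff.isGeometricallyReduced_iff_int_mapBaseChange_injective
    (E := k) (F := K) |>.mp inferInstance
  have hker : LinearMap.ker (KaehlerDifferential.mapBaseChange ℤ k K) = ⊥ :=
    LinearMap.ker_eq_bot.mpr hinj
  have e := Groth.Agent.Lib.Helper13.CartierH1.h1Equiv k K
  rw [hker] at e
  exact e.toEquiv.subsingleton

theorem tower_bound (hsep : Subsingleton (H1Cotangent k K)) (n : ℕ)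
    (hn : (n : Cardinal.{u}) ≤ Module.rank L (L ⊗[K] Ω[K⁄k])) :
    Module.Finite L (H1Cotangent k L) ∧
      (n : Cardinal.{u}) + Module.rank L (H1Cotangent k L) ≤ Module.rank L (Ω[L⁄k]) := by
  haveI : Algebra.IsAlgebraic K L := Algebra.IsAlgebraic.of_finite K L
  obtain ⟨hfin1, hfin2, hcart⟩ := Groth.Agent.Lib.Helper13.CartierH1.cartier K L
  rw [_root_.trdeg_eq_zero, Cardinal.zero_toNat] at hcart
  have heq : Module.finrank L (Ω[L⁄K]) = Module.finrank L (H1Cotangent K L) := by
    have : (Module.finrank L (Ω[L⁄K]) : ℤ) = Module.finrank L (H1Cotangent K L) := by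
      simpa [sub_eq_zero] using hcart
    exact_mod_cast this
  have hjinj := map_injective_of_subsingleton k K L hsep
  haveI hfin : Module.Finite L (H1Cotangent k L) :=
    Module.Finite.of_injective (H1Cotangent.map k K L L) hjinj
  refine ⟨hfin, ?_⟩
  -- rank computations
  have h1 := LinearMap.rank_range_add_rank_ker (KaehlerDifferential.mapBaseChange k K L)
  have h2 := LinearMap.rank_range_add_rank_ker (H1Cotangent.δ k K L)
  have h3 := LinearMap.rank_range_add_rank_ker (KaehlerDifferential.map k K L L)
  have hkerμ : LinearMap.ker (mapBaseChange k K L) = LinearMap.range (H1Cotangent.δ k K L) :=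
    (H1Cotangent.exact_δ_mapBaseChange k K L).linearMap_ker_eq
  have hkerδ : LinearMap.ker (H1Cotangent.δ k K L) = LinearMap.range (H1Cotangent.map k K L L) :=
    (H1Cotangent.exact_map_δ k K L).linearMap_ker_eq
  have hkerc : LinearMap.ker (KaehlerDifferential.map k K L L) =
      LinearMap.range (mapBaseChange k K L) :=
    (KaehlerDifferential.exact_mapBaseChange_map k K L).linearMap_ker_eq
  have hrangec : LinearMap.range (KaehlerDifferential.map k K L L) = ⊤ :=
    LinearMap.range_eq_top.mpr (KaehlerDifferential.map_surjective k K L)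
  have hrj : Module.rank L (LinearMap.range (H1Cotangent.map k K L L)) =
      Module.rank L (H1Cotangent k L) :=
    (LinearEquiv.ofInjective _ hjinj).rank_eq.symm
  rw [hkerμ] at h1
  rw [hkerδ, hrj] at h2
  rw [hkerc, hrangec, rank_top] at h3
  -- h1 : rank(range μ) + rank(range δ) = rank X
  -- h2 : rank(range δ) + rank H1(k,L) = rank H1(K,L)
  -- h3 : rank Ω[L/K] + rank(range μ) = rank Ω[L/k]
  have h4 : Module.rank L (Ω[L⁄K]) = Module.rank L (H1Cotangent K L) := by
    rw [← Module.finrank_eq_rank, ← Module.finrank_eq_rank, heq]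
  calc (n : Cardinal.{u}) + Module.rank L (H1Cotangent k L)
      ≤ Module.rank L (L ⊗[K] Ω[K⁄k]) + Module.rank L (H1Cotangent k L) := by gcongr
    _ = Module.rank L (LinearMap.range (mapBaseChange k K L)) +
          (Module.rank L (LinearMap.range (H1Cotangent.δ k K L)) +
            Module.rank L (H1Cotangent k L)) := by rw [← h1, add_assoc]
    _ = Module.rank L (LinearMap.range (mapBaseChange k K L)) + Module.rank L (Ω[L⁄K]) := by
        rw [h2, h4]
    _ = Module.rank L (Ω[L⁄k]) := by rw [add_comm, h3]

end Tower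

section Pi

theorem exists_surjective_pi (k P K L : Type u) [Field k] [CommRing P] [Field K] [Field L]
    [Algebra k P] [Algebra k K] [Algebra k L] [Algebra P K] [Algebra P L] [Algebra K L]
    [IsScalarTower k P K] [IsScalarTower k P L] [IsScalarTower k K L] [IsScalarTower P K L]
    [IsFractionRing P K] {n : ℕ} (δ : Fin n → Derivation k P P) (t : Fin n → P)
    (hδ : ∀ i j, δ i (t j) = if i = j then 1 else 0) :
    ∃ ℓ : L ⊗[K] Ω[K⁄k] →ₗ[L] (Fin n → L), Function.Surjective ℓ := by
  classical
  haveI : Algebra.FormallyEtale P K := Algebra.FormallyEtale.of_isLocalization (nonZeroDivisors P)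
  have hex : ∀ i, ∃ D' : Derivation k K K,
      ∀ f : P, D' (algebraMap P K f) = algebraMap P K (δ i f) := fun i =>
    Groth.Agent.Lib.Helper13.ComplDiff.exists_derivation_extension k P K (δ i)
  choose δK hδK using hex
  let ℓi : Fin n → (L ⊗[K] Ω[K⁄k] →ₗ[L] L) := fun i =>
    LinearMap.liftBaseChange L ((Algebra.linearMap K L) ∘ₗ (δK i).liftKaehlerDifferential)
  have hℓi : ∀ i (a : L) (f : K), ℓi i (a ⊗ₜ[K] D k K f) = a * algebraMap K L (δK i f) := by
    intro i a f
    show LinearMap.liftBaseChange L _ (a ⊗ₜ[K] D k K f) = _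
    rw [LinearMap.liftBaseChange_tmul, LinearMap.comp_apply, Derivation.liftKaehlerDifferential_comp_D,
      Algebra.linearMap_apply, smul_eq_mul]
  let ℓ : L ⊗[K] Ω[K⁄k] →ₗ[L] (Fin n → L) := LinearMap.pi ℓi
  have hℓt : ∀ (a : L) (j : Fin n), ℓ (a ⊗ₜ[K] D k K (algebraMap P K (t j))) = Pi.single j a := by
    intro a j
    funext i
    show (LinearMap.pi ℓi) _ i = _
    rw [LinearMap.pi_apply, hℓi, hδK, hδ]
    by_cases hij : i = j
    · subst hij
      rw [if_pos rfl, map_one, map_one, mul_one, Pi.single_eq_same]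
    · rw [if_neg hij, map_zero, map_zero, mul_zero, Pi.single_eq_of_ne hij]
  refine ⟨ℓ, fun v => ⟨∑ j, (v j) ⊗ₜ[K] D k K (algebraMap P K (t j)), ?_⟩⟩
  rw [map_sum]
  simp_rw [hℓt]
  exact Finset.univ_sum_single v

end Pi

set_option maxHeartbeats 800000 in
theorem main (k C L : Type u) [Field k] [CommRing C] [IsDomain C]
    [IsNoetherianRing C] [IsLocalRing C] [Algebra k C] [IsAdicComplete (maximalIdeal C) C]
    [Module.Finite k (ResidueField C)] (n : ℕ) (hn : ringKrullDim C = n)
    [Field L] [Algebra C L] [IsFractionRing C L] [Algebra k L] [IsScalarTower k C L] :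
    Module.Finite L (LinearMap.ker (KaehlerDifferential.mapBaseChange ℤ k L)) ∧
      (n : Cardinal.{u}) + Module.rank L (LinearMap.ker (KaehlerDifferential.mapBaseChange ℤ k L)) ≤
        Module.rank L (Ω[L⁄k]) := by
  classical
  obtain ⟨n', w, hwinj, -, hwfin⟩ := Groth.Agent.S2460.result (k₀ := k) (A := C)
  letI : Algebra (MvPowerSeries (Fin n') k) C := w.toRingHom.toAlgebra
  haveI : IsScalarTower k (MvPowerSeries (Fin n') k) C :=
    IsScalarTower.of_algebraMap_eq (fun r => (w.commutes r).symm)
  haveI : Module.Finite (MvPowerSeries (Fin n') k) C := hwfin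
  haveI : IsDomain (MvPowerSeries (Fin n') k) := NoZeroDivisors.to_isDomain _
  have hnn' : n ≤ n' := by
    have h1 : ringKrullDim C ≤ (n' : WithBot ℕ∞) :=
      (S3847Lib.ringKrullDim_le_of_isIntegral (R := MvPowerSeries (Fin n') k)).trans
        (Groth.Agent.Lib.Helper76.PSComplete.ringKrullDim_le_card k n')
    rw [hn] at h1
    exact_mod_cast h1
  letI : Algebra (MvPowerSeries (Fin n') k) L :=
    ((algebraMap C L).comp (algebraMap (MvPowerSeries (Fin n') k) C)).toAlgebra
  haveI : IsScalarTower (MvPowerSeries (Fin n') k) C L :=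
    IsScalarTower.of_algebraMap_eq (fun _ => rfl)
  haveI : FaithfulSMul (MvPowerSeries (Fin n') k) C :=
    (faithfulSMul_iff_algebraMap_injective _ C).mpr hwinj
  haveI : FaithfulSMul (MvPowerSeries (Fin n') k) L :=
    (faithfulSMul_iff_algebraMap_injective _ L).mpr
      ((IsFractionRing.injective C L).comp hwinj)
  letI : Algebra (FractionRing (MvPowerSeries (Fin n') k)) L :=
    FractionRing.liftAlgebra (MvPowerSeries (Fin n') k) L
  haveI : IsScalarTower (MvPowerSeries (Fin n') k) (FractionRing (MvPowerSeries (Fin n') k)) L :=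
    FractionRing.isScalarTower_liftAlgebra (MvPowerSeries (Fin n') k) L
  haveI : IsScalarTower k (MvPowerSeries (Fin n') k) L := IsScalarTower.of_algebraMap_eq (fun r => by
    rw [IsScalarTower.algebraMap_apply k C L,
      IsScalarTower.algebraMap_apply k (MvPowerSeries (Fin n') k) C,
      ← IsScalarTower.algebraMap_apply (MvPowerSeries (Fin n') k) C L])
  haveI : IsScalarTower k (FractionRing (MvPowerSeries (Fin n') k)) L :=
    IsScalarTower.of_algebraMap_eq (fun r => by
      rw [IsScalarTower.algebraMap_apply k (MvPowerSeries (Fin n') k)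
          (FractionRing (MvPowerSeries (Fin n') k)),
        ← IsScalarTower.algebraMap_apply (MvPowerSeries (Fin n') k)
          (FractionRing (MvPowerSeries (Fin n') k)) L,
        ← IsScalarTower.algebraMap_apply k (MvPowerSeries (Fin n') k) L])
  haveI : Algebra.IsAlgebraic (MvPowerSeries (Fin n') k) C := inferInstance
  haveI : Module.Finite (FractionRing (MvPowerSeries (Fin n') k)) L :=
    Module.Finite.of_isLocalization (MvPowerSeries (Fin n') k) C
      (nonZeroDivisors (MvPowerSeries (Fin n') k))
  -- separability of `K / k`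
  have hsep : Subsingleton (H1Cotangent k (FractionRing (MvPowerSeries (Fin n') k))) := by
    haveI := Groth.Agent.S4551.result k n'
    exact subsingleton_h1_of_isGeometricallyReduced k _
  obtain ⟨ℓ, hℓ⟩ := exists_surjective_pi k (MvPowerSeries (Fin n') k)
    (FractionRing (MvPowerSeries (Fin n') k)) L
    (fun i => MvPowerSeries.pderiv k i) (fun i => MvPowerSeries.X i) (by
      intro i j
      by_cases hij : i = j
      · subst hij
        rw [if_pos rfl, MvPowerSeries.pderiv_X_self]
      · rw [if_neg hij, MvPowerSeries.pderiv_X_of_ne (Ne.symm hij)])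
  have hrank : (n : Cardinal.{u}) ≤ Module.rank L
      (L ⊗[FractionRing (MvPowerSeries (Fin n') k)] Ω[FractionRing (MvPowerSeries (Fin n') k)⁄k]) := by
    have h1 := LinearMap.rank_le_of_surjective ℓ hℓ
    rw [rank_fin_fun] at h1
    exact le_trans (by exact_mod_cast hnn') h1
  obtain ⟨hfin, hineq⟩ := tower_bound k (FractionRing (MvPowerSeries (Fin n') k)) L hsep n hrank
  have e := Groth.Agent.Lib.Helper13.CartierH1.h1Equiv k L
  refine ⟨Module.Finite.equiv e, ?_⟩
  rw [← e.rank_eq]
  exact hineq

end Groth.Agent.Lib.Helper13.S5988Lib
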