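import Mathlib
import Groth.Agent.Lib.Helper13.S5988Lib
import Groth.Agent.Lib.Helper13.PSFrob
import Groth.Agent.Lib.Helper76.PSCohen

/-!
# `dim Ω[L⁄k] = dim C + dim Υ` when `[k : k^p] < ∞` (helper13)
-/

set_option autoImplicit false

namespace Groth.Agent.Lib.Helper13.S5989Lib

open TensorProduct KaehlerDifferential Algebra IsLocalRing MvPowerSeries
  Groth.Agent.Lib.Helper13.PSFrob

universe u

section PS

variable (p : ℕ) [hpp : Fact p.Prime] (k : Type u) [Field k] [CharP k p] (n : ℕ)

/-- polynomials: `D f ∈ span (D X_i)` -/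
theorem D_coe_mem (q : MvPolynomial (Fin n) k) :
    D k (MvPowerSeries (Fin n) k) (q : MvPowerSeries (Fin n) k) ∈
      Submodule.span (MvPowerSeries (Fin n) k)
        (Set.range fun i : Fin n => D k (MvPowerSeries (Fin n) k) (X i)) := by
  induction q using MvPolynomial.induction_on with
  | C a =>
    rw [MvPolynomial.coe_C]
    have : (C a : MvPowerSeries (Fin n) k) = algebraMap k _ a := rfl
    rw [this, Derivation.map_algebraMap]
    exact zero_mem _
  | add q₁ q₂ h₁ h₂ =>
    rw [MvPolynomial.coe_add, map_add]
    exact add_mem h₁ h₂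
  | mul_X q i h =>
    rw [MvPolynomial.coe_mul, MvPolynomial.coe_X, Derivation.leibniz]
    exact add_mem (Submodule.smul_mem _ _ (Submodule.subset_span ⟨i, rfl⟩))
      (Submodule.smul_mem _ _ h)

theorem natCast_eq_zero : ((p : ℕ) : MvPowerSeries (Fin n) k) = 0 := by
  have h1 : ((p : ℕ) : MvPowerSeries (Fin n) k) = C ((p : ℕ) : k) := (map_natCast C p).symm
  rw [h1, CharP.cast_eq_zero, map_zero]

set_option maxHeartbeats 800000 in
theorem span_D_X (hk : (frobenius k p).Finite) :
    Submodule.span (MvPowerSeries (Fin n) k)
      (Set.range fun i : Fin n => D k (MvPowerSeries (Fin n) k) (X i)) = ⊤ := by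
  classical
  have hp0 : p ≠ 0 := hpp.out.ne_zero
  haveI : ExpChar k p := ExpChar.prime hpp.out
  let k₀ : Subfield k := (frobenius k p).fieldRange
  -- `k` is finite over `k₀`
  haveI hfin : Module.Finite k₀ k := by
    obtain ⟨s, hs⟩ := hk.1
    refine ⟨⟨s, ?_⟩⟩
    rw [_root_.eq_top_iff]
    rintro x -
    have hx : x ∈ @Submodule.span k k _ _ (frobenius k p).toAlgebra.toModule (s : Set k) := by
      rw [hs]; trivial
    induction hx using Submodule.span_induction with
    | mem y hy => exact Submodule.subset_span hy
    | zero => exact zero_mem _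
    | add y z _ _ hy hz => exact add_mem hy hz
    | smul a y _ hy =>
      have h1 : @HSMul.hSMul k k k (@instHSMul k k (frobenius k p).toAlgebra.toSMul) a y =
          (⟨frobenius k p a, ⟨a, rfl⟩⟩ : k₀) • y := rfl
      rw [h1]
      exact Submodule.smul_mem _ _ hy
  -- elements of `SF` are `p`-th powers, hence killed by `D`
  have hDS : ∀ s ∈ SF p hp0 k₀ (σ := Fin n), D k (MvPowerSeries (Fin n) k) s = 0 := by
    intro s hs
    rw [mem_SF_iff] at hs
    obtain ⟨w, rfl⟩ := exists_pow_eq p hp0 s (fun m => by
      obtain ⟨y, hy⟩ := (hs m).1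
      exact ⟨y, by rw [← frobenius_def]; exact hy⟩) (fun m => (hs m).2)
    rw [Derivation.leibniz_pow, ← Nat.cast_smul_eq_nsmul (MvPowerSeries (Fin n) k),
      natCast_eq_zero, zero_smul]
  rw [_root_.eq_top_iff, ← KaehlerDifferential.span_range_derivation, Submodule.span_le]
  rintro _ ⟨f, rfl⟩
  let b := Module.finBasis k₀ k
  have hf : f ∈ Submodule.span (SF p hp0 k₀ (σ := Fin n)) (Set.range (vec p k₀ b (σ := Fin n))) :=
    span_vec p hp0 k₀ b Submodule.mem_top
  induction hf using Submodule.span_induction with
  | mem y hy =>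
    obtain ⟨j, rfl⟩ := hy
    show D k _ (monomial (toE p j.2) (b j.1)) ∈ _
    rw [← MvPolynomial.coe_monomial]
    exact D_coe_mem k n _
  | zero => rw [map_zero]; exact zero_mem _
  | add y z _ _ hy hz => rw [map_add]; exact add_mem hy hz
  | smul s y _ hy =>
    have h1 : s • y = (s : MvPowerSeries (Fin n) k) * y := rfl
    rw [h1, Derivation.leibniz, hDS _ s.2, smul_zero, add_zero]
    exact Submodule.smul_mem _ _ hy

end PS

theorem finite_of_span_range {R M ι : Type*} [Semiring R] [AddCommMonoid M] [Module R M] [Finite ι]
    (v : ι → M) (h : Submodule.span R (Set.range v) = ⊤) : Module.Finite R M :=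
  ⟨by rw [← h]; exact Submodule.fg_span (Set.finite_range v)⟩

section Tower

variable (k K L : Type u) [Field k] [Field K] [Field L] [Algebra k K] [Algebra k L] [Algebra K L]
  [IsScalarTower k K L] [Module.Finite K L]

theorem tower_rank_eq (hsep : Subsingleton (H1Cotangent k K)) :
    Module.rank L (L ⊗[K] Ω[K⁄k]) + Module.rank L (H1Cotangent k L) = Module.rank L (Ω[L⁄k]) := by
  haveI : Algebra.IsAlgebraic K L := Algebra.IsAlgebraic.of_finite K L
  obtain ⟨hfin1, hfin2, hcart⟩ := Groth.Agent.Lib.Helper13.CartierH1.cartier K L
  rw [_root_.trdeg_eq_zero, Cardinal.zero_toNat] at hcart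
  have heq : Module.finrank L (Ω[L⁄K]) = Module.finrank L (H1Cotangent K L) := by
    have : (Module.finrank L (Ω[L⁄K]) : ℤ) = Module.finrank L (H1Cotangent K L) := by
      simpa [sub_eq_zero] using hcart
    exact_mod_cast this
  have hjinj := S5988Lib.map_injective_of_subsingleton k K L hsep
  have h1 := LinearMap.rank_range_add_rank_ker (KaehlerDifferential.mapBaseChange k K L)
  have h2 := LinearMap.rank_range_add_rank_ker (H1Cotangent.δ k K L)
  have h3 := LinearMap.rank_range_add_rank_ker (KaehlerDifferential.map k K L L)
  have hkerμ : LinearMap.ker (mapBaseChange k K L) = LinearMap.range (H1Cotangent.δ k K L) :=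
    (H1Cotangent.exact_δ_mapBaseChange k K L).linearMap_ker_eq
  have hkerδ : LinearMap.ker (H1Cotangent.δ k K L) = LinearMap.range (H1Cotangent.map k K L L) :=
    (H1Cotangent.exact_map_δ k K L).linearMap_ker_eq
  have hkerc : LinearMap.ker (KaehlerDifferential.map k K L L) =
      LinearMap.range (mapBaseChange k K L) :=
    (KaehlerDifferential.exact_mapBaseChange_map k K L).linearMap_ker_eq
  have hrangec : LinearMap.range (KaehlerDifferential.map k K L L) = ⊤ :=
    LinearMap.range_eq_top.mpr (KaehlerDifferential.map_surjective k K L)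
  have hrj : Module.rank L (LinearMap.range (H1Cotangent.map k K L L)) =
      Module.rank L (H1Cotangent k L) :=
    (LinearEquiv.ofInjective _ hjinj).rank_eq.symm
  rw [hkerμ] at h1
  rw [hkerδ, hrj] at h2
  rw [hkerc, hrangec, rank_top] at h3
  have h4 : Module.rank L (Ω[L⁄K]) = Module.rank L (H1Cotangent K L) := by
    rw [← Module.finrank_eq_rank, ← Module.finrank_eq_rank, heq]
  calc Module.rank L (L ⊗[K] Ω[K⁄k]) + Module.rank L (H1Cotangent k L)
      = Module.rank L (LinearMap.range (mapBaseChange k K L)) +
          (Module.rank L (LinearMap.range (H1Cotangent.δ k K L)) +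
            Module.rank L (H1Cotangent k L)) := by rw [← h1, add_assoc]
    _ = Module.rank L (LinearMap.range (mapBaseChange k K L)) + Module.rank L (Ω[L⁄K]) := by
        rw [h2, h4]
    _ = Module.rank L (Ω[L⁄k]) := by rw [add_comm, h3]

end Tower

/-- an integral injective extension has the same dimension (copied from S8835) -/
theorem ringKrullDim_eq_of_isIntegral_of_injective {R S : Type*} [CommRing R] [CommRing S]
    [Algebra R S] [Algebra.IsIntegral R S] (hinj : Function.Injective (algebraMap R S)) :
    ringKrullDim R = ringKrullDim S := by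
  apply le_antisymm
  · unfold ringKrullDim
    refine iSup_le fun l => ?_
    have hker : (⊥ : Ideal S).comap (algebraMap R S) ≤ l.head.asIdeal := by
      rw [← RingHom.ker_eq_comap_bot, (RingHom.injective_iff_ker_eq_bot _).mp hinj]
      exact bot_le
    obtain ⟨P, -, hP, hPl⟩ := Ideal.exists_ideal_over_prime_of_isIntegral l.head.asIdeal ⊥ hker
    have : P.LiesOver l.head.asIdeal := ⟨hPl.symm⟩
    obtain ⟨L, hL, -, -⟩ := Ideal.exists_ltSeries_of_hasGoingUp l P
    rw [← hL]
    exact Order.LTSeries.length_le_krullDim L
  · exact S3847Lib.ringKrullDim_le_of_isIntegral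

set_option maxHeartbeats 1600000 in
theorem main (p : ℕ) [Fact p.Prime] (k C L : Type u) [Field k] [CharP k p]
    (hk : (frobenius k p).Finite) [CommRing C] [IsDomain C]
    [IsNoetherianRing C] [IsLocalRing C] [Algebra k C] [IsAdicComplete (maximalIdeal C) C]
    [Module.Finite k (ResidueField C)] (n : ℕ) (hn : ringKrullDim C = n)
    [Field L] [Algebra C L] [IsFractionRing C L] [Algebra k L] [IsScalarTower k C L] :
    Module.finrank L (Ω[L⁄k]) =
        n + Module.finrank L (LinearMap.ker (KaehlerDifferential.mapBaseChange ℤ k L)) ∧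
      Module.Finite C (Ω[C⁄k]) := by
  classical
  obtain ⟨n', w, hwinj, -, hwfin⟩ := Groth.Agent.S2460.result (k₀ := k) (A := C)
  letI : Algebra (MvPowerSeries (Fin n') k) C := w.toRingHom.toAlgebra
  haveI : IsScalarTower k (MvPowerSeries (Fin n') k) C :=
    IsScalarTower.of_algebraMap_eq (fun r => (w.commutes r).symm)
  haveI : Module.Finite (MvPowerSeries (Fin n') k) C := hwfin
  haveI : IsDomain (MvPowerSeries (Fin n') k) := NoZeroDivisors.to_isDomain _
  have hnn' : n' = n := by
    have h1 : ringKrullDim (MvPowerSeries (Fin n') k) = ringKrullDim C :=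
      ringKrullDim_eq_of_isIntegral_of_injective hwinj
    rw [hn, Groth.Agent.Lib.Helper76.PSComplete.ringKrullDim_eq_card] at h1
    exact_mod_cast h1
  subst hnn'
  letI : Algebra (MvPowerSeries (Fin n') k) L :=
    ((algebraMap C L).comp (algebraMap (MvPowerSeries (Fin n') k) C)).toAlgebra
  haveI : IsScalarTower (MvPowerSeries (Fin n') k) C L :=
    IsScalarTower.of_algebraMap_eq (fun _ => rfl)
  haveI : FaithfulSMul (MvPowerSeries (Fin n') k) C :=
    (faithfulSMul_iff_algebraMap_injective _ C).mpr hwinj
  haveI : FaithfulSMul (MvPowerSeries (Fin n') k) L :=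
    (faithfulSMul_iff_algebraMap_injective _ L).mpr
      ((IsFractionRing.injective C L).comp hwinj)
  letI : Algebra (FractionRing (MvPowerSeries (Fin n') k)) L :=
    FractionRing.liftAlgebra (MvPowerSeries (Fin n') k) L
  haveI : IsScalarTower (MvPowerSeries (Fin n') k) (FractionRing (MvPowerSeries (Fin n') k)) L :=
    FractionRing.isScalarTower_liftAlgebra (MvPowerSeries (Fin n') k) L
  haveI : IsScalarTower k (MvPowerSeries (Fin n') k) L := IsScalarTower.of_algebraMap_eq (fun r => by
    rw [IsScalarTower.algebraMap_apply k C L,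
      IsScalarTower.algebraMap_apply k (MvPowerSeries (Fin n') k) C,
      ← IsScalarTower.algebraMap_apply (MvPowerSeries (Fin n') k) C L])
  haveI : IsScalarTower k (FractionRing (MvPowerSeries (Fin n') k)) L :=
    IsScalarTower.of_algebraMap_eq (fun r => by
      rw [IsScalarTower.algebraMap_apply k (MvPowerSeries (Fin n') k)
          (FractionRing (MvPowerSeries (Fin n') k)),
        ← IsScalarTower.algebraMap_apply (MvPowerSeries (Fin n') k)
          (FractionRing (MvPowerSeries (Fin n') k)) L,
        ← IsScalarTower.algebraMap_apply k (MvPowerSeries (Fin n') k) L])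
  haveI : Algebra.IsAlgebraic (MvPowerSeries (Fin n') k) C := inferInstance
  haveI : Module.Finite (FractionRing (MvPowerSeries (Fin n') k)) L :=
    Module.Finite.of_isLocalization (MvPowerSeries (Fin n') k) C
      (nonZeroDivisors (MvPowerSeries (Fin n') k))
  have hsep : Subsingleton (H1Cotangent k (FractionRing (MvPowerSeries (Fin n') k))) := by
    haveI := Groth.Agent.S4551.result k n'
    exact S5988Lib.subsingleton_h1_of_isGeometricallyReduced k _
  have hspanP := span_D_X p k n' hk
  -- `X = L ⊗ Ω[K⁄k]` is spanned by `1 ⊗ d X_i`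
  have hspanX : Submodule.span L (Set.range fun i : Fin n' =>
      (1 : L) ⊗ₜ[FractionRing (MvPowerSeries (Fin n') k)]
        D k (FractionRing (MvPowerSeries (Fin n') k))
          (algebraMap (MvPowerSeries (Fin n') k) _ (X i))) = ⊤ := by
    have hK : ∀ ω : Ω[FractionRing (MvPowerSeries (Fin n') k)⁄k],
        ω ∈ Submodule.span (FractionRing (MvPowerSeries (Fin n') k))
          (Set.range fun i : Fin n' => D k (FractionRing (MvPowerSeries (Fin n') k))
            (algebraMap (MvPowerSeries (Fin n') k) _ (X i))) := by
      intro ω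
      have hω : ω ∈ Submodule.span (FractionRing (MvPowerSeries (Fin n') k))
          (Set.range (KaehlerDifferential.map k k (MvPowerSeries (Fin n') k)
            (FractionRing (MvPowerSeries (Fin n') k)) ∘ D k (MvPowerSeries (Fin n') k))) := by
        rw [KaehlerDifferential.span_range_map_derivation_of_isLocalization k
          (MvPowerSeries (Fin n') k) (FractionRing (MvPowerSeries (Fin n') k))
          (nonZeroDivisors (MvPowerSeries (Fin n') k))]
        trivial
      induction hω using Submodule.span_induction with
      | mem y hy =>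
        obtain ⟨f, rfl⟩ := hy
        rw [Function.comp_apply]
        have hf : D k (MvPowerSeries (Fin n') k) f ∈ Submodule.span (MvPowerSeries (Fin n') k)
            (Set.range fun i : Fin n' => D k (MvPowerSeries (Fin n') k) (X i)) := by
          rw [hspanP]; trivial
        generalize D k (MvPowerSeries (Fin n') k) f = η at hf
        induction hf using Submodule.span_induction with
        | mem z hz =>
          obtain ⟨i, rfl⟩ := hz
          rw [KaehlerDifferential.map_D]
          exact Submodule.subset_span ⟨i, rfl⟩
        | zero => rw [map_zero]; exact zero_mem _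
        | add y z _ _ hy hz => rw [map_add]; exact add_mem hy hz
        | smul a y _ hy =>
          rw [map_smul, ← algebraMap_smul (FractionRing (MvPowerSeries (Fin n') k)) a]
          exact Submodule.smul_mem _ _ hy
      | zero => exact zero_mem _
      | add y z _ _ hy hz => exact add_mem hy hz
      | smul a y _ hy => exact Submodule.smul_mem _ _ hy
    rw [_root_.eq_top_iff]
    rintro x -
    induction x using TensorProduct.induction_on with
    | zero => exact zero_mem _
    | tmul a ω =>
      have hω := hK ω
      induction hω using Submodule.span_induction with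
      | mem y hy =>
        obtain ⟨i, rfl⟩ := hy
        have : a ⊗ₜ[FractionRing (MvPowerSeries (Fin n') k)]
            D k (FractionRing (MvPowerSeries (Fin n') k))
              (algebraMap (MvPowerSeries (Fin n') k) _ (X i)) =
            a • ((1 : L) ⊗ₜ[FractionRing (MvPowerSeries (Fin n') k)]
              D k (FractionRing (MvPowerSeries (Fin n') k))
                (algebraMap (MvPowerSeries (Fin n') k) _ (X i))) := by
          rw [TensorProduct.smul_tmul', smul_eq_mul, mul_one]
        rw [this]
        exact Submodule.smul_mem _ _ (Submodule.subset_span ⟨i, rfl⟩)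
      | zero => rw [TensorProduct.tmul_zero]; exact zero_mem _
      | add y z _ _ hy hz => rw [TensorProduct.tmul_add]; exact add_mem hy hz
      | smul c y _ hy =>
        rw [TensorProduct.tmul_smul, ← algebraMap_smul L c]
        exact Submodule.smul_mem _ _ hy
    | add x y hx hy => exact add_mem hx hy
  haveI hfinX : Module.Finite L
      (L ⊗[FractionRing (MvPowerSeries (Fin n') k)] Ω[FractionRing (MvPowerSeries (Fin n') k)⁄k]) :=
    finite_of_span_range _ hspanX
  have hle : Module.finrank L
      (L ⊗[FractionRing (MvPowerSeries (Fin n') k)] Ω[FractionRing (MvPowerSeries (Fin n') k)⁄k]) ≤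
      n' := by
    have := finrank_le_of_span_eq_top hspanX
    rwa [Fintype.card_fin] at this
  obtain ⟨ℓ, hℓ⟩ := S5988Lib.exists_surjective_pi k (MvPowerSeries (Fin n') k)
    (FractionRing (MvPowerSeries (Fin n') k)) L
    (fun i => MvPowerSeries.pderiv k i) (fun i => MvPowerSeries.X i) (by
      intro i j
      by_cases hij : i = j
      · subst hij
        rw [if_pos rfl, MvPowerSeries.pderiv_X_self]
      · rw [if_neg hij, MvPowerSeries.pderiv_X_of_ne (Ne.symm hij)])
  have hge : n' ≤ Module.finrank L
      (L ⊗[FractionRing (MvPowerSeries (Fin n') k)] Ω[FractionRing (MvPowerSeries (Fin n') k)⁄k]) := by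
    have h1 := LinearMap.rank_le_of_surjective ℓ hℓ
    rw [rank_fin_fun, ← Module.finrank_eq_rank] at h1
    exact_mod_cast h1
  have hXrank : Module.rank L
      (L ⊗[FractionRing (MvPowerSeries (Fin n') k)] Ω[FractionRing (MvPowerSeries (Fin n') k)⁄k]) =
      (n' : Cardinal.{u}) := by
    rw [← Module.finrank_eq_rank, le_antisymm hle hge]
  have htower := tower_rank_eq k (FractionRing (MvPowerSeries (Fin n') k)) L hsep
  rw [hXrank] at htower
  obtain ⟨hfinH, -⟩ := S5988Lib.tower_bound k (FractionRing (MvPowerSeries (Fin n') k)) L hsep 0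
    (by simp)
  have e := Groth.Agent.Lib.Helper13.CartierH1.h1Equiv k L
  constructor
  · rw [← e.finrank_eq]
    have h1 : Module.rank L (Ω[L⁄k]) =
        ((n' + Module.finrank L (H1Cotangent k L) : ℕ) : Cardinal.{u}) := by
      rw [← htower, ← Module.finrank_eq_rank L (H1Cotangent k L)]
      push_cast
      rfl
    unfold Module.finrank at h1 ⊢
    rw [h1, Cardinal.toNat_natCast]
  · -- finiteness of `Ω[C⁄k]`
    haveI : Module.Finite (MvPowerSeries (Fin n') k) (Ω[MvPowerSeries (Fin n') k⁄k]) :=
      finite_of_span_range _ hspanP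
    haveI : Module.Finite C (Ω[C⁄MvPowerSeries (Fin n') k]) := inferInstance
    haveI : Module.Finite C (LinearMap.range
        (KaehlerDifferential.mapBaseChange k (MvPowerSeries (Fin n') k) C)) :=
      Module.Finite.range _
    have hker : LinearMap.ker (KaehlerDifferential.map k (MvPowerSeries (Fin n') k) C C) =
        LinearMap.range (KaehlerDifferential.mapBaseChange k (MvPowerSeries (Fin n') k) C) :=
      (KaehlerDifferential.exact_mapBaseChange_map k (MvPowerSeries (Fin n') k) C).linearMap_ker_eq
    haveI : Module.Finite C (Ω[C⁄k] ⧸ LinearMap.range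
        (KaehlerDifferential.mapBaseChange k (MvPowerSeries (Fin n') k) C)) := by
      rw [← hker]
      exact Module.Finite.equiv (LinearMap.quotKerEquivOfSurjective _
        (KaehlerDifferential.map_surjective k (MvPowerSeries (Fin n') k) C)).symm
    exact Module.Finite.of_submodule_quotient (LinearMap.range
        (KaehlerDifferential.mapBaseChange k (MvPowerSeries (Fin n') k) C))

end Groth.Agent.Lib.Helper13.S5989Lib
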