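import Mathlib
import Groth.Agent.Lib.Helper96.SmoothField
import Groth.Agent.Lib.Helper86.CotangentIndep
import Groth.Agent.Lib.Helper13.PolyDer

set_option autoImplicit false

universe u

namespace Groth.Agent.Lib.Helper13.S9288Lib

open IsLocalRing MvPolynomial TensorProduct Groth.Agent.Lib.Helper13.PolyDer

/-- residue field of a localisation of `k[y]` is formally smooth over the prime field. -/
theorem formallySmooth_primeField {k : Type u} [Field k] (p : ℕ) [Fact p.Prime] [CharP k p]
    (A₀ : Type u) [CommRing A₀] [IsLocalRing A₀] [Algebra k A₀] :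
    Algebra.FormallySmooth (⊥ : Subfield k) (ResidueField A₀) := by
  haveI : CharP (⊥ : Subfield k) p :=
    (RingHom.charP_iff _ (algebraMap (⊥ : Subfield k) k).injective p).mpr inferInstance
  haveI : Fintype (⊥ : Subfield k) := Subfield.fintypeBot k p
  haveI : PerfectRing (⊥ : Subfield k) p := PerfectRing.ofFiniteOfIsReduced p _
  haveI : CharP (ResidueField A₀) p :=
    charP_of_injective_algebraMap (algebraMap k (ResidueField A₀)).injective p
  exact Groth.Agent.Lib.Helper96.formallySmooth_of_perfectRing_charP p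

/-- A derivation into the residue field kills `𝔪²`. -/
theorem derivation_eq_zero_of_mem_sq {A : Type u} [CommRing A] [IsLocalRing A]
    (D : Derivation ℤ A (ResidueField A)) (y : A) (hy : y ∈ maximalIdeal A ^ 2) : D y = 0 := by
  rw [pow_two] at hy
  refine Submodule.mul_induction_on hy ?_ ?_
  · intro u hu v hv
    rw [Derivation.leibniz, Algebra.smul_def, Algebra.smul_def, ResidueField.algebraMap_eq,
      (residue_eq_zero_iff u).mpr hu, (residue_eq_zero_iff v).mpr hv, zero_mul, zero_mul, add_zero]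
  · intro u v hu hv
    rw [map_add, hu, hv, add_zero]

section Core

variable {k A : Type u} [Field k] [CommRing A] [IsLocalRing A] [Algebra k A]
  (p : ℕ) [Fact p.Prime] [CharP k p] {m : ℕ} (φ : MvPolynomial (Fin m) k →ₐ[k] A)
  (A₀ : Type u) [CommRing A₀] [IsLocalRing A₀] [IsNoetherianRing A₀] [Algebra k A₀]
  (π : MvPolynomial (Fin m) k →+* A₀)
  (ψ : A₀ →+* A) [IsLocalHom ψ]
  (hψ : ∀ f, ψ (π f) = φ f)
  (hinj : Function.Injective
      ((KaehlerDifferential.mapBaseChange ℤ k A).lTensor (ResidueField A)))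
  (F : IntermediateField k (ResidueField A))
  (hφ : ∀ i : Fin m, residue A (φ (X i)) ∈ F)
  (hli : LinearIndependent F
        (fun i : Fin m => KaehlerDifferential.D k F ⟨residue A (φ (X i)), hφ i⟩))

include p hψ hinj hli in
theorem core {d : ℕ} (g : Fin d → MvPolynomial (Fin m) k)
    (hg : ∀ i, φ (g i) ∈ maximalIdeal A)
    (hgen : Ideal.span (Set.range fun i => π (g i)) = maximalIdeal A₀)
    (hd : Module.finrank (ResidueField A₀) (CotangentSpace A₀) = d)
    (a : Fin d → A) (ha : ∑ i, a i * φ (g i) ∈ maximalIdeal A ^ 2) (i₀ : Fin d) :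
    a i₀ ∈ maximalIdeal A := by
  classical
  haveI : Algebra.FormallySmooth (⊥ : Subfield k) (ResidueField A₀) :=
    formallySmooth_primeField p A₀
  have hLI := Groth.Agent.Lib.Helper86.CotangentIndep.linearIndependent_tmul_D
    (F := (⊥ : Subfield k)) (A := A₀) (fun i => π (g i)) hgen hd
  -- dual functional
  obtain ⟨b, hb⟩ : ∃ b : Module.Basis (Fin d ⊕ Module.Basis.sumExtendIndex hLI) (ResidueField A₀)
      ((ResidueField A₀) ⊗[A₀] Ω[A₀⁄ℤ]), b = Module.Basis.sumExtend hLI := ⟨_, rfl⟩
  have hbi : ∀ i, b (Sum.inl i) = (1 : (ResidueField A₀)) ⊗ₜ[A₀] KaehlerDifferential.D ℤ A₀ (π (g i)) := by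
    intro i
    rw [hb]
    exact Groth.Agent.Lib.Helper86.CotangentIndep.sumExtend_inl hLI i
  let ℓ : (ResidueField A₀) ⊗[A₀] Ω[A₀⁄ℤ] →ₗ[(ResidueField A₀)] (ResidueField A₀) := b.coord (Sum.inl i₀)
  let D₀ : Derivation ℤ A₀ (ResidueField A₀) :=
    ((ℓ.restrictScalars A₀) ∘ₗ (TensorProduct.mk A₀ (ResidueField A₀) Ω[A₀⁄ℤ] 1)).compDer
      (KaehlerDifferential.D ℤ A₀)
  have hD₀ : ∀ x, D₀ x = ℓ ((1 : (ResidueField A₀)) ⊗ₜ[A₀] KaehlerDifferential.D ℤ A₀ x) := fun x => rfl
  have hD₀g : ∀ i, D₀ (π (g i)) = if i = i₀ then 1 else 0 := by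
    intro i
    rw [hD₀, ← hbi]
    show b.coord (Sum.inl i₀) (b (Sum.inl i)) = _
    rw [Module.Basis.coord_apply, Module.Basis.repr_self, Finsupp.single_apply]
    simp only [Sum.inl.injEq]
  -- transport to `K`
  let ι : (ResidueField A₀) →+* (ResidueField A) := ResidueField.map ψ
  have hι : ∀ x : A₀, ι (residue A₀ x) = residue A (ψ x) := fun x => ResidueField.map_residue ψ x
  let dP : MvPolynomial (Fin m) k → (ResidueField A) := fun f => ι (D₀ (π f))
  have hdP_add : ∀ f f', dP (f + f') = dP f + dP f' := by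
    intro f f'
    simp only [dP, map_add]
  have hdP_mul : ∀ f f', dP (f * f') = residue A (φ f) * dP f' + residue A (φ f') * dP f := by
    intro f f'
    simp only [dP]
    rw [map_mul, Derivation.leibniz, map_add, Algebra.smul_def, Algebra.smul_def, map_mul, map_mul,
      ResidueField.algebraMap_eq, hι, hι, hψ, hψ]
  -- the restriction to `k`
  have hφC : ∀ c, φ (C c) = algebraMap k A c := fun c => φ.commutes c
  have hN : ∀ x ∈ maximalIdeal A, ∀ y : ResidueField A, x • y = 0 := by
    intro x hx y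
    rw [Algebra.smul_def, ResidueField.algebraMap_eq, (residue_eq_zero_iff x).mpr hx, zero_mul]
  obtain ⟨D, hD⟩ := Groth.Agent.Lib.Helper96.exists_derivation_extension hinj hN
    (fun c => dP (C c)) (fun c c' => by rw [C_add, hdP_add])
    (fun c c' => by
      rw [C_mul, hdP_mul, Algebra.smul_def, Algebra.smul_def, ResidueField.algebraMap_eq,
        hφC, hφC])
  -- the difference `E`
  let ρ : MvPolynomial (Fin m) k →+* ResidueField A := (residue A).comp φ.toRingHom
  have hρ : ∀ f, ρ f = residue A (φ f) := fun f => rfl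
  have hE := eq_sum_pderiv ρ (fun f => D (φ f) - dP f)
    (fun f f' => by simp only [map_add, hdP_add]; abel)
    (fun f f' => by
      simp only [map_mul, Derivation.leibniz, hdP_mul, hρ, smul_eq_mul]
      rw [Algebra.smul_def, Algebra.smul_def, ResidueField.algebraMap_eq]
      ring)
    (fun c => by
      show D (φ (C c)) - dP (C c) = 0
      rw [hφC, hD, sub_self])
  -- kernel stable under pderiv
  let ρ' : MvPolynomial (Fin m) k →ₐ[k] ResidueField A :=
    (IsScalarTower.toAlgHom k A (ResidueField A)).comp φ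
  have hker : ∀ f, φ f ∈ maximalIdeal A → ∀ i, residue A (φ (pderiv i f)) = 0 := by
    intro f hf i
    exact pderiv_mem_ker F ρ' hφ hli f ((residue_eq_zero_iff _).mpr hf) i
  have hDg : ∀ i, D (φ (g i)) = if i = i₀ then 1 else 0 := by
    intro i
    have h1 := hE (g i)
    have h2 : ∑ j, ρ (pderiv j (g i)) • (D (φ (X j)) - dP (X j)) = 0 := by
      apply Finset.sum_eq_zero
      intro j _
      rw [hρ, hker (g i) (hg i) j, zero_smul]
    rw [h2, sub_eq_zero] at h1
    rw [h1]
    show ι (D₀ (π (g i))) = _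
    rw [hD₀g]
    split_ifs <;> simp
  -- conclusion
  have h0 := derivation_eq_zero_of_mem_sq D _ ha
  rw [map_sum] at h0
  have h3 : ∀ i, D (a i * φ (g i)) = if i = i₀ then residue A (a i) else 0 := by
    intro i
    rw [Derivation.leibniz, hDg, Algebra.smul_def, Algebra.smul_def, ResidueField.algebraMap_eq,
      (residue_eq_zero_iff _).mpr (hg i), zero_mul, add_zero]
    split_ifs <;> simp
  simp_rw [h3] at h0
  rw [Finset.sum_ite_eq' Finset.univ i₀, if_pos (Finset.mem_univ _)] at h0
  exact (residue_eq_zero_iff _).mp h0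

end Core

end Groth.Agent.Lib.Helper13.S9288Lib
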