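import Mathlib
import Groth.Agent.Lib.Helper13.S9288Lib
import Groth.Agent.Lib.Helper96.SmoothInsep
import Groth.Agent.Lib.Helper62.SmoothReg3
import Groth.Agent.Lib.Helper29.RegHom
import Groth.Agent.S5671

set_option autoImplicit false

universe u

namespace Groth.Agent.Lib.Helper13.S9288Lib

open IsLocalRing MvPolynomial TensorProduct

/-- minimal generators of `𝔭 R_𝔭` with numerators in `𝔭`. -/
theorem exists_gens {R : Type u} [CommRing R] [IsNoetherianRing R] (𝔭 : Ideal R) [𝔭.IsPrime] :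
    ∃ (d : ℕ) (g : Fin d → R), (∀ i, g i ∈ 𝔭) ∧
      Ideal.span (Set.range fun i => algebraMap R (Localization.AtPrime 𝔭) (g i)) =
        maximalIdeal (Localization.AtPrime 𝔭) ∧
      Module.finrank (ResidueField (Localization.AtPrime 𝔭))
        (CotangentSpace (Localization.AtPrime 𝔭)) = d := by
  classical
  have hfg : (maximalIdeal (Localization.AtPrime 𝔭)).FG := IsNoetherian.noetherian _
  obtain ⟨s, hs1, hs2⟩ := Submodule.FG.exists_span_finset_card_eq_spanFinrank hfg
  rw [spanFinrank_maximalIdeal_eq_finrank_cotangentSpace] at hs1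
  set d := Module.finrank (ResidueField (Localization.AtPrime 𝔭))
        (CotangentSpace (Localization.AtPrime 𝔭)) with hd
  let e : Fin d ≃ s := (Finset.equivFinOfCardEq hs1).symm
  let x : Fin d → Localization.AtPrime 𝔭 := fun i => (e i : Localization.AtPrime 𝔭)
  have hx : Ideal.span (Set.range x) = maximalIdeal (Localization.AtPrime 𝔭) := by
    rw [← hs2]
    congr 1
    ext y
    constructor
    · rintro ⟨i, rfl⟩
      exact (e i).2
    · intro hy
      exact ⟨e.symm ⟨y, hy⟩, by simp [x]⟩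
  have hmem : ∀ i, x i ∈ 𝔭.map (algebraMap R (Localization.AtPrime 𝔭)) := by
    intro i
    rw [Localization.AtPrime.map_eq_maximalIdeal, ← hx]
    exact Ideal.subset_span ⟨i, rfl⟩
  have h2 : ∀ i : Fin d, ∃ (a : R) (t : R), a ∈ 𝔭 ∧ t ∉ 𝔭 ∧
      x i * algebraMap R (Localization.AtPrime 𝔭) t = algebraMap R (Localization.AtPrime 𝔭) a := by
    intro i
    obtain ⟨⟨a, t⟩, h⟩ := (IsLocalization.mem_map_algebraMap_iff 𝔭.primeCompl
      (Localization.AtPrime 𝔭)).mp (hmem i)
    exact ⟨a, t, a.2, t.2, h⟩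
  choose g t hg𝔭 htp hgt using h2
  have hunit : ∀ i, IsUnit (algebraMap R (Localization.AtPrime 𝔭) (t i)) := fun i =>
    IsLocalization.map_units (Localization.AtPrime 𝔭) (⟨t i, htp i⟩ : 𝔭.primeCompl)
  refine ⟨d, g, hg𝔭, ?_, rfl⟩
  rw [← hx]
  apply le_antisymm
  · rw [Ideal.span_le]
    rintro _ ⟨i, rfl⟩
    show algebraMap R (Localization.AtPrime 𝔭) (g i) ∈ _
    rw [← hgt]
    exact Ideal.mul_mem_right _ _ (Ideal.subset_span ⟨i, rfl⟩)
  · rw [Ideal.span_le]
    rintro _ ⟨i, rfl⟩
    show x i ∈ _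
    have : x i = algebraMap R (Localization.AtPrime 𝔭) (g i) * ↑(hunit i).unit⁻¹ := by
      rw [← hgt, mul_assoc, IsUnit.mul_val_inv, mul_one]
    rw [this]
    exact Ideal.mul_mem_right _ _ (Ideal.subset_span ⟨i, rfl⟩)

section Main

open Groth.Agent.Lib.Helper29.CotQuot

variable (p : ℕ) [Fact p.Prime] {k : Type u} [Field k] [CharP k p] {A : Type u} [CommRing A]
  [IsLocalRing A] [IsNoetherianRing A] [Algebra k A]

include p in
theorem main (hA : CAlg.IsGeometricallyRegular k A)
    (F : IntermediateField k (ResidueField A)) {m : ℕ}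
    (φ : MvPolynomial (Fin m) k →ₐ[k] A)
    (hφ : ∀ i : Fin m, residue A (φ (X i)) ∈ F)
    (hli : LinearIndependent F
        (fun i : Fin m => KaehlerDifferential.D k F ⟨residue A (φ (X i)), hφ i⟩)) :
    letI := φ.toRingHom.toAlgebra
    Module.Flat (MvPolynomial (Fin m) k) A ∧
      IsRegularLocalRing (A ⧸ Ideal.map φ.toRingHom
        (Ideal.comap φ.toRingHom (maximalIdeal A))) := by
  classical
  haveI : ExpChar k p := ExpChar.prime Fact.out
  have hfs : CAlgX.IsAdicFormallySmooth k A (maximalIdeal A) :=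
    (Groth.Agent.Lib.Helper96.isAdicFormallySmooth_iff_forall_regular p).mpr
      (fun k' _ _ hfin _ => hA k' hfin)
  obtain ⟨hreg, hinj⟩ :=
    Groth.Agent.Lib.Helper96.isAdicFormallySmooth_iff_regular_and_injective.mp hfs
  -- the prime and the localisation
  obtain ⟨𝔭, h𝔭⟩ : ∃ 𝔭 : Ideal (MvPolynomial (Fin m) k),
      𝔭 = Ideal.comap φ.toRingHom (maximalIdeal A) := ⟨_, rfl⟩
  haveI : 𝔭.IsPrime := by rw [h𝔭]; exact Ideal.comap_isPrime _ _
  have hmem𝔭 : ∀ f, f ∈ 𝔭 ↔ φ f ∈ maximalIdeal A := by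
    intro f; rw [h𝔭]; rfl
  have hunits : ∀ s : 𝔭.primeCompl, IsUnit (φ.toRingHom s) := by
    intro s
    have : φ (s : MvPolynomial (Fin m) k) ∉ maximalIdeal A := fun h => s.2 ((hmem𝔭 _).mpr h)
    exact (IsLocalRing.notMem_maximalIdeal.mp this)
  let ψ : Localization.AtPrime 𝔭 →+* A := IsLocalization.lift hunits
  have hψ : ∀ f, ψ (algebraMap _ (Localization.AtPrime 𝔭) f) = φ f := fun f =>
    IsLocalization.lift_eq hunits f
  haveI hloc : IsLocalHom ψ := by
    refine ⟨fun a ha => ?_⟩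
    obtain ⟨f, s, rfl⟩ := IsLocalization.exists_mk'_eq 𝔭.primeCompl a
    rw [IsLocalization.AtPrime.isUnit_mk'_iff]
    intro hf
    have h1 : ψ (IsLocalization.mk' (Localization.AtPrime 𝔭) f s) * φ (s : MvPolynomial (Fin m) k)
        = φ f := by
      rw [← hψ, ← hψ f, ← map_mul, IsLocalization.mk'_spec]
    have h2 : φ f ∈ maximalIdeal A := (hmem𝔭 f).mp hf
    rw [← h1] at h2
    exact (IsLocalRing.notMem_maximalIdeal.mpr (ha.mul (hunits s))) h2
  obtain ⟨d, g, hg𝔭, hgen, hd⟩ := exists_gens 𝔭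
  have hg : ∀ i, φ (g i) ∈ maximalIdeal A := fun i => (hmem𝔭 _).mp (hg𝔭 i)
  have hcore : ∀ a : Fin d → A, ∑ i, a i * φ (g i) ∈ maximalIdeal A ^ 2 →
      ∀ i, a i ∈ maximalIdeal A := fun a ha i =>
    core p φ (Localization.AtPrime 𝔭) (algebraMap _ _) ψ hψ hinj F hφ hli g hg hgen hd a ha i
  -- the ideal `J = 𝔭 A`
  have hJspan : Ideal.map φ.toRingHom 𝔭 = Ideal.span (Set.range fun i => φ (g i)) := by
    apply le_antisymm
    · rw [Ideal.map_le_iff_le_comap]
      intro f hf
      have h1 : algebraMap _ (Localization.AtPrime 𝔭) f ∈ maximalIdeal (Localization.AtPrime 𝔭) := by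
        rw [← Localization.AtPrime.map_eq_maximalIdeal]
        exact Ideal.mem_map_of_mem _ hf
      rw [← hgen] at h1
      have h2 := Ideal.mem_map_of_mem ψ h1
      rw [Ideal.map_span, ← Set.range_comp, hψ] at h2
      simp only [Function.comp_def, hψ] at h2
      exact h2
    · rw [Ideal.span_le]
      rintro _ ⟨i, rfl⟩
      exact Ideal.mem_map_of_mem φ.toRingHom (hg𝔭 i)
  have hmapψ : (maximalIdeal (Localization.AtPrime 𝔭)).map ψ = Ideal.map φ.toRingHom 𝔭 := by
    rw [hJspan, ← hgen, Ideal.map_span, ← Set.range_comp]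
    simp only [Function.comp_def, hψ]
  have hJle : Ideal.map φ.toRingHom 𝔭 ≤ maximalIdeal A := by
    rw [hJspan, Ideal.span_le]
    rintro _ ⟨i, rfl⟩
    exact hg i
  have H : ∀ j ∈ Ideal.map φ.toRingHom 𝔭, j ∈ maximalIdeal A * maximalIdeal A →
      j ∈ maximalIdeal A * Ideal.map φ.toRingHom 𝔭 := by
    intro j hj hj2
    rw [hJspan] at hj
    obtain ⟨a, rfl⟩ := (Ideal.mem_span_range_iff_exists_fun).mp hj
    rw [← pow_two] at hj2
    have ha := hcore a hj2
    refine Ideal.sum_mem _ fun i _ => Ideal.mul_mem_mul (ha i) ?_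
    rw [hJspan]
    exact Ideal.subset_span ⟨i, rfl⟩
  haveI hregQ : IsRegularLocalRing (A ⧸ Ideal.map φ.toRingHom 𝔭) :=
    Groth.Agent.Lib.Helper62.SmoothReg.isRegularLocalRing_quotient_of_mem_mul A _ hJle H
  -- linear independence in the cotangent space
  let x : Fin d → maximalIdeal A := fun i => ⟨φ (g i), hg i⟩
  have hxli : LinearIndependent (ResidueField A)
      (fun i => (maximalIdeal A).toCotangent (x i)) := by
    rw [Fintype.linearIndependent_iff]
    intro c hc i
    choose a ha using fun i => IsLocalRing.residue_surjective (c i)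
    have h1 : (maximalIdeal A).toCotangent (∑ i, a i • x i) = 0 := by
      rw [map_sum, ← hc]
      refine Finset.sum_congr rfl fun i _ => ?_
      rw [map_smul, ← ha i]
      rfl
    rw [Ideal.toCotangent_eq_zero] at h1
    have h2 : ((∑ i, a i • x i : maximalIdeal A) : A) = ∑ i, a i * φ (g i) := by
      rw [AddSubmonoidClass.coe_finsetSum]; rfl
    rw [h2] at h1
    have := hcore a h1 i
    rw [← ha i]; exact (residue_eq_zero_iff _).mpr this
  have hrank : Module.finrank (ResidueField A) (imageCot (Ideal.map φ.toRingHom 𝔭)) = d := by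
    have : Ideal.map φ.toRingHom 𝔭 =
        Ideal.span (Set.range fun i => ((x i : maximalIdeal A) : A)) := hJspan
    rw [this, imageCot_span, finrank_span_eq_card hxli, Fintype.card_fin]
  have hadd := finrank_cotangentSpace_quotient_add (Ideal.map φ.toRingHom 𝔭) hJle
  have hdimA : ringKrullDim A =
      (Module.finrank (ResidueField A) (CotangentSpace A) : WithBot ℕ∞) :=
    ((IsRegularLocalRing.iff_finrank_cotangentSpace A).mp hreg).symm
  have hdimQ : ringKrullDim (A ⧸ Ideal.map φ.toRingHom 𝔭) =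
      (Module.finrank (ResidueField (A ⧸ Ideal.map φ.toRingHom 𝔭))
        (CotangentSpace (A ⧸ Ideal.map φ.toRingHom 𝔭)) : WithBot ℕ∞) :=
    ((IsRegularLocalRing.iff_finrank_cotangentSpace _).mp hregQ).symm
  have hdimA₀ : ringKrullDim (Localization.AtPrime 𝔭) = (d : WithBot ℕ∞) := by
    rw [← hd]
    exact ((IsRegularLocalRing.iff_finrank_cotangentSpace _).mp inferInstance).symm
  letI algP : Algebra (MvPolynomial (Fin m) k) A := φ.toRingHom.toAlgebra
  letI algA₀ : Algebra (Localization.AtPrime 𝔭) A := ψ.toAlgebra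
  haveI : IsScalarTower (MvPolynomial (Fin m) k) (Localization.AtPrime 𝔭) A :=
    IsScalarTower.of_algebraMap_eq (fun f => (hψ f).symm)
  haveI : IsLocalHom (algebraMap (Localization.AtPrime 𝔭) A) := hloc
  have hdim : ringKrullDim A = ringKrullDim (Localization.AtPrime 𝔭) +
      ringKrullDim (A ⧸ (maximalIdeal (Localization.AtPrime 𝔭)).map
        (algebraMap (Localization.AtPrime 𝔭) A)) := by
    have : (maximalIdeal (Localization.AtPrime 𝔭)).map (algebraMap (Localization.AtPrime 𝔭) A) =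
        Ideal.map φ.toRingHom 𝔭 := hmapψ
    rw [this, hdimA, hdimQ, hdimA₀, ← hadd, hrank]
    push_cast
    rw [add_comm]
  haveI : Module.Flat (Localization.AtPrime 𝔭) A :=
    Groth.Agent.Lib.Helper29.RegHom.flat_of_regular_of_isCM (Localization.AtPrime 𝔭) A
      (Groth.Agent.S5671.isCM_of_regular A) hdim
  refine ⟨Module.Flat.trans _ (Localization.AtPrime 𝔭) A, ?_⟩
  rw [← h𝔭]
  exact hregQ

end Main

end Groth.Agent.Lib.Helper13.S9288Lib
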