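import Mathlib
import Groth.Agent.Lib.Helper13.SepDiff3

/-!
# Admissible subfields: injectivity of `Υ_{L/K/k₀} → Υ_{L/K/k}` (EGA 0_IV 21.8)
-/

set_option autoImplicit false

namespace Groth.Agent.Lib.Helper13.SepDiff

open Groth.Agent.Lib.Helper13.PBasis TensorProduct

universe v w

theorem formallySmooth_of_charZero' {E : Type v} {F : Type w} [Field E] [Field F] [Algebra E F]
    [CharZero E] : Algebra.FormallySmooth E F := by
  obtain ⟨s, hs⟩ := exists_isTranscendenceBasis E F
  haveI : Algebra.IsAlgebraic (IntermediateField.adjoin E (Set.range ((↑) : s → F))) F :=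
    hs.isAlgebraic_field
  haveI : CharZero (IntermediateField.adjoin E (Set.range ((↑) : s → F))) :=
    charZero_of_injective_algebraMap
      (algebraMap E (IntermediateField.adjoin E (Set.range ((↑) : s → F)))).injective
  exact Algebra.FormallySmooth.of_algebraicIndependent_of_isSeparable hs.1

section Range

variable {k : Type v} {L : Type w} [Field k] [Field L] [Algebra k L]

theorem linearIndependent_fieldRange_iff {ι : Type*} (v : ι → L) :
    LinearIndependent (algebraMap k L).fieldRange v ↔ LinearIndependent k v := by
  rw [linearIndependent_iff', linearIndependent_iff']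
  constructor
  · intro h s g hg i hi
    have := h s (fun i => (algebraMap k L).rangeRestrictField (g i)) (by
      rw [← hg]
      refine Finset.sum_congr rfl fun i _ => ?_
      rw [Algebra.smul_def, Algebra.smul_def (g i)]
      rfl) i hi
    exact (algebraMap k L).rangeRestrictField_bijective.1 (by rw [this, map_zero])
  · intro h s g hg i hi
    choose g' hg' using fun i => RingHom.mem_fieldRange.mp (g i).2
    have := h s g' (by
      rw [← hg]
      refine Finset.sum_congr rfl fun i _ => ?_
      rw [Algebra.smul_def, hg']
      rfl) i hi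
    apply Subtype.ext
    rw [← hg', this, map_zero]
    rfl

theorem hCond_fieldRange (p : ℕ) (h : HCond p k L) : HCond p (algebraMap k L).fieldRange L :=
  fun s hs => (linearIndependent_fieldRange_iff _).mpr
    (h s ((linearIndependent_fieldRange_iff _).mp hs))

/-- separable ⇒ absolute derivations extend, for fields in different universes -/
theorem int_derivation_extends_of_isGeometricallyReduced'
    [Algebra.IsGeometricallyReduced k L] (D : Derivation ℤ k L) :
    ∃ D' : Derivation ℤ L L, ∀ a : k, D' (algebraMap k L a) = D a := by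
  obtain h0 | ⟨p, hp, hpk⟩ := CharP.exists' k
  · haveI := formallySmooth_of_charZero' (E := k) (F := L)
    exact mapBaseChange_injective_iff_derivation_extends.mp
      (mapBaseChange_injective_of_formallySmooth (A := ℤ) (S := k) (T := L)) D
  · let k' : Subfield L := (algebraMap k L).fieldRange
    let e : k ≃+* k' := (algebraMap k L).rangeRestrictFieldEquiv
    have he : ∀ a : k, ((e a : k') : L) = algebraMap k L a := fun a => rfl
    have he' : ∀ x : k', algebraMap k L (e.symm x) = (x : L) := by
      intro x
      rw [← he, e.apply_symm_apply]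
    haveI : CharP k' p := (RingHom.charP_iff e.toRingHom e.injective p).mp inferInstance
    have hH : HCond p k' L := hCond_fieldRange p (hCond_of_isGeometricallyReduced p)
    let D'' : Derivation ℤ k' L :=
      { toFun := fun x => D (e.symm x)
        map_add' := fun x y => by rw [map_add, map_add]
        map_smul' := fun n x => by
          show D (e.symm (n • x)) = n • D (e.symm x)
          rw [map_zsmul, map_zsmul]
        map_one_eq_zero' := by
          show D (e.symm 1) = 0
          rw [map_one, D.map_one_eq_zero]
        leibniz' := fun x y => by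
          show D (e.symm (x * y)) = x • D (e.symm y) + y • D (e.symm x)
          rw [map_mul, D.leibniz, Algebra.smul_def, Algebra.smul_def, he', he']
          rfl }
    obtain ⟨D', hD'⟩ := (hCond_iff_int_derivation_extends p).mp hH D''
    refine ⟨D', fun a => ?_⟩
    have h1 := hD' (e a)
    have h2 : D'' (e a) = D a := by
      show D (e.symm (e a)) = D a
      rw [e.symm_apply_apply]
    rw [← h2, ← h1]
    rfl

end Range

section CaseC

variable {k : Type v} {k₀ K : Type w} [Field k₀] [Field k] [Field K] [Algebra k₀ k]
  [Algebra k₀ K] [Algebra k K] [IsScalarTower k₀ k K]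

/-- if `k ⊆ k₀(K^p)` then `Ω[K⁄k₀] → Ω[K⁄k]` is injective -/
theorem map_injective_of_mem_pPowerSubalgebra (p : ℕ) [hp : Fact p.Prime] [CharP K p]
    (hc : ∀ x : k, algebraMap k K x ∈ EGA41.pPowerSubalgebra p k₀ K) :
    Function.Injective (KaehlerDifferential.map k₀ k K K) := by
  let D' : Derivation k K (Ω[K⁄k₀]) :=
    derivationOfInt ((KaehlerDifferential.D k₀ K).restrictScalars ℤ)
      (fun c => derivation_eq_zero_of_mem p (KaehlerDifferential.D k₀ K) _ (hc c))
  let g : Ω[K⁄k] →ₗ[K] Ω[K⁄k₀] := D'.liftKaehlerDifferential
  have hg : g ∘ₗ (KaehlerDifferential.map k₀ k K K) = LinearMap.id := by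
    apply Derivation.liftKaehlerDifferential_unique
    ext b
    show g (KaehlerDifferential.map k₀ k K K (KaehlerDifferential.D k₀ K b)) =
      KaehlerDifferential.D k₀ K b
    rw [KaehlerDifferential.map_D]
    exact D'.liftKaehlerDifferential_comp_D b
  exact Function.LeftInverse.injective (g := g) (fun x => by
    have := LinearMap.congr_fun hg x
    simpa using this)

end CaseC

section CaseA

variable {k : Type v} {k₀ K L : Type w}
  [Field k₀] [Field k] [Field K] [Field L] [Algebra k₀ k] [Algebra k₀ K] [Algebra k₀ L]
  [Algebra k K] [Algebra k L] [Algebra K L] [IsScalarTower k₀ k K] [IsScalarTower k₀ k L]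
  [IsScalarTower k₀ K L] [IsScalarTower k K L]

/-- if every absolute derivation `k → L` extends to `L`, then
`Υ_{L/K/k₀} → L ⊗ Ω[K⁄k]` is injective. -/
theorem eq_zero_of_derivation_extends
    (hext : ∀ D : Derivation ℤ k L, ∃ D' : Derivation ℤ L L, ∀ a : k, D' (algebraMap k L a) = D a)
    (z : L ⊗[K] Ω[K⁄k₀]) (hz : KaehlerDifferential.mapBaseChange k₀ K L z = 0)
    (hβ : (KaehlerDifferential.map k₀ k K K).baseChange L z = 0) : z = 0 := by
  rw [← Module.forall_dual_apply_eq_zero_iff L z]
  intro f
  let l : Ω[K⁄k₀] →ₗ[K] L := (f.restrictScalars K) ∘ₗ (TensorProduct.mk K L (Ω[K⁄k₀]) 1)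
  let D : Derivation k₀ K L := l.compDer (KaehlerDifferential.D k₀ K)
  obtain ⟨D₁', hD₁'⟩ := hext ((D.compAlgebraMap k).restrictScalars ℤ)
  have hD₁'' : ∀ a : k, D₁' (algebraMap k L a) = D (algebraMap k K a) := hD₁'
  have h₀ : ∀ c₀ : k₀, D₁' (algebraMap k₀ L c₀) = 0 := by
    intro c₀
    rw [IsScalarTower.algebraMap_apply k₀ k L, hD₁'', ← IsScalarTower.algebraMap_apply k₀ k K,
      Derivation.map_algebraMap]
  let D₁ : Derivation k₀ L L := derivationOfInt D₁' h₀
  let Δ : Derivation k₀ K L := D - D₁.compAlgebraMap K
  have hΔ : ∀ a : k, (Δ.restrictScalars ℤ) (algebraMap k K a) = 0 := by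
    intro a
    show D (algebraMap k K a) - D₁' (algebraMap K L (algebraMap k K a)) = 0
    rw [← IsScalarTower.algebraMap_apply k K L, hD₁'']
    exact sub_self _
  let Δk : Derivation k K L := derivationOfInt (Δ.restrictScalars ℤ) hΔ
  have key : l = (D₁.liftKaehlerDifferential.restrictScalars K) ∘ₗ
      (KaehlerDifferential.map k₀ k₀ K L) +
        Δk.liftKaehlerDifferential ∘ₗ (KaehlerDifferential.map k₀ k K K) := by
    refine LinearMap.ext_on (KaehlerDifferential.span_range_derivation k₀ K) ?_
    rintro _ ⟨a, rfl⟩
    show l (KaehlerDifferential.D k₀ K a) =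
      D₁.liftKaehlerDifferential (KaehlerDifferential.map k₀ k₀ K L (KaehlerDifferential.D k₀ K a))
      + Δk.liftKaehlerDifferential (KaehlerDifferential.map k₀ k K K (KaehlerDifferential.D k₀ K a))
    rw [KaehlerDifferential.map_D, KaehlerDifferential.map_D,
      Derivation.liftKaehlerDifferential_comp_D, Derivation.liftKaehlerDifferential_comp_D]
    show D a = D₁' (algebraMap K L a) + (D a - D₁' (algebraMap K L a))
    abel
  have key2 : ∀ y : L ⊗[K] Ω[K⁄k₀], f y =
      D₁.liftKaehlerDifferential (KaehlerDifferential.mapBaseChange k₀ K L y) +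
        LinearMap.liftBaseChange L Δk.liftKaehlerDifferential
          ((KaehlerDifferential.map k₀ k K K).baseChange L y) := by
    intro y
    induction y using TensorProduct.induction_on with
    | zero => simp
    | tmul c ω =>
      rw [KaehlerDifferential.mapBaseChange_tmul, map_smul, LinearMap.baseChange_tmul,
        LinearMap.liftBaseChange_tmul]
      have h1 : f (c ⊗ₜ ω) = c • l ω := by
        show f (c ⊗ₜ ω) = c • f (1 ⊗ₜ ω)
        rw [← map_smul, TensorProduct.smul_tmul', smul_eq_mul, mul_one]
      rw [h1, key, ← smul_add]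
      rfl
    | add y z hy hz => rw [map_add, map_add, map_add, map_add, map_add, hy, hz]; abel
  rw [key2, hz, hβ, map_zero, map_zero, add_zero]

end CaseA

end Groth.Agent.Lib.Helper13.SepDiff
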