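import Mathlib
import Groth.Agent.Lib.Helper13.SepDiff3

/-!
# Derivation-extension criteria with values in a bigger field; dual numbers
-/

set_option autoImplicit false

namespace Groth.Agent.Lib.Helper13.SepDiff

open TensorProduct

section D1'

variable {E F M : Type*} [Field E] [Field F] [Field M] [Algebra E F] [Algebra F M]
  [Algebra E M] [IsScalarTower E F M]

/-- if every absolute derivation `E → M` (`M ⊇ F ⊇ E` fields) extends to `F → M` then
`F ⊗[E] Ω[E⁄ℤ] → Ω[F⁄ℤ]` is injective. -/
theorem mapBaseChange_injective_of_derivation_extends_field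
    (hext : ∀ D : Derivation ℤ E M, ∃ D' : Derivation ℤ F M,
      ∀ a : E, D' (algebraMap E F a) = D a) :
    Function.Injective (KaehlerDifferential.mapBaseChange ℤ E F) := by
  rw [← LinearMap.ker_eq_bot, LinearMap.ker_eq_bot']
  intro x hx
  rw [← Module.forall_dual_apply_eq_zero_iff F x]
  intro f
  let ι : F →ₗ[F] M := (Algebra.linearMap F M)
  let l : Ω[E⁄ℤ] →ₗ[E] M :=
    (ι.restrictScalars E) ∘ₗ (f.restrictScalars E) ∘ₗ (TensorProduct.mk E F (Ω[E⁄ℤ]) 1)
  obtain ⟨D', hD'⟩ := hext (l.compDer (KaehlerDifferential.D ℤ E))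
  have key : ∀ ω : Ω[E⁄ℤ], D'.liftKaehlerDifferential (KaehlerDifferential.map ℤ ℤ E F ω) =
      algebraMap F M (f (1 ⊗ₜ ω)) := by
    intro ω
    have : (D'.liftKaehlerDifferential.restrictScalars E) ∘ₗ (KaehlerDifferential.map ℤ ℤ E F)
        = l := by
      refine LinearMap.ext_on (KaehlerDifferential.span_range_derivation ℤ E) ?_
      rintro _ ⟨a, rfl⟩
      show D'.liftKaehlerDifferential (KaehlerDifferential.map ℤ ℤ E F
        (KaehlerDifferential.D ℤ E a)) = l (KaehlerDifferential.D ℤ E a)
      rw [KaehlerDifferential.map_D, Derivation.liftKaehlerDifferential_comp_D, hD']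
      rfl
    exact LinearMap.congr_fun this ω
  have key2 : ∀ y, D'.liftKaehlerDifferential (KaehlerDifferential.mapBaseChange ℤ E F y) =
      algebraMap F M (f y) := by
    intro y
    induction y using TensorProduct.induction_on with
    | zero => simp
    | tmul c ω =>
      rw [KaehlerDifferential.mapBaseChange_tmul, map_smul, key, Algebra.smul_def, ← map_mul,
        ← smul_eq_mul, ← map_smul, TensorProduct.smul_tmul', smul_eq_mul, mul_one]
    | add y z hy hz => rw [map_add, map_add, map_add, map_add, hy, hz]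
  have h0 : algebraMap F M (f x) = 0 := by rw [← key2, hx, map_zero]
  exact (map_eq_zero _).mp h0

end D1'

section DualNumbers

variable {k M : Type*} [Field k] [Field M] [Algebra k M]

/-- the ring homomorphism `a ↦ ā + ε D(a)` into the dual numbers attached to a derivation -/
def dualNumberHom (D : Derivation ℤ k M) : k →+* TrivSqZeroExt M M where
  toFun a := TrivSqZeroExt.inl (algebraMap k M a) + TrivSqZeroExt.inr (D a)
  map_one' := by
    ext <;> simp
  map_mul' a b := by
    ext
    · simp
    · simp only [map_mul, Derivation.leibniz, TrivSqZeroExt.snd_add, TrivSqZeroExt.snd_inl,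
        TrivSqZeroExt.snd_inr, zero_add, TrivSqZeroExt.snd_mul, TrivSqZeroExt.fst_add,
        TrivSqZeroExt.fst_inl, TrivSqZeroExt.fst_inr, add_zero, MulOpposite.smul_eq_mul_unop,
        MulOpposite.unop_op, smul_eq_mul, Algebra.smul_def]
      ring
  map_zero' := by
    ext <;> simp
  map_add' a b := by
    ext <;> simp [add_add_add_comm]

@[simp]
theorem dualNumberHom_fst (D : Derivation ℤ k M) (a : k) :
    (dualNumberHom D a).fst = algebraMap k M a := by
  simp [dualNumberHom]

@[simp]
theorem dualNumberHom_snd (D : Derivation ℤ k M) (a : k) :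
    (dualNumberHom D a).snd = D a := by
  simp [dualNumberHom]

variable (M) in
/-- the augmentation ideal of the dual numbers -/
def dualNumberIdeal : Ideal (TrivSqZeroExt M M) :=
  RingHom.ker (TrivSqZeroExt.fstHom M M M).toRingHom

theorem mem_dualNumberIdeal {x : TrivSqZeroExt M M} : x ∈ dualNumberIdeal M ↔ x.fst = 0 :=
  Iff.rfl

theorem dualNumberIdeal_sq : dualNumberIdeal M ^ 2 = ⊥ := by
  rw [eq_bot_iff, pow_two, Ideal.mul_le]
  intro x hx y hy
  rw [mem_dualNumberIdeal] at hx hy
  rw [Ideal.mem_bot]
  ext
  · simp [hx]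
  · simp [hx, hy]

end DualNumbers

end Groth.Agent.Lib.Helper13.SepDiff
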