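import Mathlib

/-!
# Generic lemmas on Kähler differentials for families of subfields (helper13)

* `map_map_tower` : `Ω[L⁄R] → Ω[L⁄S] → Ω[L⁄T]` composes to `Ω[L⁄R] → Ω[L⁄T]` (universe polymorphic).
* `map_injective_of_D_eq_zero` : if `d_R` kills the image of `S` then `Ω[L⁄R] → Ω[L⁄S]` is injective.
* `D_eq_zero_of_mem_bot` : derivations of a field kill the prime subfield.
* `eq_zero_of_forall_baseChange_eq_zero` : a separating family of `k`-linear maps stays separating after
  `K ⊗_A (A ⊗_k -)` for a field extension `K` of `k`.
-/

set_option autoImplicit false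

namespace Groth.Agent.Lib.Helper13.SubfieldFam

open TensorProduct KaehlerDifferential

section Tower

variable {R S T L : Type*} [CommRing R] [CommRing S] [CommRing T] [CommRing L]
  [Algebra R S] [Algebra R T] [Algebra S T] [Algebra R L] [Algebra S L] [Algebra T L]
  [IsScalarTower R S L] [IsScalarTower R T L] [IsScalarTower S T L]

theorem map_map_tower (ω : Ω[L⁄R]) :
    KaehlerDifferential.map S T L L (KaehlerDifferential.map R S L L ω) =
      KaehlerDifferential.map R T L L ω := by
  have : (KaehlerDifferential.map S T L L).restrictScalars L ∘ₗ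
      ((KaehlerDifferential.map R S L L).restrictScalars L) =
      (KaehlerDifferential.map R T L L).restrictScalars L := by
    refine LinearMap.ext_on (KaehlerDifferential.span_range_derivation R L) ?_
    rintro _ ⟨a, rfl⟩
    show KaehlerDifferential.map S T L L (KaehlerDifferential.map R S L L
      (KaehlerDifferential.D R L a)) = KaehlerDifferential.map R T L L (KaehlerDifferential.D R L a)
    rw [KaehlerDifferential.map_D, KaehlerDifferential.map_D, KaehlerDifferential.map_D]
    rfl
  exact LinearMap.congr_fun this ω

end Tower

section Inj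

variable {R S L : Type*} [CommRing R] [CommRing S] [CommRing L]
  [Algebra R S] [Algebra R L] [Algebra S L] [IsScalarTower R S L]

theorem map_injective_of_D_eq_zero
    (h : ∀ s : S, KaehlerDifferential.D R L (algebraMap S L s) = 0) :
    Function.Injective (KaehlerDifferential.map R S L L) := by
  let D' : Derivation S L Ω[L⁄R] :=
    { toFun := fun x => KaehlerDifferential.D R L x
      map_add' := fun x y => map_add _ x y
      map_smul' := fun c x => by
        show KaehlerDifferential.D R L (c • x) = c • KaehlerDifferential.D R L x
        rw [Algebra.smul_def, Derivation.leibniz, h c, smul_zero, add_zero, algebraMap_smul]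
      map_one_eq_zero' := (KaehlerDifferential.D R L).map_one_eq_zero
      leibniz' := fun a b => (KaehlerDifferential.D R L).leibniz a b }
  let g : Ω[L⁄S] →ₗ[L] Ω[L⁄R] := D'.liftKaehlerDifferential
  have hg : g ∘ₗ ((KaehlerDifferential.map R S L L).restrictScalars L) = LinearMap.id := by
    refine LinearMap.ext_on (KaehlerDifferential.span_range_derivation R L) ?_
    rintro _ ⟨a, rfl⟩
    show g (KaehlerDifferential.map R S L L (KaehlerDifferential.D R L a)) =
      KaehlerDifferential.D R L a
    rw [KaehlerDifferential.map_D]
    exact Derivation.liftKaehlerDifferential_comp_D D' a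
  intro x y hxy
  have hx := LinearMap.congr_fun hg x
  have hy := LinearMap.congr_fun hg y
  simp only [LinearMap.coe_comp, Function.comp_apply, LinearMap.restrictScalars_apply,
    LinearMap.id_coe, id_eq] at hx hy
  rw [← hx, ← hy, hxy]

end Inj

section Bot

theorem D_eq_zero_of_mem_bot {k M : Type*} [Field k] [AddCommGroup M] [Module k M]
    (D : Derivation ℤ k M) {c : k} (hc : c ∈ (⊥ : Subfield k)) : D c = 0 := by
  rw [← Subfield.closure_empty] at hc
  induction hc using Subfield.closure_induction with
  | mem x hx => exact absurd hx (Set.notMem_empty x)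
  | one => exact D.map_one_eq_zero
  | add x y _ _ hx hy => rw [map_add, hx, hy, add_zero]
  | neg x _ hx => rw [map_neg, hx, neg_zero]
  | inv x _ hx => rw [Derivation.leibniz_inv, hx, smul_zero]
  | mul x y _ _ hx hy => rw [Derivation.leibniz, hx, hy, smul_zero, smul_zero, add_zero]

end Bot

section Sep

universe v w

variable {k A K : Type*} [Field k] [CommRing A] [Field K]
  [Algebra k A] [Algebra A K] [Algebra k K] [IsScalarTower k A K]
  {M : Type*} [AddCommGroup M] [Module k M] {ι : Type v} {N : ι → Type w}
  [∀ i, AddCommGroup (N i)] [∀ i, Module k (N i)]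

theorem cancelBaseChange_baseChange_baseChange {N' : Type*} [AddCommGroup N'] [Module k N']
    (f : M →ₗ[k] N') (w : K ⊗[A] (A ⊗[k] M)) :
    TensorProduct.AlgebraTensorModule.cancelBaseChange k A K K N'
        ((f.baseChange A).baseChange K w) =
      f.baseChange K (TensorProduct.AlgebraTensorModule.cancelBaseChange k A K K M w) := by
  induction w using TensorProduct.induction_on with
  | zero => simp
  | add x y hx hy => simp only [map_add, hx, hy]
  | tmul κ y =>
    induction y using TensorProduct.induction_on with
    | zero => simp
    | add x y hx hy => simp only [TensorProduct.tmul_add, map_add, hx, hy]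
    | tmul a m =>
      rw [LinearMap.baseChange_tmul, LinearMap.baseChange_tmul,
        TensorProduct.AlgebraTensorModule.cancelBaseChange_tmul,
        TensorProduct.AlgebraTensorModule.cancelBaseChange_tmul, LinearMap.baseChange_tmul]

theorem eq_zero_of_forall_baseChange_eq_zero' (f : ∀ i, M →ₗ[k] N i)
    (hsep : ∀ m : M, (∀ i, f i m = 0) → m = 0)
    (z : K ⊗[k] M) (hz : ∀ i, (f i).baseChange K z = 0) : z = 0 := by
  classical
  have hnat : ∀ (bL : Module.Basis (Module.Free.ChooseBasisIndex k K) k K) (i : ι)
      (a : Module.Free.ChooseBasisIndex k K) (z : K ⊗[k] M),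
      TensorProduct.equivFinsuppOfBasisLeft bL ((f i).baseChange K z) a =
        f i (TensorProduct.equivFinsuppOfBasisLeft bL z a) := by
    intro bL i a z
    induction z using TensorProduct.induction_on with
    | zero => simp
    | tmul c ω =>
      rw [LinearMap.baseChange_tmul, TensorProduct.equivFinsuppOfBasisLeft_apply_tmul_apply,
        TensorProduct.equivFinsuppOfBasisLeft_apply_tmul_apply, map_smul]
    | add y z hy hz =>
      simp only [map_add, Finsupp.add_apply, hy, hz]
  let bL := Module.Free.chooseBasis k K
  have hcoord : ∀ a, TensorProduct.equivFinsuppOfBasisLeft bL z a = 0 := by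
    intro a
    apply hsep
    intro i
    rw [← hnat bL i a z, hz i, map_zero, Finsupp.zero_apply]
  have : TensorProduct.equivFinsuppOfBasisLeft bL z = 0 := Finsupp.ext hcoord
  exact (TensorProduct.equivFinsuppOfBasisLeft bL).map_eq_zero_iff.mp this

theorem eq_zero_of_forall_baseChange_eq_zero (f : ∀ i, M →ₗ[k] N i)
    (hsep : ∀ m : M, (∀ i, f i m = 0) → m = 0)
    (w : K ⊗[A] (A ⊗[k] M)) (hw : ∀ i, ((f i).baseChange A).baseChange K w = 0) : w = 0 := by
  have h1 : TensorProduct.AlgebraTensorModule.cancelBaseChange k A K K M w = 0 := by
    apply eq_zero_of_forall_baseChange_eq_zero' f hsep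
    intro i
    rw [← cancelBaseChange_baseChange_baseChange, hw i, map_zero]
  exact (TensorProduct.AlgebraTensorModule.cancelBaseChange k A K K M).map_eq_zero_iff.mp h1

end Sep

end Groth.Agent.Lib.Helper13.SubfieldFam
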