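import Mathlib
import Groth.Agent.S2475
import Groth.Agent.Lib.Helper13.SubfieldFam

/-!
# Families of subfields with `⋂ k_α(k^p) = k^p` separate absolute differentials (helper13)
-/

set_option autoImplicit false

namespace Groth.Agent.Lib.Helper13.SubfieldFam

universe u

open KaehlerDifferential

variable {k : Type u} [Field k] (p : ℕ) [Fact p.Prime] [CharP k p]
  {ι : Type u} [Preorder ι] [IsDirected ι (fun a b => a ≤ b)] [Nonempty ι] (kα : ι → Subfield k)

theorem adjoin_bot_toSubfield :
    (IntermediateField.adjoin (⊥ : Subfield k) (Set.range fun y : k => y ^ p)).toSubfield =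
      (frobenius k p).fieldRange := by
  rw [IntermediateField.adjoin_toSubfield]
  apply le_antisymm
  · rw [Subfield.closure_le]
    rintro x (⟨c, rfl⟩ | ⟨y, rfl⟩)
    · exact (bot_le : (⊥ : Subfield k) ≤ (frobenius k p).fieldRange) c.2
    · exact ⟨y, rfl⟩
  · rintro x ⟨y, rfl⟩
    exact Subfield.subset_closure (Or.inr ⟨y, rfl⟩)

theorem kaehler_int_separating (hanti : Antitone kα)
    (hint : ⨅ α, (kα α ⊔ (frobenius k p).fieldRange) = (frobenius k p).fieldRange) :
    ∀ ω : Ω[k⁄ℤ], (∀ α, KaehlerDifferential.map ℤ (kα α) k k ω = 0) → ω = 0 := by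
  intro ω hω
  let k' : ι → IntermediateField (⊥ : Subfield k) k := fun α =>
    Subfield.toIntermediateField (kα α) (fun x => (bot_le : (⊥ : Subfield k) ≤ kα α) x.2)
  have hk' : Antitone k' := fun a b hab x hx => hanti hab hx
  have hk's : ∀ α, (k' α).toSubfield = kα α := fun α => rfl
  have hlat : (⨅ i, k' i ⊔ IntermediateField.adjoin (⊥ : Subfield k)
        (Set.range fun y : k => y ^ p)) =
      IntermediateField.adjoin (⊥ : Subfield k) (Set.range fun y : k => y ^ p) := by
    apply IntermediateField.toSubfield_injective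
    rw [IntermediateField.iInf_toSubfield]
    simp_rw [IntermediateField.sup_toSubfield, adjoin_bot_toSubfield, hk's]
    exact hint
  have hsepP := (Groth.Agent.S2475.result p k' hk').mp hlat
  have hinj : Function.Injective (KaehlerDifferential.map ℤ (⊥ : Subfield k) k k) :=
    map_injective_of_D_eq_zero (fun s => D_eq_zero_of_mem_bot _ s.2)
  apply hinj
  rw [map_zero]
  apply hsepP
  intro α
  rw [map_map_tower]
  letI : Algebra (kα α) (k' α) := (RingHom.id _).toAlgebra
  haveI : IsScalarTower (kα α) (k' α) k := IsScalarTower.of_algebraMap_eq (fun x => rfl)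
  rw [← map_map_tower (R := ℤ) (S := kα α) (T := k' α), hω α, map_zero]

end Groth.Agent.Lib.Helper13.SubfieldFam
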