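import Mathlib

/-!
# Universal property of Mathlib's `SymmetricPower` (helper13)

* `SymPow.lift f hf` : a symmetric multilinear map `f` induces a linear map out of `Sym[R] ι M`,
  with `lift_tprod`.
* `SymPow.hom_ext` : linear maps out of `Sym[R] ι M` agreeing on pure tensors are equal.
* `SymPow.smul_eq_zero_of_forall` : if `a` kills `M` and `ι` is nonempty, `a` kills `Sym[R] ι M`.
-/

set_option autoImplicit false

namespace Groth.Agent.Lib.Helper13.SymPow

universe u v w

open TensorProduct

variable {R ι : Type u} [CommRing R] {M : Type v} [AddCommGroup M] [Module R M]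
  {N : Type w} [AddCommGroup N] [Module R N]

/-- the linear map out of the symmetric power induced by a symmetric multilinear map -/
noncomputable def lift (f : MultilinearMap R (fun _ : ι => M) N)
    (hf : ∀ (e : Equiv.Perm ι) (m : ι → M), f (fun i => m (e i)) = f m) :
    SymmetricPower R ι M →ₗ[R] N where
  toFun := AddCon.lift _ (PiTensorProduct.lift f).toAddMonoidHom (by
    rw [AddCon.addConGen_le]
    intro x y h
    cases h with
    | perm e m =>
      rw [AddCon.ker_rel, LinearMap.toAddMonoidHom_coe, PiTensorProduct.lift.tprod,
        PiTensorProduct.lift.tprod]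
      exact (hf e m).symm)
  map_add' x y := map_add _ x y
  map_smul' r x := by
    induction x using AddCon.induction_on with
    | H x =>
      show PiTensorProduct.lift f (r • x) = r • PiTensorProduct.lift f x
      exact map_smul _ r x

@[simp]
theorem lift_tprod (f : MultilinearMap R (fun _ : ι => M) N)
    (hf : ∀ (e : Equiv.Perm ι) (m : ι → M), f (fun i => m (e i)) = f m) (m : ι → M) :
    lift f hf (SymmetricPower.tprod R m) = f m := by
  show PiTensorProduct.lift f (PiTensorProduct.tprod R m) = f m
  exact PiTensorProduct.lift.tprod m

theorem hom_ext {g₁ g₂ : SymmetricPower R ι M →ₗ[R] N}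
    (h : ∀ m : ι → M, g₁ (SymmetricPower.tprod R m) = g₂ (SymmetricPower.tprod R m)) :
    g₁ = g₂ := by
  apply LinearMap.ext_on_range (SymmetricPower.span_tprod_eq_top R ι M)
  exact h

theorem induction_on {motive : SymmetricPower R ι M → Prop} (z : SymmetricPower R ι M)
    (tprod : ∀ m : ι → M, motive (SymmetricPower.tprod R m))
    (zero : motive 0)
    (add : ∀ x y, motive x → motive y → motive (x + y))
    (smul : ∀ (r : R) x, motive x → motive (r • x)) : motive z := by
  have hz : z ∈ Submodule.span R (Set.range (SymmetricPower.tprod R (ι := ι) (M := M))) := by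
    rw [SymmetricPower.span_tprod_eq_top]; trivial
  induction hz using Submodule.span_induction with
  | mem x hx => obtain ⟨m, rfl⟩ := hx; exact tprod m
  | zero => exact zero
  | add x y _ _ hx hy => exact add x y hx hy
  | smul r x _ hx => exact smul r x hx

/-- scalars killing `M` kill the symmetric power (for nonempty index type) -/
theorem smul_eq_zero_of_forall [Nonempty ι] [DecidableEq ι] {a : R} (ha : ∀ m : M, a • m = 0)
    (z : SymmetricPower R ι M) : a • z = 0 := by
  induction z using induction_on with
  | tprod m =>
    obtain ⟨i⟩ := ‹Nonempty ι›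
    have h1 : a • SymmetricPower.tprod R m =
        SymmetricPower.tprod R (Function.update m i (a • m i)) := by
      rw [MultilinearMap.map_update_smul, Function.update_eq_self]
    rw [h1, ha, MultilinearMap.map_update_zero]
  | zero => exact smul_zero a
  | add x y hx hy => rw [smul_add, hx, hy, add_zero]
  | smul r x hx => rw [smul_comm, hx, smul_zero]

end Groth.Agent.Lib.Helper13.SymPow
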