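import Mathlib
import Groth.Prelude.Def_PP16
import Groth.Agent.Lib.Helper13.SymPow

/-!
# The canonical map `Sym^n(J/J²) → J^n/J^(n+1)` (helper13)

* `prod_sub_prod_mem` : product congruence modulo `I ^ (n+1)`.
* `canon J ι` : the canonical map, with `canon_tprod`, `canon_surjective`.
* `symGrBijective_iff` : `PP16.SymGrBijective R J ↔ ∀ ι, Injective (canon J ι)`.
-/

set_option autoImplicit false

namespace Groth.Agent.Lib.Helper13.SymGrA

universe u

open PP16

section Prod

variable {R : Type*} [CommRing R] (I : Ideal R) {ι : Type*}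

theorem prod_mem_pow_card (s : Finset ι) (x : ι → R) (hx : ∀ i ∈ s, x i ∈ I) :
    ∏ i ∈ s, x i ∈ I ^ s.card := by
  classical
  induction s using Finset.induction_on with
  | empty => simp
  | insert a s ha ih =>
    rw [Finset.prod_insert ha, Finset.card_insert_of_notMem ha, pow_succ']
    exact Ideal.mul_mem_mul (hx a (by simp)) (ih fun i hi => hx i (by simp [hi]))

theorem prod_sub_prod_mem_finset (s : Finset ι) (x y : ι → R) (hx : ∀ i ∈ s, x i ∈ I)
    (hy : ∀ i ∈ s, y i ∈ I) (hxy : ∀ i ∈ s, x i - y i ∈ I ^ 2) :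
    ∏ i ∈ s, x i - ∏ i ∈ s, y i ∈ I ^ (s.card + 1) := by
  classical
  induction s using Finset.induction_on with
  | empty => simp
  | insert a s ha ih =>
    rw [Finset.prod_insert ha, Finset.prod_insert ha, Finset.card_insert_of_notMem ha]
    have e : x a * ∏ i ∈ s, x i - y a * ∏ i ∈ s, y i =
        x a * (∏ i ∈ s, x i - ∏ i ∈ s, y i) + (x a - y a) * ∏ i ∈ s, y i := by ring
    rw [e]
    refine Ideal.add_mem _ ?_ ?_
    · have := Ideal.mul_mem_mul (hx a (by simp))
        (ih (fun i hi => hx i (by simp [hi])) (fun i hi => hy i (by simp [hi]))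
          (fun i hi => hxy i (by simp [hi])))
      rwa [← pow_succ'] at this
    · have := Ideal.mul_mem_mul (hxy a (by simp))
        (prod_mem_pow_card I s y (fun i hi => hy i (by simp [hi])))
      rwa [← pow_add, add_comm 2] at this

theorem prod_sub_prod_mem [Fintype ι] (x y : ι → R) (hx : ∀ i, x i ∈ I)
    (hy : ∀ i, y i ∈ I) (hxy : ∀ i, x i - y i ∈ I ^ 2) :
    ∏ i, x i - ∏ i, y i ∈ I ^ (Fintype.card ι + 1) :=
  prod_sub_prod_mem_finset I Finset.univ x y (fun i _ => hx i) (fun i _ => hy i)
    (fun i _ => hxy i)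

theorem prod_mem_pow [Fintype ι] (x : ι → R) (hx : ∀ i, x i ∈ I) :
    ∏ i, x i ∈ I ^ Fintype.card ι :=
  prod_mem_pow_card I Finset.univ x (fun i _ => hx i)

/-- version with coefficients -/
theorem mul_prod_sub_mul_prod_mem [Fintype ι] (c c' : R) (hc : c - c' ∈ I) (x y : ι → R)
    (hx : ∀ i, x i ∈ I) (hy : ∀ i, y i ∈ I) (hxy : ∀ i, x i - y i ∈ I ^ 2) :
    c * ∏ i, x i - c' * ∏ i, y i ∈ I ^ (Fintype.card ι + 1) := by
  have e : c * ∏ i, x i - c' * ∏ i, y i =
      c * (∏ i, x i - ∏ i, y i) + (c - c') * ∏ i, y i := by ring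
  rw [e]
  refine Ideal.add_mem _ (Ideal.mul_mem_left _ _ (prod_sub_prod_mem I x y hx hy hxy)) ?_
  have := Ideal.mul_mem_mul hc (prod_mem_pow I y hy)
  rwa [← pow_succ'] at this

/-- elements of `I ^ card ι` are combinations of `ι`-indexed products -/
theorem pow_card_le_span [Fintype ι] :
    I ^ Fintype.card ι ≤
      Submodule.span R (Set.range fun x : ι → I => ∏ i, (x i : R)) := by
  rw [Submodule.pow_eq_span_pow_set]
  refine Submodule.span_le.mpr ?_
  intro a ha
  rw [Set.mem_pow] at ha
  obtain ⟨f, rfl⟩ := ha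
  refine Submodule.subset_span ⟨fun i => f (Fintype.equivFin ι i), ?_⟩
  rw [List.prod_ofFn]
  exact Fintype.prod_equiv (Fintype.equivFin ι) _ _ (fun i => rfl)

end Prod

section Canon

variable {R : Type u} [CommRing R] (J : Ideal R) (ι : Type u) [Fintype ι]

/-- the multilinear product map `J^ι → J^n/J^(n+1)` -/
noncomputable def nu : MultilinearMap R (fun _ : ι => ↥J) (grJ R J (Fintype.card ι)) :=
  (Submodule.mkQ _).compMultilinearMap
    (((MultilinearMap.mkPiAlgebra R ι R).compLinearMap (fun _ => J.subtype)).codRestrict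
      (J ^ Fintype.card ι) (fun x => by
        simpa using prod_mem_pow J (fun i => (x i : R)) (fun i => (x i).2)))

theorem nu_apply (x : ι → ↥J) : nu J ι x = zetaJ R J x := rfl

theorem zetaJ_eq_iff (x y : ι → ↥J) :
    zetaJ R J x = zetaJ R J y ↔
      ∏ i, (x i : R) - ∏ i, (y i : R) ∈ J ^ (Fintype.card ι + 1) := by
  unfold zetaJ
  rw [Submodule.Quotient.eq, Submodule.mem_comap]
  rfl

theorem zetaJ_congr (x y : ι → ↥J) (h : ∀ i, J.toCotangent (x i) = J.toCotangent (y i)) :
    zetaJ R J x = zetaJ R J y := by
  rw [zetaJ_eq_iff]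
  exact prod_sub_prod_mem J _ _ (fun i => (x i).2) (fun i => (y i).2)
    (fun i => (Ideal.toCotangent_eq J).mp (h i))

/-- a set-theoretic section of `J → J/J²` -/
noncomputable def sec : J.Cotangent → ↥J := Function.surjInv J.toCotangent_surjective

theorem toCotangent_sec (p : J.Cotangent) : J.toCotangent (sec J p) = p :=
  Function.surjInv_eq J.toCotangent_surjective p

open Classical in
/-- the symmetric multilinear map `(J/J²)^ι → J^n/J^(n+1)` -/
noncomputable def mu : MultilinearMap R (fun _ : ι => J.Cotangent) (grJ R J (Fintype.card ι)) where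
  toFun p := nu J ι (fun i => sec J (p i))
  map_update_add' := by
    intro _ p i a b
    have e : ∀ c : J.Cotangent, (fun j => sec J (Function.update p i c j)) =
        Function.update (fun j => sec J (p j)) i (sec J c) := by
      intro c
      funext j
      by_cases hj : j = i
      · subst hj; simp
      · simp [Function.update_of_ne hj]
    have e' : nu J ι (fun j => sec J (Function.update p i (a + b) j)) =
        nu J ι (Function.update (fun j => sec J (p j)) i (sec J a + sec J b)) := by
      rw [nu_apply, nu_apply]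
      refine zetaJ_congr J ι _ _ (fun j => ?_)
      by_cases hj : j = i
      · subst hj
        simp [toCotangent_sec]
      · simp [Function.update_of_ne hj]
    convert e'.trans ((nu J ι).map_update_add _ i (sec J a) (sec J b)) using 2
    · rw [e a]
    · rw [e b]
  map_update_smul' := by
    intro _ p i r a
    have e : ∀ c : J.Cotangent, (fun j => sec J (Function.update p i c j)) =
        Function.update (fun j => sec J (p j)) i (sec J c) := by
      intro c
      funext j
      by_cases hj : j = i
      · subst hj; simp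
      · simp [Function.update_of_ne hj]
    have e' : nu J ι (fun j => sec J (Function.update p i (r • a) j)) =
        nu J ι (Function.update (fun j => sec J (p j)) i (r • sec J a)) := by
      rw [nu_apply, nu_apply]
      refine zetaJ_congr J ι _ _ (fun j => ?_)
      by_cases hj : j = i
      · subst hj
        simp [toCotangent_sec]
      · simp [Function.update_of_ne hj]
    convert e'.trans ((nu J ι).map_update_smul _ i r (sec J a)) using 2
    rw [e a]

theorem mu_apply (p : ι → J.Cotangent) : mu J ι p = zetaJ R J (fun i => sec J (p i)) := rfl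

theorem mu_toCotangent (x : ι → ↥J) :
    mu J ι (fun i => J.toCotangent (x i)) = zetaJ R J x := by
  rw [mu_apply]
  exact zetaJ_congr J ι _ _ (fun i => toCotangent_sec J _)

theorem mu_perm (e : Equiv.Perm ι) (p : ι → J.Cotangent) :
    mu J ι (fun i => p (e i)) = mu J ι p := by
  rw [mu_apply, mu_apply, zetaJ_eq_iff]
  have : ∏ i, ((sec J (p (e i)) : ↥J) : R) = ∏ i, ((sec J (p i) : ↥J) : R) :=
    Equiv.prod_comp e (fun i => ((sec J (p i) : ↥J) : R))
  rw [this, sub_self]
  exact Ideal.zero_mem _

/-- the canonical map `Sym^n(J/J²) → J^n/J^(n+1)` -/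
noncomputable def canon : SymmetricPower R ι J.Cotangent →ₗ[R] grJ R J (Fintype.card ι) :=
  SymPow.lift (mu J ι) (mu_perm J ι)

theorem canon_tprod (x : ι → ↥J) :
    canon J ι (SymmetricPower.tprod R (fun i => J.toCotangent (x i))) = zetaJ R J x := by
  rw [canon, SymPow.lift_tprod, mu_toCotangent]

theorem canon_surjective : Function.Surjective (canon J ι) := by
  intro g
  obtain ⟨⟨y, hy⟩, rfl⟩ := Submodule.Quotient.mk_surjective _ g
  have hy' := pow_card_le_span J (ι := ι) hy
  have key : ∀ y (hy' : y ∈ Submodule.span R (Set.range fun x : ι → J => ∏ i, (x i : R)))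
      (hy : y ∈ J ^ Fintype.card ι),
      (Submodule.Quotient.mk ⟨y, hy⟩ : grJ R J (Fintype.card ι)) ∈ LinearMap.range (canon J ι) := by
    intro y hy'
    induction hy' using Submodule.span_induction with
    | mem y h =>
      obtain ⟨x, rfl⟩ := h
      intro hy
      exact ⟨_, canon_tprod J ι x⟩
    | zero =>
      intro hy
      exact ⟨0, by rw [map_zero]; rfl⟩
    | add a b ha hb iha ihb =>
      intro hy
      have ha' : a ∈ J ^ Fintype.card ι := by
        refine Submodule.span_le.mpr ?_ ha
        rintro _ ⟨x, rfl⟩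
        exact prod_mem_pow J _ (fun i => (x i).2)
      have hb' : b ∈ J ^ Fintype.card ι := by
        refine Submodule.span_le.mpr ?_ hb
        rintro _ ⟨x, rfl⟩
        exact prod_mem_pow J _ (fun i => (x i).2)
      obtain ⟨za, hza⟩ := iha ha'
      obtain ⟨zb, hzb⟩ := ihb hb'
      exact ⟨za + zb, by rw [map_add, hza, hzb]; rfl⟩
    | smul r a ha iha =>
      intro hy
      have ha' : a ∈ J ^ Fintype.card ι := by
        refine Submodule.span_le.mpr ?_ ha
        rintro _ ⟨x, rfl⟩
        exact prod_mem_pow J _ (fun i => (x i).2)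
      obtain ⟨za, hza⟩ := iha ha'
      exact ⟨r • za, by rw [map_smul, hza]; rfl⟩
  exact key y hy' hy

/-- `PP16.SymGrBijective` means that all the canonical maps are injective -/
theorem symGrBijective_iff :
    SymGrBijective R J ↔
      ∀ (ι : Type u) [Fintype ι] [Nonempty ι], Function.Injective (canon J ι) := by
  constructor
  · intro h ι _ _
    obtain ⟨φ, hφ, hbij⟩ := h ι
    have : φ = canon J ι := by
      refine SymPow.hom_ext (fun m => ?_)
      have hm : m = fun i => J.toCotangent (sec J (m i)) := by
        funext i; rw [toCotangent_sec]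
      rw [hm, hφ, canon_tprod]
    rw [← this]
    exact hbij.1
  · intro h ι _ _
    exact ⟨canon J ι, canon_tprod J ι, h ι, canon_surjective J ι⟩

end Canon

end Groth.Agent.Lib.Helper13.SymGrA
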