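import Mathlib
import Groth.Agent.Lib.Helper13.SymPow

/-!
# Symmetric powers of a projective module embed into a polynomial ring (helper13)

For a projective `R ⧸ J`-module `P` (also an `R`-module), there is a linear map
`ℓ : P → (R ⧸ J)[X_q : q ∈ P]` with values linear forms such that the induced maps
`beta ℓ ι : Sym[R] ι P → (R ⧸ J)[X]`, `⨂ₛ p i ↦ ∏ ℓ (p i)`, have a left inverse vanishing on
`idealOfVars ^ (card ι + 1)`.
-/

set_option autoImplicit false

namespace Groth.Agent.Lib.Helper13.SymGrB

universe u v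

open MvPolynomial

section Perm

variable {ι : Type*} [Fintype ι] {κ : Type*}

/-- the exponent vector of a function `ι → κ` -/
noncomputable def dOf (k : ι → κ) : κ →₀ ℕ := ∑ i, Finsupp.single (k i) 1

theorem dOf_apply [DecidableEq κ] (k : ι → κ) (q : κ) :
    dOf k q = Fintype.card {i // k i = q} := by
  classical
  rw [dOf, Finsupp.finsetSum_apply, Fintype.card_subtype]
  simp only [Finsupp.single_apply]
  rw [Finset.sum_boole]
  simp

theorem exists_perm_of_dOf_eq (k k' : ι → κ) (h : dOf k = dOf k') :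
    ∃ e : Equiv.Perm ι, ∀ i, k (e i) = k' i := by
  classical
  have hc : ∀ q, Fintype.card {i // k' i = q} = Fintype.card {i // k i = q} := by
    intro q
    rw [← dOf_apply k' q, ← dOf_apply k q, h]
  let eq : ∀ q, {i // k' i = q} ≃ {i // k i = q} := fun q => Fintype.equivOfCardEq (hc q)
  let e : Equiv.Perm ι :=
    (Equiv.sigmaFiberEquiv k').symm.trans
      ((Equiv.sigmaCongrRight eq).trans (Equiv.sigmaFiberEquiv k))
  refine ⟨e, fun i => ?_⟩
  show k ((eq (k' i) ⟨i, rfl⟩ : {j // k j = k' i}) : ι) = k' i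
  exact (eq (k' i) ⟨i, rfl⟩).2

theorem degree_dOf (k : ι → κ) : Finsupp.degree (dOf k) = Fintype.card ι := by
  rw [dOf, map_sum]
  simp

end Perm

section Main

variable {R : Type u} [CommRing R] {J : Ideal R} {P : Type u} [AddCommGroup P] [Module R P]
  [Module (R ⧸ J) P] [IsScalarTower R (R ⧸ J) P]

theorem mk_smul' (r : R) (p : P) : (Ideal.Quotient.mk J r) • p = r • p :=
  algebraMap_smul (R ⧸ J) r p

variable (J P) in
theorem isTorsionBySet (ι : Type u) [Fintype ι] [Nonempty ι] :
    Module.IsTorsionBySet R (SymmetricPower R ι P) J := by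
  classical
  intro x a
  refine SymPow.smul_eq_zero_of_forall (fun m => ?_) x
  rw [← mk_smul' (J := J), Ideal.Quotient.eq_zero_iff_mem.mpr a.2, zero_smul]

variable (J P) in
/-- the `R ⧸ J`-module structure on the symmetric power -/
@[instance_reducible]
noncomputable def modC (ι : Type u) [Fintype ι] [Nonempty ι] :
    Module (R ⧸ J) (SymmetricPower R ι P) :=
  (isTorsionBySet J P ι).module

attribute [local instance] modC

theorem mk_smul_sym (ι : Type u) [Fintype ι] [Nonempty ι] (r : R) (z : SymmetricPower R ι P) :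
    (Ideal.Quotient.mk J r) • z = r • z := rfl

instance (ι : Type u) [Fintype ι] [Nonempty ι] :
    IsScalarTower R (R ⧸ J) (SymmetricPower R ι P) :=
  ⟨fun r c z => by
    obtain ⟨c, rfl⟩ := Ideal.Quotient.mk_surjective c
    show (r • Ideal.Quotient.mk J c) • z = r • (Ideal.Quotient.mk J c • z)
    rw [mk_smul_sym, ← smul_assoc]
    rfl⟩

/-- `tprod` as an `R ⧸ J`-multilinear map -/
noncomputable def tprodC (ι : Type u) [Fintype ι] [Nonempty ι] :
    MultilinearMap (R ⧸ J) (fun _ : ι => P) (SymmetricPower R ι P) where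
  toFun := SymmetricPower.tprod R
  map_update_add' := by
    intro _ m i x y
    exact (SymmetricPower.tprod R).map_update_add m i x y
  map_update_smul' := by
    intro _ m i c x
    obtain ⟨r, rfl⟩ := Ideal.Quotient.mk_surjective c
    rw [mk_smul_sym, mk_smul']
    exact (SymmetricPower.tprod R).map_update_smul m i r x

theorem tprodC_apply (ι : Type u) [Fintype ι] [Nonempty ι] (m : ι → P) :
    tprodC (J := J) ι m = SymmetricPower.tprod R m := rfl

variable (s : P →ₗ[R ⧸ J] (P →₀ R ⧸ J))

/-- the linear forms attached to a dual basis -/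
noncomputable def ell : P →ₗ[R ⧸ J] MvPolynomial P (R ⧸ J) :=
  (Finsupp.linearCombination (R ⧸ J) (fun q : P => (X q : MvPolynomial P (R ⧸ J)))) ∘ₗ s

theorem ell_apply (p : P) :
    ell s p = ∑ q ∈ (s p).support, monomial (Finsupp.single q 1) (s p q) := by
  rw [ell, LinearMap.comp_apply, Finsupp.linearCombination_apply, Finsupp.sum]
  refine Finset.sum_congr rfl (fun q _ => ?_)
  rw [X, smul_monomial, smul_eq_mul, mul_one]

theorem ell_mem (p : P) : ell s p ∈ idealOfVars P (R ⧸ J) := by
  rw [ell, LinearMap.comp_apply, Finsupp.linearCombination_apply, Finsupp.sum]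
  refine Ideal.sum_mem _ (fun q _ => ?_)
  rw [Algebra.smul_def]
  exact Ideal.mul_mem_left _ _ (Ideal.subset_span ⟨q, rfl⟩)

variable (ι : Type u) [Fintype ι] [Nonempty ι]

open Classical in
/-- representatives of monomials as pure symmetric tensors -/
noncomputable def E (d : P →₀ ℕ) : SymmetricPower R ι P :=
  if h : ∃ k : ι → P, dOf k = d then SymmetricPower.tprod R h.choose else 0

theorem E_dOf (k : ι → P) : E ι (dOf k) = SymmetricPower.tprod R k := by
  have h : ∃ k' : ι → P, dOf k' = dOf k := ⟨k, rfl⟩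
  rw [E, dif_pos h]
  obtain ⟨e, he⟩ := exists_perm_of_dOf_eq h.choose k h.choose_spec
  have : k = fun i => h.choose (e i) := funext fun i => (he i).symm
  exact ((congrArg (SymmetricPower.tprod R) this).trans
    (SymmetricPower.tprod_equiv e h.choose)).symm

theorem E_eq_zero {d : P →₀ ℕ} (hd : Finsupp.degree d ≠ Fintype.card ι) :
    E (R := R) ι d = 0 := by
  rw [E, dif_neg]
  rintro ⟨k, rfl⟩
  exact hd (degree_dOf k)

/-- the left inverse -/
noncomputable def gamma : MvPolynomial P (R ⧸ J) →ₗ[R ⧸ J] SymmetricPower R ι P :=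
  (basisMonomials P (R ⧸ J)).constr (R ⧸ J) (E ι)

theorem gamma_monomial (d : P →₀ ℕ) (c : R ⧸ J) :
    gamma (J := J) ι (monomial d c) = c • E ι d := by
  have : (monomial d c : MvPolynomial P (R ⧸ J)) = c • basisMonomials P (R ⧸ J) d := by
    rw [coe_basisMonomials, smul_monomial, smul_eq_mul, mul_one]
  rw [this, map_smul, gamma, Module.Basis.constr_basis]

theorem gamma_prod_ell (hs : Finsupp.linearCombination (R ⧸ J) id ∘ₗ s = LinearMap.id)
    (p : ι → P) :
    gamma ι (∏ i, ell s (p i)) = SymmetricPower.tprod R p := by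
  classical
  have h1 : ∏ i, ell s (p i) =
      ∑ k ∈ Fintype.piFinset (fun i => (s (p i)).support),
        monomial (dOf k) (∏ i, s (p i) (k i)) := by
    simp_rw [ell_apply]
    rw [Finset.prod_univ_sum]
    refine Finset.sum_congr rfl (fun k _ => ?_)
    rw [dOf, monomial_sum_prod]
  have h2 : ∀ i, p i = ∑ q ∈ (s (p i)).support, (s (p i) q) • q := by
    intro i
    have := LinearMap.congr_fun hs (p i)
    rw [LinearMap.comp_apply, Finsupp.linearCombination_apply, Finsupp.sum] at this
    simpa using this.symm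
  have h3 : SymmetricPower.tprod R p =
      ∑ k ∈ Fintype.piFinset (fun i => (s (p i)).support),
        (∏ i, s (p i) (k i)) • SymmetricPower.tprod R k := by
    rw [← tprodC_apply (J := J)]
    conv_lhs => rw [show p = fun i => ∑ q ∈ (s (p i)).support, (s (p i) q) • q from funext h2]
    rw [MultilinearMap.map_sum_finset]
    refine Finset.sum_congr rfl (fun k _ => ?_)
    rw [MultilinearMap.map_smul_univ, tprodC_apply]
  rw [h1, h3, map_sum]
  refine Finset.sum_congr rfl (fun k _ => ?_)
  rw [gamma_monomial, E_dOf]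

theorem gamma_eq_zero {f : MvPolynomial P (R ⧸ J)}
    (hf : f ∈ idealOfVars P (R ⧸ J) ^ (Fintype.card ι + 1)) : gamma (R := R) ι f = 0 := by
  rw [← f.support_sum_monomial_coeff, map_sum]
  refine Finset.sum_eq_zero (fun d hd => ?_)
  rw [gamma_monomial, E_eq_zero, smul_zero]
  have := (mem_pow_idealOfVars_iff _ f).mp hf d hd
  omega

/-- the map `Sym[R] ι P → (R ⧸ J)[X]`, `⨂ₛ p i ↦ ∏ ℓ (p i)` -/
noncomputable def beta (ℓ : P →ₗ[R ⧸ J] MvPolynomial P (R ⧸ J)) :
    SymmetricPower R ι P →ₗ[R] MvPolynomial P (R ⧸ J) :=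
  SymPow.lift ((MultilinearMap.mkPiAlgebra R ι (MvPolynomial P (R ⧸ J))).compLinearMap
    (fun _ => ℓ.restrictScalars R)) (fun e m => by
      simp only [MultilinearMap.compLinearMap_apply, MultilinearMap.mkPiAlgebra_apply]
      exact Equiv.prod_comp e (fun i => (ℓ.restrictScalars R) (m i)))

@[simp]
theorem beta_tprod (ℓ : P →ₗ[R ⧸ J] MvPolynomial P (R ⧸ J)) (p : ι → P) :
    beta ι ℓ (SymmetricPower.tprod R p) = ∏ i, ℓ (p i) := by
  rw [beta, SymPow.lift_tprod]
  simp

theorem gamma_beta (hs : Finsupp.linearCombination (R ⧸ J) id ∘ₗ s = LinearMap.id)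
    (z : SymmetricPower R ι P) : gamma ι (beta ι (ell s) z) = z := by
  have : (gamma (J := J) ι).restrictScalars R ∘ₗ beta ι (ell s) = LinearMap.id := by
    refine SymPow.hom_ext (fun m => ?_)
    rw [LinearMap.comp_apply, beta_tprod, LinearMap.restrictScalars_apply, gamma_prod_ell s ι hs,
      LinearMap.id_apply]
  exact LinearMap.congr_fun this z

end Main

/-- **Main statement**: linear forms detecting symmetric tensors. -/
theorem exists_linear_forms {R : Type u} [CommRing R] {J : Ideal R} {P : Type u} [AddCommGroup P]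
    [Module R P] [Module (R ⧸ J) P] [IsScalarTower R (R ⧸ J) P]
    [Module.Projective (R ⧸ J) P] :
    ∃ ℓ : P →ₗ[R ⧸ J] MvPolynomial P (R ⧸ J),
      (∀ p, ℓ p ∈ idealOfVars P (R ⧸ J)) ∧
      ∀ (ι : Type u) [Fintype ι] [Nonempty ι] (z : SymmetricPower R ι P),
        beta ι ℓ z ∈ idealOfVars P (R ⧸ J) ^ (Fintype.card ι + 1) → z = 0 := by
  obtain ⟨s, hs⟩ := (Module.projective_def'.mp (inferInstance : Module.Projective (R ⧸ J) P))
  refine ⟨ell s, ell_mem s, ?_⟩
  intro ι _ _ z hz
  rw [← gamma_beta s ι hs z, gamma_eq_zero ι hz]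

end Groth.Agent.Lib.Helper13.SymGrB
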