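import Mathlib
import Groth.Prelude.Def_PP16
import Groth.Prelude.Def_CAlgX
import Groth.Agent.Lib.Helper13.SymGrA
import Groth.Agent.Lib.Helper13.SymGrB
import Groth.Agent.Lib.Helper13.NilLift
import Groth.Agent.Lib.Helper13.FSProj

/-!
# EGA 0_IV 19.5.4, (a) ⇒ (b) (helper13)

If `B ⧸ J` is formally smooth over `A` and `B` is `J`-adically formally smooth over `A`, then
`J/J²` is projective and `Sym^n(J/J²) → J^n/J^(n+1)` is bijective.
-/

set_option autoImplicit false

namespace Groth.Agent.Lib.Helper13.SymGrC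

universe u

open TensorProduct MvPolynomial PP16

variable {A B : Type u} [CommRing A] [CommRing B] [Algebra A B] (J : Ideal B)

section Der

variable [Algebra.FormallySmooth A (B ⧸ J)]

/-- a section of `B ⧸ J^2 → B ⧸ J`, in the form of a set-theoretic lift `ρ : B ⧸ J → B` -/
theorem exists_rho : ∃ ρ : B ⧸ J → B,
    (∀ c, Ideal.Quotient.mk J (ρ c) = c) ∧
    (∀ c c', ρ (c + c') - (ρ c + ρ c') ∈ J ^ 2) ∧
    (∀ c c', ρ (c * c') - ρ c * ρ c' ∈ J ^ 2) ∧
    (∀ a : A, ρ (algebraMap A (B ⧸ J) a) - algebraMap A B a ∈ J ^ 2) := by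
  let I : Ideal (B ⧸ J ^ 2) := J.cotangentIdeal
  have hI : I ^ 2 = ⊥ := J.cotangentIdeal_square
  let ψ : B ⧸ J →ₐ[A] (B ⧸ J ^ 2) ⧸ I :=
    Ideal.Quotient.liftₐ J ((Ideal.Quotient.mkₐ A I).comp (Ideal.Quotient.mkₐ A (J ^ 2)))
      (fun x hx => by
        show Ideal.Quotient.mk I (Ideal.Quotient.mk (J ^ 2) x) = 0
        rw [Ideal.Quotient.eq_zero_iff_mem]
        exact Ideal.mk_mem_cotangentIdeal.mpr hx)
  obtain ⟨σ, hσ⟩ := Algebra.FormallySmooth.comp_surjective A (B ⧸ J) I hI ψ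
  have hσ' : ∀ b : B, σ (Ideal.Quotient.mk J b) - Ideal.Quotient.mk (J ^ 2) b ∈ I := by
    intro b
    have := DFunLike.congr_fun hσ (Ideal.Quotient.mk J b)
    rw [← Ideal.Quotient.eq]
    exact this
  have hsurj : Function.Surjective (Ideal.Quotient.mk (J ^ 2)) := Ideal.Quotient.mk_surjective
  let ρ : B ⧸ J → B := fun c => Function.surjInv hsurj (σ c)
  have hρ : ∀ c, Ideal.Quotient.mk (J ^ 2) (ρ c) = σ c := fun c => Function.surjInv_eq hsurj _
  refine ⟨ρ, fun c => ?_, fun c c' => ?_, fun c c' => ?_, fun a => ?_⟩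
  · obtain ⟨b, rfl⟩ := Ideal.Quotient.mk_surjective c
    rw [Ideal.Quotient.eq]
    have := hσ' b
    rw [← hρ, ← map_sub, Ideal.mk_mem_cotangentIdeal] at this
    exact this
  · rw [← Ideal.Quotient.eq, map_add, hρ, hρ, hρ, map_add]
  · rw [← Ideal.Quotient.eq, map_mul, hρ, hρ, hρ, map_mul]
  · rw [← Ideal.Quotient.eq, hρ]
    exact σ.commutes a

/-- an `A`-derivation `B → J/J²` extending the canonical map on `J` -/
theorem exists_derivation :
    ∃ D : Derivation A B J.Cotangent, ∀ x : J, D x = J.toCotangent x := by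
  obtain ⟨ρ, hρ1, hρ2, hρ3, hρ4⟩ := exists_rho (A := A) J
  have hmem : ∀ b : B, b - ρ (Ideal.Quotient.mk J b) ∈ J := by
    intro b
    rw [← Ideal.Quotient.eq, hρ1]
  have hJ2 : J ^ 2 ≤ J := Ideal.pow_le_self two_ne_zero
  let d : B → J.Cotangent := fun b => J.toCotangent ⟨b - ρ (Ideal.Quotient.mk J b), hmem b⟩
  have hd_add : ∀ b b', d (b + b') = d b + d b' := by
    intro b b'
    show J.toCotangent _ = J.toCotangent _ + J.toCotangent _
    rw [← map_add, Ideal.toCotangent_eq]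
    have := hρ2 (Ideal.Quotient.mk J b) (Ideal.Quotient.mk J b')
    rw [← map_add] at this
    have e : ((⟨b + b' - ρ (Ideal.Quotient.mk J (b + b')), hmem (b + b')⟩ : J) : B) -
        ((⟨b - ρ (Ideal.Quotient.mk J b), hmem b⟩ + ⟨b' - ρ (Ideal.Quotient.mk J b'), hmem b'⟩ : J) : B) =
        -(ρ (Ideal.Quotient.mk J (b + b')) - (ρ (Ideal.Quotient.mk J b) + ρ (Ideal.Quotient.mk J b'))) := by
      show b + b' - ρ (Ideal.Quotient.mk J (b + b')) -
        ((b - ρ (Ideal.Quotient.mk J b)) + (b' - ρ (Ideal.Quotient.mk J b'))) = _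
      ring
    rw [e]
    exact Ideal.neg_mem_iff _ |>.mpr this
  have hd_mul : ∀ b b', d (b * b') = b • d b' + b' • d b := by
    intro b b'
    show J.toCotangent _ = b • J.toCotangent _ + b' • J.toCotangent _
    rw [← map_smul, ← map_smul, ← map_add, Ideal.toCotangent_eq]
    have := hρ3 (Ideal.Quotient.mk J b) (Ideal.Quotient.mk J b')
    rw [← map_mul] at this
    have e : ((⟨b * b' - ρ (Ideal.Quotient.mk J (b * b')), hmem (b * b')⟩ : J) : B) -
        ((b • ⟨b' - ρ (Ideal.Quotient.mk J b'), hmem b'⟩ + b' • ⟨b - ρ (Ideal.Quotient.mk J b), hmem b⟩ : J) : B) =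
        -(ρ (Ideal.Quotient.mk J (b * b')) - ρ (Ideal.Quotient.mk J b) * ρ (Ideal.Quotient.mk J b')) -
          (b - ρ (Ideal.Quotient.mk J b)) * (b' - ρ (Ideal.Quotient.mk J b')) := by
      show b * b' - ρ (Ideal.Quotient.mk J (b * b')) -
        (b * (b' - ρ (Ideal.Quotient.mk J b')) + b' * (b - ρ (Ideal.Quotient.mk J b))) = _
      ring
    rw [e]
    refine Ideal.sub_mem _ (Ideal.neg_mem_iff _ |>.mpr this) ?_
    rw [pow_two]
    exact Ideal.mul_mem_mul (hmem b) (hmem b')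
  have hd_alg : ∀ a : A, d (algebraMap A B a) = 0 := by
    intro a
    show J.toCotangent _ = 0
    rw [Ideal.toCotangent_eq_zero]
    have := hρ4 a
    have e : ((⟨algebraMap A B a - ρ (Ideal.Quotient.mk J (algebraMap A B a)),
        hmem (algebraMap A B a)⟩ : J) : B) =
        -(ρ (algebraMap A (B ⧸ J) a) - algebraMap A B a) := by
      show algebraMap A B a - ρ (Ideal.Quotient.mk J (algebraMap A B a)) = _
      rw [neg_sub]
      rfl
    rw [e]
    exact Ideal.neg_mem_iff _ |>.mpr this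
  let L : B →ₗ[A] J.Cotangent :=
    { toFun := d
      map_add' := hd_add
      map_smul' := fun a b => by
        rw [Algebra.smul_def, hd_mul, hd_alg, smul_zero, add_zero, algebraMap_smul]
        rfl }
  refine ⟨Derivation.mk' L hd_mul, fun x => ?_⟩
  show J.toCotangent _ = J.toCotangent x
  rw [Ideal.toCotangent_eq]
  have h0 : Ideal.Quotient.mk J (x : B) = 0 := Ideal.Quotient.eq_zero_iff_mem.mpr x.2
  have h1 : ρ 0 ∈ J ^ 2 := by
    have := hρ2 0 0
    rw [add_zero] at this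
    have e : ρ 0 - (ρ 0 + ρ 0) = -ρ 0 := by ring
    rw [e] at this
    exact (Ideal.neg_mem_iff _).mp this
  show (x : B) - ρ (Ideal.Quotient.mk J (x : B)) - (x : B) ∈ J ^ 2
  rw [h0]
  have e : (x : B) - ρ 0 - (x : B) = -ρ 0 := by ring
  rw [e]
  exact (Ideal.neg_mem_iff _).mpr h1

end Der

theorem smul_cotangent_eq_zero {x : B} (hx : x ∈ J) (p : J.Cotangent) : x • p = 0 := by
  obtain ⟨y, rfl⟩ := J.toCotangent_surjective p
  rw [← map_smul, Ideal.toCotangent_eq_zero]
  show x * (y : B) ∈ J ^ 2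
  rw [pow_two]
  exact Ideal.mul_mem_mul hx y.2

theorem derivation_eq_zero_of_mem_sq (D : Derivation A B J.Cotangent) {x : B} (hx : x ∈ J ^ 2) :
    D x = 0 := by
  rw [pow_two] at hx
  refine Submodule.mul_induction_on hx (fun a ha b hb => ?_) (fun x y hx hy => ?_)
  · rw [Derivation.leibniz, smul_cotangent_eq_zero J ha, smul_cotangent_eq_zero J hb, add_zero]
  · rw [map_add, hx, hy, add_zero]

section Proj

variable [Algebra.FormallySmooth A (B ⧸ J)]

theorem projective_tensor_kaehler (hfs : CAlgX.IsAdicFormallySmooth A B J) :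
    Module.Projective (B ⧸ J) ((B ⧸ J) ⊗[B] Ω[B⁄A]) := by
  have h := FSProj.projective_quotient_tensor_kaehler J 1 hfs
  have key : ∀ I : Ideal B, I = J → Module.Projective (B ⧸ I) ((B ⧸ I) ⊗[B] Ω[B⁄A]) →
      Module.Projective (B ⧸ J) ((B ⧸ J) ⊗[B] Ω[B⁄A]) := by
    rintro _ rfl h
    exact h
  exact key _ (pow_one J) h

/-- `J/J²` is projective -/
theorem projective_cotangent (hfs : CAlgX.IsAdicFormallySmooth A B J) :
    Module.Projective (B ⧸ J) J.Cotangent := by
  haveI := projective_tensor_kaehler J hfs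
  obtain ⟨D, hD⟩ := exists_derivation (A := A) J
  have hmk : ∀ (x : B), x ∈ J → ∀ ω : Ω[B⁄A], (1 : B ⧸ J) ⊗ₜ[B] (x • ω) = 0 := by
    intro x hx ω
    rw [TensorProduct.tmul_smul, TensorProduct.smul_tmul', Algebra.smul_def, mul_one]
    show (Ideal.Quotient.mk J x) ⊗ₜ[B] ω = 0
    rw [Ideal.Quotient.eq_zero_iff_mem.mpr hx, TensorProduct.zero_tmul]
  let i₀ : J →ₗ[B] (B ⧸ J) ⊗[B] Ω[B⁄A] :=
    { toFun := fun x => (1 : B ⧸ J) ⊗ₜ[B] KaehlerDifferential.D A B (x : B)
      map_add' := fun x y => by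
        show (1 : B ⧸ J) ⊗ₜ[B] KaehlerDifferential.D A B ((x : B) + y) = _
        rw [map_add, TensorProduct.tmul_add]
      map_smul' := fun b x => by
        show (1 : B ⧸ J) ⊗ₜ[B] KaehlerDifferential.D A B (b * (x : B)) = _
        rw [Derivation.leibniz, TensorProduct.tmul_add, hmk _ x.2, add_zero,
          TensorProduct.tmul_smul]
        rfl }
  have hi₀ : ∀ x y : J, i₀ (x * y) = 0 := by
    intro x y
    show (1 : B ⧸ J) ⊗ₜ[B] KaehlerDifferential.D A B ((x : B) * y) = 0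
    rw [Derivation.leibniz, TensorProduct.tmul_add, hmk _ x.2, hmk _ y.2, add_zero]
  let i : J.Cotangent →ₗ[B ⧸ J] (B ⧸ J) ⊗[B] Ω[B⁄A] :=
    (Ideal.Cotangent.lift i₀ hi₀).extendScalarsOfSurjective Ideal.Quotient.mk_surjective
  let s : (B ⧸ J) ⊗[B] Ω[B⁄A] →ₗ[B ⧸ J] J.Cotangent :=
    LinearMap.liftBaseChange (B ⧸ J) D.liftKaehlerDifferential
  refine Module.Projective.of_split i s ?_
  refine LinearMap.ext fun p => ?_
  obtain ⟨x, rfl⟩ := J.toCotangent_surjective p
  show s (i₀ x) = J.toCotangent x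
  show LinearMap.liftBaseChange (B ⧸ J) D.liftKaehlerDifferential
    ((1 : B ⧸ J) ⊗ₜ[B] KaehlerDifferential.D A B (x : B)) = _
  rw [LinearMap.liftBaseChange_tmul, one_smul, Derivation.liftKaehlerDifferential_comp_D, hD]

end Proj

end Groth.Agent.Lib.Helper13.SymGrC
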