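import Mathlib
import Groth.Agent.Lib.Helper13.SymGrC

/-!
# EGA 0_IV 19.5.4, (a) ⇒ (b), part 2: injectivity of the canonical maps (helper13)
-/

set_option autoImplicit false

namespace Groth.Agent.Lib.Helper13.SymGrC

universe u

open TensorProduct PP16

variable {A B : Type u} [CommRing A] [CommRing B] [Algebra A B] (J : Ideal B)

section Psi

variable {S : Type u} [CommRing S] [Algebra (B ⧸ J) S] (𝔞 : Ideal S)

/-- the first order map `B → S/𝔞²` -/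
noncomputable def psi1 (D : Derivation A B J.Cotangent)
    (ℓ : J.Cotangent →ₗ[B ⧸ J] S) (hℓ : ∀ p, ℓ p ∈ 𝔞) : B →+* S ⧸ 𝔞 ^ 2 where
  toFun b := Ideal.Quotient.mk _ (algebraMap (B ⧸ J) S (Ideal.Quotient.mk J b) + ℓ (D b))
  map_one' := by
    rw [map_one, map_one, Derivation.map_one_eq_zero, map_zero, add_zero, map_one]
  map_zero' := by
    rw [map_zero, map_zero, map_zero, map_zero, add_zero, map_zero]
  map_add' b b' := by
    rw [← map_add]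
    congr 1
    rw [map_add, map_add, map_add, map_add]
    ring
  map_mul' b b' := by
    rw [← map_mul, Ideal.Quotient.eq, Derivation.leibniz, map_add, map_mul, map_mul]
    have e1 : ℓ (b • D b') = algebraMap (B ⧸ J) S (Ideal.Quotient.mk J b) * ℓ (D b') := by
      rw [← SymGrB.mk_smul' (J := J), map_smul, Algebra.smul_def]
    have e2 : ℓ (b' • D b) = algebraMap (B ⧸ J) S (Ideal.Quotient.mk J b') * ℓ (D b) := by
      rw [← SymGrB.mk_smul' (J := J), map_smul, Algebra.smul_def]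
    rw [e1, e2]
    have e : algebraMap (B ⧸ J) S (Ideal.Quotient.mk J b) *
          algebraMap (B ⧸ J) S (Ideal.Quotient.mk J b') +
        (algebraMap (B ⧸ J) S (Ideal.Quotient.mk J b) * ℓ (D b') +
          algebraMap (B ⧸ J) S (Ideal.Quotient.mk J b') * ℓ (D b)) -
        (algebraMap (B ⧸ J) S (Ideal.Quotient.mk J b) + ℓ (D b)) *
          (algebraMap (B ⧸ J) S (Ideal.Quotient.mk J b') + ℓ (D b')) =
        -(ℓ (D b) * ℓ (D b')) := by ring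
    rw [e, Ideal.neg_mem_iff, pow_two]
    exact Ideal.mul_mem_mul (hℓ _) (hℓ _)

theorem psi1_apply (D : Derivation A B J.Cotangent)
    (ℓ : J.Cotangent →ₗ[B ⧸ J] S) (hℓ : ∀ p, ℓ p ∈ 𝔞) (b : B) :
    psi1 J 𝔞 D ℓ hℓ b =
      Ideal.Quotient.mk _ (algebraMap (B ⧸ J) S (Ideal.Quotient.mk J b) + ℓ (D b)) := rfl

theorem ker_factor (n : ℕ) (h : 𝔞 ^ (n + 1) ≤ 𝔞 ^ 2) :
    RingHom.ker (Ideal.Quotient.factor h) = (𝔞 ^ 2).map (Ideal.Quotient.mk (𝔞 ^ (n + 1))) := by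
  apply le_antisymm
  · intro x hx
    obtain ⟨s, rfl⟩ := Ideal.Quotient.mk_surjective x
    rw [RingHom.mem_ker, Ideal.Quotient.factor_mk, Ideal.Quotient.eq_zero_iff_mem] at hx
    exact Ideal.mem_map_of_mem _ hx
  · rw [Ideal.map_le_iff_le_comap]
    intro s hs
    rw [Ideal.mem_comap, RingHom.mem_ker, Ideal.Quotient.factor_mk, Ideal.Quotient.eq_zero_iff_mem]
    exact hs

theorem exists_psi (hfs : CAlgX.IsAdicFormallySmooth A B J) (D : Derivation A B J.Cotangent)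
    (hD : ∀ x : J, D x = J.toCotangent x)
    (ℓ : J.Cotangent →ₗ[B ⧸ J] S) (hℓ : ∀ p, ℓ p ∈ 𝔞) (n : ℕ) (hn : 1 ≤ n) :
    ∃ ψ : B →+* S ⧸ 𝔞 ^ (n + 1),
      (∀ b, ψ b - Ideal.Quotient.mk _ (algebraMap (B ⧸ J) S (Ideal.Quotient.mk J b)) ∈
        (𝔞).map (Ideal.Quotient.mk (𝔞 ^ (n + 1)))) ∧
      (∀ x : J, ψ x - Ideal.Quotient.mk _ (ℓ (J.toCotangent x)) ∈
        (𝔞 ^ 2).map (Ideal.Quotient.mk (𝔞 ^ (n + 1)))) := by
  have h2 : 𝔞 ^ (n + 1) ≤ 𝔞 ^ 2 := Ideal.pow_le_pow_right (by omega)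
  let g : S ⧸ 𝔞 ^ (n + 1) →+* S ⧸ 𝔞 ^ 2 := Ideal.Quotient.factor h2
  have hg : Function.Surjective g := Ideal.Quotient.factor_surjective h2
  have hkerg : RingHom.ker g = (𝔞 ^ 2).map (Ideal.Quotient.mk (𝔞 ^ (n + 1))) :=
    ker_factor 𝔞 n h2
  have hker : RingHom.ker g ^ n = ⊥ := by
    rw [hkerg, ← Ideal.map_pow, ← pow_mul, eq_bot_iff]
    calc (𝔞 ^ (2 * n)).map (Ideal.Quotient.mk (𝔞 ^ (n + 1)))
        ≤ (𝔞 ^ (n + 1)).map (Ideal.Quotient.mk (𝔞 ^ (n + 1))) :=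
          Ideal.map_mono (Ideal.pow_le_pow_right (by omega))
      _ = ⊥ := Ideal.map_quotient_self _
  let θ : A →+* S ⧸ 𝔞 ^ (n + 1) :=
    (Ideal.Quotient.mk _).comp ((algebraMap (B ⧸ J) S).comp (algebraMap A (B ⧸ J)))
  have hJ2 : J ^ 2 ≤ J := Ideal.pow_le_self two_ne_zero
  have hcomm : ∀ a : A, psi1 J 𝔞 D ℓ hℓ (algebraMap A B a) = g (θ a) := by
    intro a
    rw [psi1_apply, Derivation.map_algebraMap, map_zero, add_zero]
    rfl
  have hcont : ∃ j : ℕ, ∀ a ∈ J ^ j, psi1 J 𝔞 D ℓ hℓ a = 0 := by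
    refine ⟨2, fun a ha => ?_⟩
    rw [psi1_apply, derivation_eq_zero_of_mem_sq J D ha, map_zero, add_zero,
      Ideal.Quotient.eq_zero_iff_mem.mpr (hJ2 ha), map_zero, map_zero]
  obtain ⟨ψ, hψ, -⟩ := NilLift.exists_lift_nilpotent hfs n g hg hker θ (psi1 J 𝔞 D ℓ hℓ)
    hcomm hcont
  have key : ∀ b : B, ψ b - Ideal.Quotient.mk _
      (algebraMap (B ⧸ J) S (Ideal.Quotient.mk J b) + ℓ (D b)) ∈
      (𝔞 ^ 2).map (Ideal.Quotient.mk (𝔞 ^ (n + 1))) := by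
    intro b
    rw [← hkerg, RingHom.mem_ker, map_sub, hψ, psi1_apply]
    show _ - Ideal.Quotient.factor h2 (Ideal.Quotient.mk _ _) = 0
    rw [Ideal.Quotient.factor_mk, sub_self]
  have hle : (𝔞 ^ 2).map (Ideal.Quotient.mk (𝔞 ^ (n + 1))) ≤
      (𝔞).map (Ideal.Quotient.mk (𝔞 ^ (n + 1))) :=
    Ideal.map_mono (Ideal.pow_le_self two_ne_zero)
  refine ⟨ψ, fun b => ?_, fun x => ?_⟩
  · have e : ψ b - Ideal.Quotient.mk _ (algebraMap (B ⧸ J) S (Ideal.Quotient.mk J b)) =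
        (ψ b - Ideal.Quotient.mk _ (algebraMap (B ⧸ J) S (Ideal.Quotient.mk J b) + ℓ (D b))) +
          Ideal.Quotient.mk _ (ℓ (D b)) := by
      rw [map_add]; ring
    rw [e]
    exact Ideal.add_mem _ (hle (key b)) (Ideal.mem_map_of_mem _ (hℓ _))
  · have := key x
    rwa [Ideal.Quotient.eq_zero_iff_mem.mpr x.2, map_zero, zero_add, hD] at this

end Psi

end Groth.Agent.Lib.Helper13.SymGrC
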