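import Mathlib
import Groth.Agent.Lib.Helper13.SymGrC2

/-!
# EGA 0_IV 19.5.4, (a) ⇒ (b), part 3 (helper13)
-/

set_option autoImplicit false

namespace Groth.Agent.Lib.Helper13.SymGrC

universe u

open TensorProduct PP16

variable {A B : Type u} [CommRing A] [CommRing B] [Algebra A B] (J : Ideal B)

section Claim

variable [Algebra.FormallySmooth A (B ⧸ J)]
variable {S : Type u} [CommRing S] [Algebra B S] [Algebra (B ⧸ J) S] [IsScalarTower B (B ⧸ J) S]
  (𝔞 : Ideal S)

theorem beta_mem_of_canon_eq_zero (hfs : CAlgX.IsAdicFormallySmooth A B J)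
    (ℓ : J.Cotangent →ₗ[B ⧸ J] S) (hℓ : ∀ p, ℓ p ∈ 𝔞) (ι : Type u) [Fintype ι] [Nonempty ι]
    (β : SymmetricPower B ι J.Cotangent →ₗ[B] S)
    (hβ : ∀ m : ι → J.Cotangent, β (SymmetricPower.tprod B m) = ∏ i, ℓ (m i))
    (z : SymmetricPower B ι J.Cotangent) (hz : SymGrA.canon J ι z = 0) :
    β z ∈ 𝔞 ^ (Fintype.card ι + 1) := by
  obtain ⟨D, hD⟩ := exists_derivation (A := A) J
  set n := Fintype.card ι with hn
  have hn1 : 1 ≤ n := Fintype.card_pos
  obtain ⟨ψ, hψ1, hψ2⟩ := exists_psi J 𝔞 hfs D hD ℓ hℓ n hn1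
  set mkq := Ideal.Quotient.mk (𝔞 ^ (n + 1)) with hmkq
  set I : Ideal (S ⧸ 𝔞 ^ (n + 1)) := (𝔞).map mkq with hI
  have hIpow : I ^ (n + 1) = ⊥ := by
    rw [hI, ← Ideal.map_pow]
    exact Ideal.map_quotient_self _
  have hI2 : I ^ 2 = (𝔞 ^ 2).map mkq := by rw [hI, Ideal.map_pow]
  have hψJ : ∀ x ∈ J, ψ x ∈ I := by
    intro x hx
    have := hψ1 x
    rwa [Ideal.Quotient.eq_zero_iff_mem.mpr hx, map_zero, map_zero, sub_zero] at this
  have hψpow : ∀ (k : ℕ) (y : B), y ∈ J ^ k → ψ y ∈ I ^ k := by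
    intro k y hy
    have h1 : J.map ψ ≤ I := by
      rw [Ideal.map_le_iff_le_comap]
      exact fun x hx => hψJ x hx
    have h2 : ψ y ∈ (J ^ k).map ψ := Ideal.mem_map_of_mem ψ hy
    rw [Ideal.map_pow] at h2
    exact Ideal.pow_right_mono h1 k h2
  have hψtop : ∀ y ∈ J ^ (n + 1), ψ y = 0 := by
    intro y hy
    have := hψpow (n + 1) y hy
    rwa [hIpow] at this
  have hℓI : ∀ p, mkq (ℓ p) ∈ I := fun p => Ideal.mem_map_of_mem _ (hℓ p)
  -- the main claim
  have claim : ∀ (z : SymmetricPower B ι J.Cotangent) (y : B) (hy : y ∈ J ^ n),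
      SymGrA.canon J ι z = Submodule.Quotient.mk ⟨y, hy⟩ → mkq (β z) = ψ y := by
    intro z
    induction z using SymPow.induction_on with
    | tprod m =>
      intro y hy h
      have hm : m = fun i => J.toCotangent (SymGrA.sec J (m i)) := by
        funext i; rw [SymGrA.toCotangent_sec]
      have h' : SymGrA.canon J ι (SymmetricPower.tprod B m) =
          zetaJ B J (fun i => SymGrA.sec J (m i)) := by
        conv_lhs => rw [hm]
        exact SymGrA.canon_tprod J ι _
      rw [h'] at h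
      have h'' : ∏ i, ((SymGrA.sec J (m i) : J) : B) - y ∈ J ^ (n + 1) := by
        unfold zetaJ at h
        rw [Submodule.Quotient.eq, Submodule.mem_comap] at h
        exact h
      rw [hβ, map_prod]
      have e : ψ y = ∏ i, ψ ((SymGrA.sec J (m i) : J) : B) := by
        rw [← map_prod]
        have := hψtop _ h''
        rw [map_sub, sub_eq_zero] at this
        exact this.symm
      rw [e, ← sub_eq_zero, ← Ideal.mem_bot, ← hIpow]
      refine SymGrA.prod_sub_prod_mem I (fun i => mkq (ℓ (m i)))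
        (fun i => ψ ((SymGrA.sec J (m i) : J) : B)) (fun i => hℓI _)
        (fun i => hψJ _ (SymGrA.sec J (m i)).2) (fun i => ?_)
      rw [hI2]
      have := hψ2 (SymGrA.sec J (m i))
      rw [SymGrA.toCotangent_sec] at this
      rw [← Ideal.neg_mem_iff, neg_sub]
      exact this
    | zero =>
      intro y hy h
      rw [map_zero, map_zero]
      rw [map_zero] at h
      have h' : y ∈ J ^ (n + 1) := by
        have := h.symm
        rw [Submodule.Quotient.mk_eq_zero, Submodule.mem_comap] at this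
        exact this
      exact (hψtop y h').symm
    | add z₁ z₂ ih₁ ih₂ =>
      intro y hy h
      obtain ⟨⟨y₁, hy₁⟩, hy₁'⟩ := Submodule.Quotient.mk_surjective _ (SymGrA.canon J ι z₁)
      have hy₂ : y - y₁ ∈ J ^ n := Ideal.sub_mem _ hy hy₁
      have h₂ : SymGrA.canon J ι z₂ = Submodule.Quotient.mk ⟨y - y₁, hy₂⟩ := by
        have e : (⟨y - y₁, hy₂⟩ : ↥(J ^ n)) = ⟨y, hy⟩ - ⟨y₁, hy₁⟩ := rfl
        rw [e, Submodule.Quotient.mk_sub, ← h, hy₁', map_add, add_sub_cancel_left]
      rw [map_add, map_add, ih₁ y₁ hy₁ hy₁'.symm, ih₂ (y - y₁) hy₂ h₂, ← map_add,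
        add_sub_cancel]
    | smul r z ih =>
      intro y hy h
      obtain ⟨⟨y', hy'⟩, hy''⟩ := Submodule.Quotient.mk_surjective _ (SymGrA.canon J ι z)
      have h1 : r * y' - y ∈ J ^ (n + 1) := by
        rw [map_smul, ← hy'', ← Submodule.Quotient.mk_smul, Submodule.Quotient.eq,
          Submodule.mem_comap] at h
        exact h
      have e1 : ψ y = ψ r * ψ y' := by
        have := hψtop _ h1
        rw [map_sub, sub_eq_zero, map_mul] at this
        exact this.symm
      have e2 : mkq (β (r • z)) =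
          mkq (algebraMap (B ⧸ J) S (Ideal.Quotient.mk J r)) * ψ y' := by
        rw [map_smul, Algebra.smul_def, map_mul, ih y' hy' hy''.symm,
          IsScalarTower.algebraMap_apply B (B ⧸ J) S]
        rfl
      rw [e1, e2, ← sub_eq_zero, ← sub_mul, ← Ideal.mem_bot, ← hIpow]
      have h3 : mkq (algebraMap (B ⧸ J) S (Ideal.Quotient.mk J r)) - ψ r ∈ I := by
        rw [← Ideal.neg_mem_iff, neg_sub]
        exact hψ1 r
      have h4 := Ideal.mul_mem_mul h3 (hψpow n y' hy')
      rwa [← pow_succ'] at h4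
  have := claim z 0 (Ideal.zero_mem _) (by rw [hz]; rfl)
  rw [map_zero, hmkq, Ideal.Quotient.eq_zero_iff_mem] at this
  exact this

end Claim

section Final

open MvPolynomial

variable [Algebra.FormallySmooth A (B ⧸ J)]

theorem canon_injective (hfs : CAlgX.IsAdicFormallySmooth A B J) (ι : Type u) [Fintype ι]
    [Nonempty ι] : Function.Injective (SymGrA.canon J ι) := by
  haveI := projective_cotangent J hfs
  obtain ⟨ℓ, hℓ, hinj⟩ := SymGrB.exists_linear_forms (R := B) (J := J) (P := J.Cotangent)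
  rw [injective_iff_map_eq_zero]
  intro z hz
  apply hinj ι z
  exact beta_mem_of_canon_eq_zero J (idealOfVars J.Cotangent (B ⧸ J)) hfs ℓ hℓ ι
    (SymGrB.beta ι ℓ) (SymGrB.beta_tprod ι ℓ) z hz

/-- **EGA 0_IV 19.5.4, (a) ⇒ (b).** -/
theorem projective_and_symGrBijective (hfs : CAlgX.IsAdicFormallySmooth A B J) :
    Module.Projective (B ⧸ J) J.Cotangent ∧ PP16.SymGrBijective B J :=
  ⟨projective_cotangent J hfs,
    (SymGrA.symGrBijective_iff J).mpr (fun ι _ _ => canon_injective J hfs ι)⟩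

end Final

end Groth.Agent.Lib.Helper13.SymGrC
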