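import Mathlib
import Groth.Prelude.Def_PP16
import Groth.Agent.Lib.Helper13.SymGrA

/-!
# EGA 0_IV 19.5.4, (b) ⇒ (a), part 1: the comparison map from the symmetric algebra (helper13)

Abstract setting: `mkT : B → T` a surjection with kernel `J ^ M`, a ring-theoretic section
`σ : B ⧸ J → T`, a `σ`-semilinear lift `f : J/J² → T` of the identity, and a ring `S` with a linear
map `ιS : J/J² → S` generating the augmentation ideal `S₊`, and `φ : S → T` compatible with all this.
Then `φ` is surjective and, if the canonical maps `Sym^n(J/J²) → J^n/J^(n+1)` are injective,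
`ker φ ≤ S₊ ^ M`.
-/

set_option autoImplicit false

namespace Groth.Agent.Lib.Helper13.SymGrD

universe u

open PP16

section SpanPow

variable {R : Type*} [CommRing R] {ι : Type*} [Fintype ι]

theorem span_pow_card_le (s : Set R) :
    Ideal.span s ^ Fintype.card ι ≤
      Submodule.span R (Set.range fun x : ι → s => ∏ i, (x i : R)) := by
  rw [Ideal.span, Submodule.span_pow]
  refine Submodule.span_le.mpr ?_
  intro a ha
  rw [Set.mem_pow] at ha
  obtain ⟨f, rfl⟩ := ha
  refine Submodule.subset_span ⟨fun i => f (Fintype.equivFin ι i), ?_⟩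
  rw [List.prod_ofFn]
  exact Fintype.prod_equiv (Fintype.equivFin ι) _ _ (fun i => rfl)

end SpanPow

variable {B : Type u} [CommRing B] (J : Ideal B) {T : Type u} [CommRing T] (mkT : B →+* T)
  (hmkT : Function.Surjective mkT) (M : ℕ) (hker : RingHom.ker mkT = J ^ M)
  (σ : B ⧸ J →+* T) (hσ : ∀ b, σ (Ideal.Quotient.mk J b) - mkT b ∈ J.map mkT)
  (f : J.Cotangent →+ T) (hfσ : ∀ (c : B ⧸ J) p, f (c • p) = σ c * f p)
  (hf : ∀ x : J, f (J.toCotangent x) - mkT x ∈ J.map mkT ^ 2)
  {S : Type u} [CommRing S] [Algebra B S] [Algebra (B ⧸ J) S] [IsScalarTower B (B ⧸ J) S]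
  (ιS : J.Cotangent →ₗ[B ⧸ J] S)
  (hS : ∀ s : S, ∃ c : B ⧸ J, s - algebraMap (B ⧸ J) S c ∈ Ideal.span (Set.range ιS))
  (φ : S →+* T) (hφσ : ∀ c, φ (algebraMap (B ⧸ J) S c) = σ c) (hφf : ∀ p, φ (ιS p) = f p)

include hf in
theorem f_mem (p : J.Cotangent) : f p ∈ J.map mkT := by
  obtain ⟨x, rfl⟩ := J.toCotangent_surjective p
  have h1 := hf x
  have h2 : J.map mkT ^ 2 ≤ J.map mkT := Ideal.pow_le_self two_ne_zero
  have h3 : mkT x ∈ J.map mkT := Ideal.mem_map_of_mem _ x.2
  have := Ideal.add_mem _ (h2 h1) h3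
  rwa [sub_add_cancel] at this

include hf hφf in
theorem phi_map_le : (Ideal.span (Set.range ιS)).map φ ≤ J.map mkT := by
  rw [Ideal.map_span, Ideal.span_le]
  rintro _ ⟨_, ⟨p, rfl⟩, rfl⟩
  rw [hφf]
  exact f_mem J mkT f hf p

include hf hφf in
theorem phi_mem_pow (k : ℕ) {s : S} (hs : s ∈ Ideal.span (Set.range ιS) ^ k) :
    φ s ∈ J.map mkT ^ k := by
  have h2 : φ s ∈ (Ideal.span (Set.range ιS) ^ k).map φ := Ideal.mem_map_of_mem φ hs
  rw [Ideal.map_pow] at h2
  exact Ideal.pow_right_mono (phi_map_le J mkT f hf ιS φ hφf) k h2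

theorem mkT_mem_pow (k : ℕ) {y : B} (hy : y ∈ J ^ k) : mkT y ∈ J.map mkT ^ k := by
  rw [← Ideal.map_pow]
  exact Ideal.mem_map_of_mem _ hy

include hσ hf hφσ hφf in
/-- one step of the surjectivity argument -/
theorem exists_approx (k : ℕ) (y : B) (hy : y ∈ J ^ k) :
    ∃ s : S, mkT y - φ s ∈ J.map mkT ^ (k + 1) := by
  have hy' : y ∈ Submodule.span B (Set.range fun x : Fin k → J => ∏ i, (x i : B)) := by
    have := SymGrA.pow_card_le_span J (ι := Fin k)
    rw [Fintype.card_fin] at this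
    exact this hy
  have hspan : Submodule.span B (Set.range fun x : Fin k → J => ∏ i, (x i : B)) ≤ J ^ k := by
    refine Submodule.span_le.mpr ?_
    rintro _ ⟨x, rfl⟩
    have := SymGrA.prod_mem_pow J (fun i => (x i : B)) (fun i => (x i).2)
    rwa [Fintype.card_fin] at this
  clear hy
  induction hy' using Submodule.span_induction with
  | mem y h =>
    obtain ⟨x, rfl⟩ := h
    refine ⟨∏ i, ιS (J.toCotangent (x i)), ?_⟩
    rw [map_prod, map_prod]
    have := SymGrA.prod_sub_prod_mem (J.map mkT) (fun i => mkT (x i))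
      (fun i => φ (ιS (J.toCotangent (x i))))
      (fun i => Ideal.mem_map_of_mem _ (x i).2)
      (fun i => by rw [hφf]; exact f_mem J mkT f hf _)
      (fun i => by
        rw [hφf, ← Ideal.neg_mem_iff, neg_sub]
        exact hf (x i))
    rwa [Fintype.card_fin] at this
  | zero => exact ⟨0, by simp⟩
  | add a b _ _ iha ihb =>
    obtain ⟨sa, hsa⟩ := iha
    obtain ⟨sb, hsb⟩ := ihb
    refine ⟨sa + sb, ?_⟩
    have e : mkT (a + b) - φ (sa + sb) = (mkT a - φ sa) + (mkT b - φ sb) := by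
      rw [map_add, map_add]; ring
    rw [e]
    exact Ideal.add_mem _ hsa hsb
  | smul r a ha iha =>
    obtain ⟨sa, hsa⟩ := iha
    refine ⟨algebraMap (B ⧸ J) S (Ideal.Quotient.mk J r) * sa, ?_⟩
    have ha' : mkT a ∈ J.map mkT ^ k := mkT_mem_pow J mkT k (hspan ha)
    have hφsa : φ sa ∈ J.map mkT ^ k := by
      have h1 : J.map mkT ^ (k + 1) ≤ J.map mkT ^ k := Ideal.pow_le_pow_right (Nat.le_succ k)
      have := Ideal.sub_mem _ ha' (h1 hsa)
      rwa [sub_sub_cancel] at this
    have e : mkT (r • a) - φ (algebraMap (B ⧸ J) S (Ideal.Quotient.mk J r) * sa) =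
        mkT r * (mkT a - φ sa) - (σ (Ideal.Quotient.mk J r) - mkT r) * φ sa := by
      rw [smul_eq_mul, map_mul, map_mul, hφσ]; ring
    rw [e]
    refine Ideal.sub_mem _ (Ideal.mul_mem_left _ _ hsa) ?_
    rw [pow_succ']
    exact Ideal.mul_mem_mul (hσ r) hφsa

include hmkT hker hσ hf hφσ hφf in
theorem phi_surjective : Function.Surjective φ := by
  have hpow : J.map mkT ^ M = ⊥ := by
    rw [← Ideal.map_pow, Ideal.map_eq_bot_iff_le_ker, hker]
  have key : ∀ k, k ≤ M → ∀ t ∈ J.map mkT ^ (M - k), t ∈ φ.range := by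
    intro k
    induction k with
    | zero =>
      intro _ t ht
      rw [Nat.sub_zero, hpow, Ideal.mem_bot] at ht
      rw [ht]
      exact Subring.zero_mem _
    | succ k ih =>
      intro hk t ht
      rw [← Ideal.map_pow, Ideal.mem_map_iff_of_surjective mkT hmkT] at ht
      obtain ⟨y, hy, rfl⟩ := ht
      obtain ⟨s, hs⟩ := exists_approx J mkT σ hσ f hf ιS φ hφσ hφf (M - (k + 1)) y hy
      have e : M - (k + 1) + 1 = M - k := by omega
      rw [e] at hs
      obtain ⟨s', hs'⟩ := ih (by omega) _ hs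
      refine ⟨s + s', ?_⟩
      rw [map_add, hs', add_sub_cancel]
  intro t
  have := key M le_rfl t (by rw [Nat.sub_self, pow_zero, Ideal.one_eq_top]; trivial)
  exact this

end Groth.Agent.Lib.Helper13.SymGrD
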