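import Mathlib
import Groth.Agent.Lib.Helper13.SymGrD

/-!
# EGA 0_IV 19.5.4, (b) ⇒ (a), part 2: the kernel of the comparison map (helper13)
-/

set_option autoImplicit false

namespace Groth.Agent.Lib.Helper13.SymGrD

universe u

open PP16

variable {B : Type u} [CommRing B] (J : Ideal B) {T : Type u} [CommRing T] (mkT : B →+* T)
  (hmkT : Function.Surjective mkT) (M : ℕ) (hM : 1 ≤ M) (hker : RingHom.ker mkT = J ^ M)
  (σ : B ⧸ J →+* T) (hσ : ∀ b, σ (Ideal.Quotient.mk J b) - mkT b ∈ J.map mkT)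
  (f : J.Cotangent →+ T)
  (hf : ∀ x : J, f (J.toCotangent x) - mkT x ∈ J.map mkT ^ 2)
  {S : Type u} [CommRing S] [Algebra B S] [Algebra (B ⧸ J) S] [IsScalarTower B (B ⧸ J) S]
  (ιS : J.Cotangent →ₗ[B ⧸ J] S)
  (hS : ∀ s : S, ∃ c : B ⧸ J, s - algebraMap (B ⧸ J) S c ∈ Ideal.span (Set.range ιS))
  (φ : S →+* T) (hφσ : ∀ c, φ (algebraMap (B ⧸ J) S c) = σ c) (hφf : ∀ p, φ (ιS p) = f p)

/-- the map `Sym^n(J/J²) → S`, `⨂ₛ m i ↦ ∏ ιS (m i)` -/
noncomputable def betaS (ι : Type u) [Fintype ι] : SymmetricPower B ι J.Cotangent →ₗ[B] S :=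
  SymPow.lift ((MultilinearMap.mkPiAlgebra B ι S).compLinearMap
    (fun _ => ιS.restrictScalars B)) (fun e m => by
      simp only [MultilinearMap.compLinearMap_apply, MultilinearMap.mkPiAlgebra_apply]
      exact Equiv.prod_comp e (fun i => (ιS.restrictScalars B) (m i)))

@[simp]
theorem betaS_tprod (ι : Type u) [Fintype ι] (m : ι → J.Cotangent) :
    betaS J ιS ι (SymmetricPower.tprod B m) = ∏ i, ιS (m i) := by
  rw [betaS, SymPow.lift_tprod]
  simp

include hS in
theorem exists_sym_approx (ι : Type u) [Fintype ι] (s : S)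
    (hs : s ∈ Ideal.span (Set.range ιS) ^ Fintype.card ι) :
    ∃ z : SymmetricPower B ι J.Cotangent,
      s - betaS J ιS ι z ∈ Ideal.span (Set.range ιS) ^ (Fintype.card ι + 1) := by
  have hs' := span_pow_card_le (ι := ι) (Set.range ιS) hs
  have hspan : Submodule.span S (Set.range fun x : ι → (Set.range ιS) => ∏ i, (x i : S)) ≤
      Ideal.span (Set.range ιS) ^ Fintype.card ι := by
    refine Submodule.span_le.mpr ?_
    rintro _ ⟨x, rfl⟩
    exact SymGrA.prod_mem_pow _ (fun i => (x i : S)) (fun i => Ideal.subset_span (x i).2)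
  clear hs
  induction hs' using Submodule.span_induction with
  | mem y h =>
    obtain ⟨x, rfl⟩ := h
    choose m hm using fun i => (x i).2
    refine ⟨SymmetricPower.tprod B m, ?_⟩
    rw [betaS_tprod]
    have : ∏ i, (x i : S) = ∏ i, ιS (m i) := Finset.prod_congr rfl (fun i _ => (hm i).symm)
    show ∏ i, (x i : S) - ∏ i, ιS (m i) ∈ _
    rw [this, sub_self]
    exact Ideal.zero_mem _
  | zero => exact ⟨0, by simp⟩
  | add a b _ _ iha ihb =>
    obtain ⟨za, hza⟩ := iha
    obtain ⟨zb, hzb⟩ := ihb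
    refine ⟨za + zb, ?_⟩
    have e : a + b - betaS J ιS ι (za + zb) = (a - betaS J ιS ι za) + (b - betaS J ιS ι zb) := by
      rw [map_add]; ring
    rw [e]
    exact Ideal.add_mem _ hza hzb
  | smul r a ha iha =>
    obtain ⟨za, hza⟩ := iha
    obtain ⟨c, hc⟩ := hS r
    obtain ⟨b, rfl⟩ := Ideal.Quotient.mk_surjective c
    refine ⟨b • za, ?_⟩
    have e : r • a - betaS J ιS ι (b • za) =
        (r - algebraMap (B ⧸ J) S (Ideal.Quotient.mk J b)) * a +
          algebraMap (B ⧸ J) S (Ideal.Quotient.mk J b) * (a - betaS J ιS ι za) := by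
      rw [map_smul, smul_eq_mul, Algebra.smul_def (R := B),
        IsScalarTower.algebraMap_apply B (B ⧸ J) S]
      show _ = (r - algebraMap (B ⧸ J) S (algebraMap B (B ⧸ J) b)) * a +
          algebraMap (B ⧸ J) S (algebraMap B (B ⧸ J) b) * (a - betaS J ιS ι za)
      ring
    rw [e]
    refine Ideal.add_mem _ ?_ (Ideal.mul_mem_left _ _ hza)
    rw [pow_succ']
    exact Ideal.mul_mem_mul hc (hspan ha)

include hσ hf hφσ hφf in
theorem phi_betaS (ι : Type u) [Fintype ι] :
    ∀ (z : SymmetricPower B ι J.Cotangent) (y : B) (hy : y ∈ J ^ Fintype.card ι),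
      SymGrA.canon J ι z = Submodule.Quotient.mk ⟨y, hy⟩ →
      φ (betaS J ιS ι z) - mkT y ∈ J.map mkT ^ (Fintype.card ι + 1) := by
  intro z
  induction z using SymPow.induction_on with
  | tprod m =>
    intro y hy h
    have hm : m = fun i => J.toCotangent (SymGrA.sec J (m i)) := by
      funext i; rw [SymGrA.toCotangent_sec]
    have h' : SymGrA.canon J ι (SymmetricPower.tprod B m) =
        zetaJ B J (fun i => SymGrA.sec J (m i)) := by
      conv_lhs => rw [hm]
      exact SymGrA.canon_tprod J ι _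
    rw [h'] at h
    have h'' : ∏ i, ((SymGrA.sec J (m i) : J) : B) - y ∈ J ^ (Fintype.card ι + 1) := by
      unfold zetaJ at h
      rw [Submodule.Quotient.eq, Submodule.mem_comap] at h
      exact h
    rw [betaS_tprod, map_prod]
    have e : ∏ i, φ (ιS (m i)) - mkT y =
        (∏ i, φ (ιS (m i)) - ∏ i, mkT ((SymGrA.sec J (m i) : J) : B)) +
          mkT (∏ i, ((SymGrA.sec J (m i) : J) : B) - y) := by
      rw [map_sub, map_prod]; ring
    rw [e]
    refine Ideal.add_mem _ ?_ (mkT_mem_pow J mkT _ h'')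
    refine SymGrA.prod_sub_prod_mem (J.map mkT) _ _
      (fun i => by rw [hφf]; exact f_mem J mkT f hf _)
      (fun i => Ideal.mem_map_of_mem _ (SymGrA.sec J (m i)).2) (fun i => ?_)
    have := hf (SymGrA.sec J (m i))
    rw [SymGrA.toCotangent_sec] at this
    rw [hφf]
    exact this
  | zero =>
    intro y hy h
    rw [map_zero, map_zero, zero_sub, Ideal.neg_mem_iff]
    rw [map_zero] at h
    have h' : y ∈ J ^ (Fintype.card ι + 1) := by
      have := h.symm
      rw [Submodule.Quotient.mk_eq_zero, Submodule.mem_comap] at this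
      exact this
    exact mkT_mem_pow J mkT _ h'
  | add z₁ z₂ ih₁ ih₂ =>
    intro y hy h
    obtain ⟨⟨y₁, hy₁⟩, hy₁'⟩ := Submodule.Quotient.mk_surjective _ (SymGrA.canon J ι z₁)
    have hy₂ : y - y₁ ∈ J ^ Fintype.card ι := Ideal.sub_mem _ hy hy₁
    have h₂ : SymGrA.canon J ι z₂ = Submodule.Quotient.mk ⟨y - y₁, hy₂⟩ := by
      have e : (⟨y - y₁, hy₂⟩ : ↥(J ^ Fintype.card ι)) = ⟨y, hy⟩ - ⟨y₁, hy₁⟩ := rfl
      rw [e, Submodule.Quotient.mk_sub, ← h, hy₁', map_add, add_sub_cancel_left]
    have e : φ (betaS J ιS ι (z₁ + z₂)) - mkT y =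
        (φ (betaS J ιS ι z₁) - mkT y₁) + (φ (betaS J ιS ι z₂) - mkT (y - y₁)) := by
      rw [map_add, map_add, map_sub]; ring
    rw [e]
    exact Ideal.add_mem _ (ih₁ y₁ hy₁ hy₁'.symm) (ih₂ (y - y₁) hy₂ h₂)
  | smul r z ih =>
    intro y hy h
    obtain ⟨⟨y', hy'⟩, hy''⟩ := Submodule.Quotient.mk_surjective _ (SymGrA.canon J ι z)
    have h1 : r * y' - y ∈ J ^ (Fintype.card ι + 1) := by
      rw [map_smul, ← hy'', ← Submodule.Quotient.mk_smul, Submodule.Quotient.eq,
        Submodule.mem_comap] at h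
      exact h
    have e : φ (betaS J ιS ι (r • z)) - mkT y =
        σ (Ideal.Quotient.mk J r) * (φ (betaS J ιS ι z) - mkT y') +
          (σ (Ideal.Quotient.mk J r) - mkT r) * mkT y' + mkT (r * y' - y) := by
      rw [map_smul, Algebra.smul_def (R := B), IsScalarTower.algebraMap_apply B (B ⧸ J) S,
        map_mul, hφσ, map_sub, map_mul]
      show σ (Ideal.Quotient.mk J r) * _ - _ = _
      ring
    rw [e]
    refine Ideal.add_mem _ (Ideal.add_mem _ (Ideal.mul_mem_left _ _ (ih y' hy' hy''.symm)) ?_)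
      (mkT_mem_pow J mkT _ h1)
    rw [pow_succ']
    exact Ideal.mul_mem_mul (hσ r) (mkT_mem_pow J mkT _ hy')

include hmkT hM hker hσ hf hS hφσ hφf in
/-- the kernel of the comparison map lies in `S₊ ^ M` -/
theorem ker_le (hinj : ∀ (ι : Type u) [Fintype ι] [Nonempty ι],
      Function.Injective (SymGrA.canon J ι)) :
    RingHom.ker φ ≤ Ideal.span (Set.range ιS) ^ M := by
  have hJM : J ^ M ≤ J := Ideal.pow_le_self (by omega)
  have key : ∀ j, j ≤ M → RingHom.ker φ ≤ Ideal.span (Set.range ιS) ^ j := by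
    intro j
    induction j with
    | zero =>
      intro _
      rw [pow_zero, Ideal.one_eq_top]
      exact le_top
    | succ j ih =>
      intro hj s hs
      have hsj := ih (by omega) hs
      rcases Nat.eq_zero_or_pos j with rfl | hjpos
      · rw [zero_add, pow_one]
        obtain ⟨c, hc⟩ := hS s
        obtain ⟨b, rfl⟩ := Ideal.Quotient.mk_surjective c
        have h1 := phi_mem_pow J mkT f hf ιS φ hφf 1 (by rwa [pow_one])
        rw [pow_one, map_sub, RingHom.mem_ker.mp hs, zero_sub, Ideal.neg_mem_iff, hφσ] at h1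
        have h2 := Ideal.sub_mem _ h1 (hσ b)
        rw [sub_sub_cancel, Ideal.mem_map_iff_of_surjective mkT hmkT] at h2
        obtain ⟨b', hb', hbb'⟩ := h2
        have h3 : b' - b ∈ J ^ M := by
          rw [← hker, RingHom.mem_ker, map_sub, hbb', sub_self]
        have h4 : b ∈ J := by
          have := Ideal.sub_mem _ hb' (hJM h3)
          rwa [sub_sub_cancel] at this
        rw [Ideal.Quotient.eq_zero_iff_mem.mpr h4, map_zero, sub_zero] at hc
        exact hc
      · let ι := ULift.{u} (Fin j)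
        haveI : Nonempty ι := ⟨⟨⟨0, hjpos⟩⟩⟩
        have hcard : Fintype.card ι = j := by
          rw [Fintype.card_ulift, Fintype.card_fin]
        obtain ⟨z, hz⟩ := exists_sym_approx J ιS hS ι s (by rw [hcard]; exact hsj)
        rw [hcard] at hz
        obtain ⟨⟨y, hy⟩, hy'⟩ := Submodule.Quotient.mk_surjective _ (SymGrA.canon J ι z)
        have h1 := phi_betaS J mkT σ hσ f hf ιS φ hφσ hφf ι z y hy hy'.symm
        rw [hcard] at h1
        have h2 : φ (betaS J ιS ι z) ∈ J.map mkT ^ (j + 1) := by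
          have := phi_mem_pow J mkT f hf ιS φ hφf (j + 1) hz
          rw [map_sub, RingHom.mem_ker.mp hs, zero_sub, Ideal.neg_mem_iff] at this
          exact this
        have h3 : mkT y ∈ J.map mkT ^ (j + 1) := by
          have := Ideal.sub_mem _ h2 h1
          rwa [sub_sub_cancel] at this
        rw [← Ideal.map_pow, Ideal.mem_map_iff_of_surjective mkT hmkT] at h3
        obtain ⟨y', hy'mem, hyy'⟩ := h3
        have h4 : y' - y ∈ J ^ M := by
          rw [← hker, RingHom.mem_ker, map_sub, hyy', sub_self]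
        have h5 : y ∈ J ^ (j + 1) := by
          have := Ideal.sub_mem _ hy'mem (Ideal.pow_le_pow_right hj h4)
          rwa [sub_sub_cancel] at this
        have h6 : SymGrA.canon J ι z = 0 := by
          rw [← hy', Submodule.Quotient.mk_eq_zero, Submodule.mem_comap]
          show y ∈ J ^ (Fintype.card ι + 1)
          rw [hcard]
          exact h5
        have h7 : z = 0 := hinj ι (by rw [h6, map_zero])
        rw [h7, map_zero, sub_zero] at hz
        exact hz
  exact key M le_rfl

end Groth.Agent.Lib.Helper13.SymGrD
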