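import Mathlib
import Groth.Prelude.Def_PP16
import Groth.Prelude.Def_CAlgX
import Groth.Agent.Lib.Helper13.SymGrD2

/-!
# EGA 0_IV 19.5.4, (b) ⇒ (a) (helper13)
-/

set_option autoImplicit false

namespace Groth.Agent.Lib.Helper13.SymGrE

universe u

open PP16

section SymAlg

variable {C P : Type*} [CommRing C] [AddCommGroup P] [Module C P]

/-- universal property of the symmetric algebra, for plain ring homomorphisms -/
theorem exists_ringHom {R' : Type*} [CommRing R'] (τ : C →+* R') (F : P →+ R')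
    (hF : ∀ c p, F (c • p) = τ c * F p) :
    ∃ w : SymmetricAlgebra C P →+* R', (∀ c, w (algebraMap C _ c) = τ c) ∧
      ∀ p, w (SymmetricAlgebra.ι C P p) = F p := by
  letI : Algebra C R' := τ.toAlgebra
  let FL : P →ₗ[C] R' :=
    { toFun := F
      map_add' := F.map_add
      map_smul' := fun c p => by
        rw [hF, Algebra.smul_def]
        rfl }
  refine ⟨(SymmetricAlgebra.lift FL : SymmetricAlgebra C P →ₐ[C] R').toRingHom, fun c => ?_,
    fun p => ?_⟩
  · exact (SymmetricAlgebra.lift FL).commutes c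
  · exact SymmetricAlgebra.lift_ι_apply FL p

theorem exists_sub_mem (s : SymmetricAlgebra C P) :
    ∃ c : C, s - algebraMap C _ c ∈ Ideal.span (Set.range (SymmetricAlgebra.ι C P)) := by
  induction s using SymmetricAlgebra.induction with
  | algebraMap r => exact ⟨r, by rw [sub_self]; exact Ideal.zero_mem _⟩
  | ι x => exact ⟨0, by rw [map_zero, sub_zero]; exact Ideal.subset_span ⟨x, rfl⟩⟩
  | mul a b ha hb =>
    obtain ⟨ca, hca⟩ := ha
    obtain ⟨cb, hcb⟩ := hb
    refine ⟨ca * cb, ?_⟩
    have e : a * b - algebraMap C (SymmetricAlgebra C P) (ca * cb) =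
        a * (b - algebraMap C _ cb) + (a - algebraMap C _ ca) * algebraMap C _ cb := by
      rw [map_mul]; ring
    rw [e]
    exact Ideal.add_mem _ (Ideal.mul_mem_left _ _ hcb) (Ideal.mul_mem_right _ _ hca)
  | add a b ha hb =>
    obtain ⟨ca, hca⟩ := ha
    obtain ⟨cb, hcb⟩ := hb
    refine ⟨ca + cb, ?_⟩
    have e : a + b - algebraMap C (SymmetricAlgebra C P) (ca + cb) =
        (a - algebraMap C _ ca) + (b - algebraMap C _ cb) := by
      rw [map_add]; ring
    rw [e]
    exact Ideal.add_mem _ hca hcb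

/-- the semilinear map attached to a "dual basis" `sd`, a ring hom `τ` and a family `e` -/
noncomputable def dualSum {R' : Type*} [CommRing R'] (sd : P →ₗ[C] (P →₀ C)) (τ : C →+* R')
    (e : P → R') : P →+ R' :=
  (Finsupp.liftAddHom (fun q => (AddMonoidHom.mulRight (e q)).comp τ.toAddMonoidHom)).comp
    sd.toAddMonoidHom

theorem dualSum_apply {R' : Type*} [CommRing R'] (sd : P →ₗ[C] (P →₀ C)) (τ : C →+* R')
    (e : P → R') (p : P) : dualSum sd τ e p = (sd p).sum (fun q c => τ c * e q) := by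
  rw [dualSum, AddMonoidHom.comp_apply, Finsupp.liftAddHom_apply]
  rfl

theorem dualSum_smul {R' : Type*} [CommRing R'] (sd : P →ₗ[C] (P →₀ C)) (τ : C →+* R')
    (e : P → R') (c : C) (p : P) : dualSum sd τ e (c • p) = τ c * dualSum sd τ e p := by
  rw [dualSum_apply, dualSum_apply, map_smul, Finsupp.sum_smul_index (by simp), Finsupp.mul_sum]
  refine Finsupp.sum_congr (fun q _ => ?_)
  rw [map_mul, mul_assoc]

theorem map_dualSum {R' R'' : Type*} [CommRing R'] [CommRing R''] (sd : P →ₗ[C] (P →₀ C))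
    (τ : C →+* R') (e : P → R') (g : R' →+* R'') (p : P) :
    g (dualSum sd τ e p) = dualSum sd (g.comp τ) (fun q => g (e q)) p := by
  rw [dualSum_apply, dualSum_apply, map_finsuppSum]
  refine Finsupp.sum_congr (fun q _ => ?_)
  rw [map_mul]
  rfl

end SymAlg

section Lift

variable {B : Type u} [CommRing B] (J : Ideal B) {T : Type u} [CommRing T] (mkT : B →+* T)
  (σ : B ⧸ J →+* T) (hσ : ∀ b, σ (Ideal.Quotient.mk J b) - mkT b ∈ J.map mkT)
  (sd : J.Cotangent →ₗ[B ⧸ J] (J.Cotangent →₀ B ⧸ J))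
  (hsd : Finsupp.linearCombination (B ⧸ J) id ∘ₗ sd = LinearMap.id)

include hσ hsd in
theorem dualSum_sub_mem (x : J) :
    dualSum sd σ (fun q => mkT (SymGrA.sec J q)) (J.toCotangent x) - mkT x ∈ J.map mkT ^ 2 := by
  classical
  set p := J.toCotangent x with hp
  set v := sd p with hv
  have hp' : p = ∑ q ∈ v.support, v q • q := by
    have := LinearMap.congr_fun hsd p
    rw [LinearMap.comp_apply, Finsupp.linearCombination_apply, Finsupp.sum] at this
    simpa using this.symm
  let b : J.Cotangent → B := fun q => Function.surjInv Ideal.Quotient.mk_surjective (v q)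
  have hb : ∀ q, Ideal.Quotient.mk J (b q) = v q :=
    fun q => Function.surjInv_eq Ideal.Quotient.mk_surjective (v q)
  let y' : J := ∑ q ∈ v.support, b q • SymGrA.sec J q
  have hy' : J.toCotangent y' = p := by
    rw [map_sum]
    conv_rhs => rw [hp']
    refine Finset.sum_congr rfl (fun q _ => ?_)
    rw [map_smul, SymGrA.toCotangent_sec, ← hb q]
    exact (algebraMap_smul (B ⧸ J) (b q) q).symm
  have hxy : (x : B) - (y' : B) ∈ J ^ 2 := by
    rw [← Ideal.toCotangent_eq, hy']
  have hy'coe : (y' : B) = ∑ q ∈ v.support, b q * (SymGrA.sec J q : B) := by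
    show ((∑ q ∈ v.support, b q • SymGrA.sec J q : J) : B) = _
    rw [Submodule.coe_sum]
    rfl
  rw [dualSum_apply, Finsupp.sum]
  have e : ∑ q ∈ v.support, σ (v q) * mkT (SymGrA.sec J q) - mkT x =
      ∑ q ∈ v.support, (σ (Ideal.Quotient.mk J (b q)) - mkT (b q)) * mkT (SymGrA.sec J q) -
        mkT ((x : B) - (y' : B)) := by
    rw [map_sub, hy'coe, map_sum]
    simp only [sub_mul, Finset.sum_sub_distrib, map_mul, hb]
    ring
  rw [e]
  refine Ideal.sub_mem _ (Ideal.sum_mem _ (fun q _ => ?_)) (SymGrD.mkT_mem_pow J mkT 2 hxy)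
  rw [pow_two]
  exact Ideal.mul_mem_mul (hσ (b q)) (Ideal.mem_map_of_mem _ (SymGrA.sec J q).2)

end Lift

end Groth.Agent.Lib.Helper13.SymGrE
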