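import Mathlib
import Groth.Agent.Lib.Helper13.SymGrE

/-!
# EGA 0_IV 19.5.4, (b) ⇒ (a): main theorem (helper13)
-/

set_option autoImplicit false

namespace Groth.Agent.Lib.Helper13.SymGrE

universe u

open PP16

variable {A B : Type u} [CommRing A] [CommRing B] [Algebra A B] (J : Ideal B)
  [Algebra.FormallySmooth A (B ⧸ J)]

/-- sections of `B ⧸ J ^ M → B ⧸ J` -/
theorem exists_section (M : ℕ) :
    ∃ σ : B ⧸ J →ₐ[A] B ⧸ J ^ M, ∀ b, σ (Ideal.Quotient.mk J b) - Ideal.Quotient.mk (J ^ M) b ∈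
      J.map (Ideal.Quotient.mk (J ^ M)) := by
  set 𝔧 : Ideal (B ⧸ J ^ M) := J.map (Ideal.Quotient.mk (J ^ M)) with h𝔧
  have hnil : IsNilpotent 𝔧 := by
    refine ⟨M, ?_⟩
    rw [h𝔧, ← Ideal.map_pow]
    exact Ideal.map_quotient_self _
  let g : B ⧸ J →ₐ[A] (B ⧸ J ^ M) ⧸ 𝔧 :=
    Ideal.Quotient.liftₐ J ((Ideal.Quotient.mkₐ A 𝔧).comp (Ideal.Quotient.mkₐ A (J ^ M)))
      (fun x hx => by
        show Ideal.Quotient.mk 𝔧 (Ideal.Quotient.mk (J ^ M) x) = 0
        rw [Ideal.Quotient.eq_zero_iff_mem]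
        exact Ideal.mem_map_of_mem _ hx)
  obtain ⟨σ, hσ⟩ := Algebra.FormallySmooth.exists_lift 𝔧 hnil g
  refine ⟨σ, fun b => ?_⟩
  have := DFunLike.congr_fun hσ (Ideal.Quotient.mk J b)
  rw [← Ideal.Quotient.eq]
  exact this

/-- **EGA 0_IV 19.5.4, (b) ⇒ (a).** -/
theorem isAdicFormallySmooth_of_symGr (hproj : Module.Projective (B ⧸ J) J.Cotangent)
    (hsg : PP16.SymGrBijective B J) : CAlgX.IsAdicFormallySmooth A B J := by
  intro E _ _ N hN ψ hψ
  obtain ⟨k, hk⟩ := hψ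
  have hinj := (SymGrA.symGrBijective_iff J).mp hsg
  -- the exponents
  set r := max k 1 with hr
  have hr1 : 1 ≤ r := le_max_right _ _
  have hkr : ∀ x ∈ J ^ r, ψ x = 0 := fun x hx =>
    hk x (Ideal.pow_le_pow_right (le_max_left _ _) hx)
  set M := r * 2 with hM
  have hM1 : 1 ≤ M := by omega
  have hrM : r ≤ M := by omega
  -- the truncation
  let mkT : B →+* B ⧸ J ^ M := Ideal.Quotient.mk (J ^ M)
  have hmkT : Function.Surjective mkT := Ideal.Quotient.mk_surjective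
  have hker : RingHom.ker mkT = J ^ M := Ideal.mk_ker
  obtain ⟨σ, hσ⟩ := exists_section (A := A) J M
  obtain ⟨sd, hsd⟩ := Module.projective_def'.mp hproj
  -- the semilinear lift
  let f : J.Cotangent →+ B ⧸ J ^ M :=
    dualSum sd σ.toRingHom (fun q => mkT (SymGrA.sec J q))
  have hfσ : ∀ (c : B ⧸ J) p, f (c • p) = σ c * f p := fun c p => dualSum_smul sd _ _ c p
  have hf : ∀ x : J, f (J.toCotangent x) - mkT x ∈ J.map mkT ^ 2 :=
    fun x => dualSum_sub_mem J mkT σ.toRingHom hσ sd hsd x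
  -- the comparison map
  obtain ⟨φ, hφσ, hφf⟩ := exists_ringHom (C := B ⧸ J) (P := J.Cotangent) σ.toRingHom f hfσ
  have hS := exists_sub_mem (C := B ⧸ J) (P := J.Cotangent)
  have hφsurj : Function.Surjective φ :=
    SymGrD.phi_surjective J mkT hmkT M hker σ.toRingHom hσ f hf (SymmetricAlgebra.ι _ _) φ hφσ hφf
  have hkerφ : RingHom.ker φ ≤ Ideal.span (Set.range (SymmetricAlgebra.ι (B ⧸ J) J.Cotangent)) ^ M :=
    SymGrD.ker_le J mkT hmkT M hM1 hker σ.toRingHom hσ f hf (SymmetricAlgebra.ι _ _) hS φ hφσ hφf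
      hinj
  -- the induced map on the truncation
  let ū : B ⧸ J ^ M →ₐ[A] E ⧸ N :=
    Ideal.Quotient.liftₐ (J ^ M) ψ (fun x hx => hkr x (Ideal.pow_le_pow_right hrM hx))
  have hūmk : ∀ b, ū (mkT b) = ψ b := fun b => rfl
  have hū : ∀ t ∈ J.map mkT ^ r, ū t = 0 := by
    intro t ht
    rw [← Ideal.map_pow, Ideal.mem_map_iff_of_surjective mkT hmkT] at ht
    obtain ⟨y, hy, rfl⟩ := ht
    rw [hūmk, hkr y hy]
  -- lifting the section
  obtain ⟨σE, hσE⟩ := Algebra.FormallySmooth.comp_surjective A (B ⧸ J) N hN (ū.comp σ)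
  have hσE' : ∀ c, Ideal.Quotient.mk N (σE c) = ū (σ c) := fun c => DFunLike.congr_fun hσE c
  let eq : J.Cotangent → E := fun q =>
    Function.surjInv Ideal.Quotient.mk_surjective (ū (mkT (SymGrA.sec J q)))
  have heq : ∀ q, Ideal.Quotient.mk N (eq q) = ū (mkT (SymGrA.sec J q)) :=
    fun q => Function.surjInv_eq Ideal.Quotient.mk_surjective _
  let fE : J.Cotangent →+ E := dualSum sd σE.toRingHom eq
  have hfEσ : ∀ (c : B ⧸ J) p, fE (c • p) = σE c * fE p := fun c p => dualSum_smul sd _ _ c p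
  have hfE : ∀ p, Ideal.Quotient.mk N (fE p) = ū (f p) := by
    intro p
    have e1 : (Ideal.Quotient.mk N).comp σE.toRingHom = (ū : _ →+* _).comp σ.toRingHom :=
      RingHom.ext hσE'
    have e2 : (fun q => Ideal.Quotient.mk N (eq q)) =
        fun q => (ū : _ →+* _) (mkT (SymGrA.sec J q)) := funext heq
    rw [map_dualSum, ← AlgHom.coe_toRingHom ū, map_dualSum, e1, e2]
  obtain ⟨w, hwσ, hwf⟩ := exists_ringHom (C := B ⧸ J) (P := J.Cotangent) σE.toRingHom fE hfEσ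
  have hw1 : ∀ s, Ideal.Quotient.mk N (w s) = ū (φ s) := by
    intro s
    induction s using SymmetricAlgebra.induction with
    | algebraMap c => rw [hwσ, hφσ]; exact hσE' c
    | ι p => rw [hwf, hφf]; exact hfE p
    | mul a b ha hb => rw [map_mul, map_mul, map_mul, map_mul, ha, hb]
    | add a b ha hb => rw [map_add, map_add, map_add, map_add, ha, hb]
  have hw2 : (Ideal.span (Set.range (SymmetricAlgebra.ι (B ⧸ J) J.Cotangent)) ^ r).map w ≤ N := by
    rw [Ideal.map_le_iff_le_comap]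
    intro s hs
    rw [Ideal.mem_comap, ← Ideal.Quotient.eq_zero_iff_mem, hw1]
    exact hū _ (SymGrD.phi_mem_pow J mkT f hf _ φ hφf r hs)
  have hw3 : ∀ s ∈ Ideal.span (Set.range (SymmetricAlgebra.ι (B ⧸ J) J.Cotangent)) ^ M,
      w s = 0 := by
    intro s hs
    rw [hM, pow_mul] at hs
    have h1 := Ideal.mem_map_of_mem w hs
    rw [Ideal.map_pow] at h1
    have h2 := Ideal.pow_right_mono hw2 2 h1
    rwa [hN] at h2
  have hw4 : RingHom.ker φ ≤ RingHom.ker w := fun s hs => hw3 s (hkerφ hs)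
  let χT : B ⧸ J ^ M →+* E := φ.liftOfSurjective hφsurj ⟨w, hw4⟩
  have hχT : ∀ s, χT (φ s) = w s := fun s =>
    φ.liftOfRightInverse_comp_apply _ (Function.rightInverse_surjInv hφsurj) ⟨w, hw4⟩ s
  let χ : B →ₐ[A] E :=
    { toRingHom := χT.comp mkT
      commutes' := fun a => by
        show χT (mkT (algebraMap A B a)) = algebraMap A E a
        have h1 : mkT (algebraMap A B a) = φ (algebraMap (B ⧸ J) _ (algebraMap A (B ⧸ J) a)) := by
          rw [hφσ]
          exact (σ.commutes a).symm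
        rw [h1, hχT, hwσ]
        exact σE.commutes a }
  refine ⟨χ, ?_⟩
  ext b
  show Ideal.Quotient.mk N (χT (mkT b)) = ψ b
  obtain ⟨s, hs⟩ := hφsurj (mkT b)
  rw [← hs, hχT, hw1, hs, hūmk]

end Groth.Agent.Lib.Helper13.SymGrE
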