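import Mathlib
import Groth.Prelude.Def_CAlgX
import Groth.Agent.Lib.Helper13.FSLift
import Groth.Agent.Lib.Helper96.SmoothTower

/-!
# Relative criterion for adic formal smoothness in a tower `Λ → A → B` (helper13)

Generalises helper96's `SmoothTower` (local rings over fields) to arbitrary `(B, J)`:

* `hom_ext_baseChange_kaehler` : `B ⧸ J`-linear maps out of `(B ⧸ J) ⊗_B (B ⊗_A Ω_{A/Λ})` are
  determined on the elements `1 ⊗ (1 ⊗ da)`.
* `exists_derivation_extension` : given a retraction of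
  `(B ⧸ J) ⊗ (B ⊗_A Ω_{A/Λ}) → (B ⧸ J) ⊗ Ω_{B/Λ}`, every `Λ`-derivation `A → N` into a `B`-module
  killed by `J` extends to `B`.
* `isAdicFormallySmooth_of_tower_of_retraction` : `B` adic f.s. over `Λ` + retraction ⇒ adic f.s.
  over `A`.
* `exists_retraction` : conversely, if `B` is `J`-adically f.s. over `A` the retraction exists.
-/

set_option autoImplicit false

namespace Groth.Agent.Lib.Helper13.TowerCrit

universe u

open TensorProduct KaehlerDifferential

variable {Λ A B : Type u} [CommRing Λ] [CommRing A] [CommRing B] [Algebra Λ A] [Algebra A B]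
  [Algebra Λ B] [IsScalarTower Λ A B] (J : Ideal B)

theorem hom_ext_baseChange_kaehler {P : Type*} [AddCommGroup P] [Module (B ⧸ J) P]
    (φ₁ φ₂ : (B ⧸ J) ⊗[B] (B ⊗[A] Ω[A⁄Λ]) →ₗ[B ⧸ J] P)
    (h : ∀ a : A, φ₁ (1 ⊗ₜ[B] (1 ⊗ₜ[A] KaehlerDifferential.D Λ A a)) =
      φ₂ (1 ⊗ₜ[B] (1 ⊗ₜ[A] KaehlerDifferential.D Λ A a))) : φ₁ = φ₂ := by
  have h1 : ∀ ω : Ω[A⁄Λ], φ₁ (1 ⊗ₜ[B] (1 ⊗ₜ[A] ω)) = φ₂ (1 ⊗ₜ[B] (1 ⊗ₜ[A] ω)) := by
    intro ω
    have hω : ω ∈ Submodule.span A (Set.range (KaehlerDifferential.D Λ A)) := by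
      rw [KaehlerDifferential.span_range_derivation]; trivial
    induction hω using Submodule.span_induction with
    | mem x hx => obtain ⟨c, rfl⟩ := hx; exact h c
    | zero => simp
    | add x y _ _ hx hy => simp only [TensorProduct.tmul_add, map_add, hx, hy]
    | smul c x _ hx =>
      have e1 : (1 : B ⧸ J) ⊗ₜ[B] ((1 : B) ⊗ₜ[A] (c • x)) =
          (algebraMap A (B ⧸ J) c) • ((1 : B ⧸ J) ⊗ₜ[B] ((1 : B) ⊗ₜ[A] x)) := by
        rw [TensorProduct.tmul_smul, ← algebraMap_smul B c ((1 : B) ⊗ₜ[A] x),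
          TensorProduct.tmul_smul, TensorProduct.smul_tmul', TensorProduct.smul_tmul',
          Algebra.smul_def, mul_one, smul_eq_mul, mul_one, ← IsScalarTower.algebraMap_apply]
      rw [e1, map_smul, map_smul, hx]
  have h2 : ∀ y : B ⊗[A] Ω[A⁄Λ], φ₁ (1 ⊗ₜ[B] y) = φ₂ (1 ⊗ₜ[B] y) := by
    intro y
    induction y using TensorProduct.induction_on with
    | zero => simp
    | add x y hx hy => simp only [TensorProduct.tmul_add, map_add, hx, hy]
    | tmul a ω =>
      have e1 : (1 : B ⧸ J) ⊗ₜ[B] (a ⊗ₜ[A] ω) =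
          (Ideal.Quotient.mk J a) • ((1 : B ⧸ J) ⊗ₜ[B] ((1 : B) ⊗ₜ[A] ω)) := by
        have e2 : a ⊗ₜ[A] ω = a • ((1 : B) ⊗ₜ[A] ω) := by
          rw [TensorProduct.smul_tmul', smul_eq_mul, mul_one]
        rw [e2, TensorProduct.tmul_smul, TensorProduct.smul_tmul', TensorProduct.smul_tmul',
          Algebra.smul_def, mul_one, smul_eq_mul, mul_one]
        rfl
      rw [e1, map_smul, map_smul, h1]
  ext x
  induction x using TensorProduct.induction_on with
  | zero => simp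
  | add x y hx hy => simp only [map_add, hx, hy]
  | tmul κ y =>
    have e0 : κ ⊗ₜ[B] y = κ • ((1 : B ⧸ J) ⊗ₜ[B] y) := by
      rw [TensorProduct.smul_tmul', smul_eq_mul, mul_one]
    rw [e0, map_smul, map_smul, h2]

/-- **Extension of derivations** along a retraction. -/
theorem exists_derivation_extension
    (r : (B ⧸ J) ⊗[B] Ω[B⁄Λ] →ₗ[B ⧸ J] (B ⧸ J) ⊗[B] (B ⊗[A] Ω[A⁄Λ]))
    (hr : r ∘ₗ (KaehlerDifferential.mapBaseChange Λ A B).baseChange (B ⧸ J) = LinearMap.id)
    {N : Type*} [AddCommGroup N] [Module B N] (hN : ∀ a ∈ J, ∀ x : N, a • x = 0)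
    (δ : A → N) (hadd : ∀ c c', δ (c + c') = δ c + δ c')
    (hmul : ∀ c c', δ (c * c') = algebraMap A B c • δ c' + algebraMap A B c' • δ c)
    (hΛ : ∀ c : Λ, δ (algebraMap Λ A c) = 0) :
    ∃ D : B →+ N, (∀ b b', D (b * b') = b • D b' + b' • D b) ∧
      (∀ c : Λ, D (algebraMap Λ B c) = 0) ∧ ∀ c, D (algebraMap A B c) = δ c := by
  classical
  letI : Module A N := Module.compHom N (algebraMap A B)
  haveI : IsScalarTower A B N := ⟨fun c a x => by
    show (c • a) • x = algebraMap A B c • (a • x)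
    rw [Algebra.smul_def, mul_smul]⟩
  letI : Module Λ N := Module.compHom N (algebraMap Λ B)
  haveI : IsScalarTower Λ B N := ⟨fun c a x => by
    show (c • a) • x = algebraMap Λ B c • (a • x)
    rw [Algebra.smul_def, mul_smul]⟩
  haveI : IsScalarTower Λ A N := ⟨fun c a x => by
    show algebraMap A B (c • a) • x = algebraMap Λ B c • (algebraMap A B a • x)
    rw [Algebra.smul_def, map_mul, mul_smul, ← IsScalarTower.algebraMap_apply]⟩
  have htors : Module.IsTorsionBySet B N (J : Set B) := by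
    intro x a
    exact hN a.1 a.2 x
  letI : Module (B ⧸ J) N := htors.module
  haveI : IsScalarTower B (B ⧸ J) N := ⟨fun a κ x => by
    obtain ⟨b, rfl⟩ := Ideal.Quotient.mk_surjective κ
    have e : a • Ideal.Quotient.mk J b = Ideal.Quotient.mk J (a * b) := by
      rw [Algebra.smul_def, map_mul]; rfl
    rw [e]
    show (a * b) • x = a • (b • x)
    rw [mul_smul]⟩
  -- the derivation `δ`
  have h1 : δ 1 = 0 := by
    have := hmul 1 1
    rw [mul_one, map_one, one_smul] at this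
    exact (add_eq_left.mp this.symm)
  let δ' : Derivation Λ A N :=
    { toLinearMap :=
        { toFun := δ
          map_add' := hadd
          map_smul' := fun c a => by
            rw [Algebra.smul_def, hmul, hΛ, smul_zero, add_zero, RingHom.id_apply,
              ← IsScalarTower.algebraMap_apply]
            rfl }
      map_one_eq_zero' := h1
      leibniz' := fun c c' => hmul c c' }
  let l : Ω[A⁄Λ] →ₗ[A] N := δ'.liftKaehlerDifferential
  have hl : ∀ c, l (KaehlerDifferential.D Λ A c) = δ c := fun c =>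
    δ'.liftKaehlerDifferential_comp_D c
  let lA : B ⊗[A] Ω[A⁄Λ] →ₗ[B] N := l.liftBaseChange B
  let lK : (B ⧸ J) ⊗[B] (B ⊗[A] Ω[A⁄Λ]) →ₗ[B ⧸ J] N := lA.liftBaseChange (B ⧸ J)
  let uK := (KaehlerDifferential.mapBaseChange Λ A B).baseChange (B ⧸ J)
  let φ' : (B ⧸ J) ⊗[B] Ω[B⁄Λ] →ₗ[B ⧸ J] N := lK ∘ₗ r
  let D : Derivation Λ B N :=
    ((φ'.restrictScalars B) ∘ₗ (TensorProduct.mk B (B ⧸ J) Ω[B⁄Λ] 1)).compDer
      (KaehlerDifferential.D Λ B)
  refine ⟨(D : B →ₗ[Λ] N).toAddMonoidHom, fun b b' => D.leibniz b b',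
    fun c => D.map_algebraMap c, fun c => ?_⟩
  show lK (r ((1 : B ⧸ J) ⊗ₜ[B] KaehlerDifferential.D Λ B (algebraMap A B c))) = δ c
  have e1 : (1 : B ⧸ J) ⊗ₜ[B] KaehlerDifferential.D Λ B (algebraMap A B c) =
      uK (1 ⊗ₜ[B] (1 ⊗ₜ[A] KaehlerDifferential.D Λ A c)) := by
    show _ = (1 : B ⧸ J) ⊗ₜ[B] (KaehlerDifferential.mapBaseChange Λ A B
      (1 ⊗ₜ[A] KaehlerDifferential.D Λ A c))
    rw [KaehlerDifferential.mapBaseChange_tmul, one_smul, KaehlerDifferential.map_D]
  rw [e1]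
  have e2 : r (uK (1 ⊗ₜ[B] (1 ⊗ₜ[A] KaehlerDifferential.D Λ A c))) =
      1 ⊗ₜ[B] (1 ⊗ₜ[A] KaehlerDifferential.D Λ A c) := LinearMap.congr_fun hr _
  rw [e2]
  show (1 : B ⧸ J) • ((1 : B) • l (KaehlerDifferential.D Λ A c)) = δ c
  rw [one_smul, one_smul, hl]

/-- **Tower criterion.** -/
theorem isAdicFormallySmooth_of_tower_of_retraction
    (h₀ : CAlgX.IsAdicFormallySmooth Λ B J)
    (r : (B ⧸ J) ⊗[B] Ω[B⁄Λ] →ₗ[B ⧸ J] (B ⧸ J) ⊗[B] (B ⊗[A] Ω[A⁄Λ]))
    (hr : r ∘ₗ (KaehlerDifferential.mapBaseChange Λ A B).baseChange (B ⧸ J) = LinearMap.id) :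
    CAlgX.IsAdicFormallySmooth A B J := by
  refine Groth.Agent.Lib.Helper96.isAdicFormallySmooth_of_torsion _ ?_
  intro E _ _ N hN ψ hψ htor
  letI : Algebra Λ E := Algebra.compHom E (algebraMap Λ A)
  haveI : IsScalarTower Λ A E := IsScalarTower.of_algebraMap_eq (fun x => rfl)
  let ψ₀ : B →ₐ[Λ] E ⧸ N := ψ.restrictScalars Λ
  obtain ⟨χ₀, hχ₀⟩ := h₀ E N hN ψ₀ hψ
  have hχ₀' : ∀ a, Ideal.Quotient.mk N (χ₀ a) = ψ a := fun a => DFunLike.congr_fun hχ₀ a
  have hsq : ∀ x ∈ N, ∀ y ∈ N, x * y = 0 := by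
    intro x hx y hy
    have : x * y ∈ N ^ 2 := by rw [pow_two]; exact Ideal.mul_mem_mul hx hy
    rwa [hN, Ideal.mem_bot] at this
  letI : Algebra B E := (χ₀ : B →+* E).toAlgebra
  have hsmul : ∀ (a : B) (x : N), ((a • x : N) : E) = χ₀ a * x := fun a x => rfl
  have hNtor : ∀ a ∈ J, ∀ x : N, a • x = 0 := by
    intro a ha x
    apply Subtype.ext
    rw [hsmul]
    exact htor a ha (χ₀ a) (hχ₀' a) x x.2
  have hδmem : ∀ c : A, algebraMap A E c - χ₀ (algebraMap A B c) ∈ N := by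
    intro c
    rw [← Ideal.Quotient.eq, hχ₀', AlgHom.commutes]
    rfl
  let δ : A → N := fun c => ⟨algebraMap A E c - χ₀ (algebraMap A B c), hδmem c⟩
  have hadd : ∀ c c', δ (c + c') = δ c + δ c' := by
    intro c c'
    apply Subtype.ext
    show algebraMap A E (c + c') - χ₀ (algebraMap A B (c + c')) =
      (algebraMap A E c - χ₀ (algebraMap A B c)) + (algebraMap A E c' - χ₀ (algebraMap A B c'))
    rw [map_add, map_add, map_add]
    ring
  have hmul : ∀ c c', δ (c * c') = algebraMap A B c • δ c' + algebraMap A B c' • δ c := by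
    intro c c'
    apply Subtype.ext
    show algebraMap A E (c * c') - χ₀ (algebraMap A B (c * c')) =
      χ₀ (algebraMap A B c) * (algebraMap A E c' - χ₀ (algebraMap A B c')) +
      χ₀ (algebraMap A B c') * (algebraMap A E c - χ₀ (algebraMap A B c))
    have h0 := hsq _ (hδmem c) _ (hδmem c')
    rw [map_mul, map_mul, map_mul]
    linear_combination h0
  have hΛ : ∀ c : Λ, δ (algebraMap Λ A c) = 0 := by
    intro c
    apply Subtype.ext
    show algebraMap A E (algebraMap Λ A c) - χ₀ (algebraMap A B (algebraMap Λ A c)) = 0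
    rw [← IsScalarTower.algebraMap_apply Λ A B, χ₀.commutes, sub_eq_zero]
    rfl
  obtain ⟨D, hDmul, -, hD⟩ := exists_derivation_extension J r hr hNtor δ hadd hmul hΛ
  have hD1 : D 1 = 0 := by
    have := hDmul 1 1
    rw [mul_one, one_smul] at this
    exact (add_eq_left.mp this.symm)
  let χ : B →ₐ[A] E :=
    { toFun := fun a => χ₀ a + (D a : E)
      map_one' := by
        show χ₀ 1 + ((D 1 : N) : E) = 1
        rw [map_one, hD1]
        simp
      map_mul' := by
        intro a b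
        show χ₀ (a * b) + ((D (a * b) : N) : E) = (χ₀ a + (D a : E)) * (χ₀ b + (D b : E))
        rw [hDmul, map_mul]
        have h0 := hsq _ (D a).2 _ (D b).2
        show χ₀ a * χ₀ b + (χ₀ a * (D b : E) + χ₀ b * (D a : E)) = _
        linear_combination -h0
      map_zero' := by
        show χ₀ 0 + ((D 0 : N) : E) = 0
        rw [map_zero, map_zero]
        simp
      map_add' := by
        intro a b
        show χ₀ (a + b) + ((D (a + b) : N) : E) = (χ₀ a + (D a : E)) + (χ₀ b + (D b : E))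
        rw [map_add, map_add]
        push_cast
        ring
      commutes' := by
        intro c
        show χ₀ (algebraMap A B c) + ((D (algebraMap A B c) : N) : E) = algebraMap A E c
        rw [hD c]
        show χ₀ (algebraMap A B c) + (algebraMap A E c - χ₀ (algebraMap A B c)) = _
        ring }
  refine ⟨χ, ?_⟩
  ext a
  show Ideal.Quotient.mk N (χ₀ a + (D a : E)) = ψ a
  rw [map_add, hχ₀', Ideal.Quotient.eq_zero_iff_mem.mpr (D a).2, add_zero]

end Groth.Agent.Lib.Helper13.TowerCrit
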