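import Mathlib
import Groth.Agent.Lib.Helper13.TowerCrit

/-!
# Relative criterion, converse: adic formal smoothness over `A` gives a retraction (helper13)
-/

set_option autoImplicit false

namespace Groth.Agent.Lib.Helper13.TowerCrit

universe u

open TensorProduct KaehlerDifferential TrivSqZeroExt Groth.Agent.Lib.Helper13.FSLift

variable {Λ A B : Type u} [CommRing Λ] [CommRing A] [CommRing B] [Algebra Λ A] [Algebra A B]
  [Algebra Λ B] [IsScalarTower Λ A B] (J : Ideal B)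

theorem one_tmul_one_tmul_smul (c : A) (x : Ω[A⁄Λ]) :
    (1 : B ⧸ J) ⊗ₜ[B] ((1 : B) ⊗ₜ[A] (c • x)) =
      (algebraMap A (B ⧸ J) c) • ((1 : B ⧸ J) ⊗ₜ[B] ((1 : B) ⊗ₜ[A] x)) := by
  rw [TensorProduct.tmul_smul, ← algebraMap_smul B c ((1 : B) ⊗ₜ[A] x),
    TensorProduct.tmul_smul, TensorProduct.smul_tmul', TensorProduct.smul_tmul',
    Algebra.smul_def, mul_one, smul_eq_mul, mul_one, ← IsScalarTower.algebraMap_apply]

theorem exists_retraction (hfs : CAlgX.IsAdicFormallySmooth A B J) :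
    ∃ r : (B ⧸ J) ⊗[B] Ω[B⁄Λ] →ₗ[B ⧸ J] (B ⧸ J) ⊗[B] (B ⊗[A] Ω[A⁄Λ]),
      r ∘ₗ (KaehlerDifferential.mapBaseChange Λ A B).baseChange (B ⧸ J) = LinearMap.id := by
  let δ : A →+ (B ⧸ J) ⊗[B] (B ⊗[A] Ω[A⁄Λ]) :=
    { toFun := fun a => (1 : B ⧸ J) ⊗ₜ[B] ((1 : B) ⊗ₜ[A] KaehlerDifferential.D Λ A a)
      map_zero' := by simp
      map_add' := fun a b => by rw [map_add, tmul_add, tmul_add] }
  have hδ : ∀ a a', δ (a * a') =
      algebraMap A (B ⧸ J) a • δ a' + algebraMap A (B ⧸ J) a' • δ a := by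
    intro a a'
    show (1 : B ⧸ J) ⊗ₜ[B] ((1 : B) ⊗ₜ[A] KaehlerDifferential.D Λ A (a * a')) = _
    rw [Derivation.leibniz, tmul_add, tmul_add, one_tmul_one_tmul_smul, one_tmul_one_tmul_smul]
    rfl
  let θ : A →+* TrivSqZeroExt (B ⧸ J) ((B ⧸ J) ⊗[B] (B ⊗[A] Ω[A⁄Λ])) :=
    tszeHom (algebraMap A (B ⧸ J)) δ hδ
  obtain ⟨χ, hχ1, hχ2⟩ := exists_lift hfs
    (fstHom (B ⧸ J) (B ⧸ J) ((B ⧸ J) ⊗[B] (B ⊗[A] Ω[A⁄Λ]))).toRingHom
    (fun r => ⟨inl r, fst_inl ((B ⧸ J) ⊗[B] (B ⊗[A] Ω[A⁄Λ])) r⟩) ker_fstHom_sq θ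
    (Ideal.Quotient.mk J)
    (fun x => by
      show Ideal.Quotient.mk J (algebraMap A B x) = (θ x).fst
      rw [fst_tszeHom]
      rfl)
    ⟨1, fun a ha => by
      rw [pow_one] at ha
      exact Ideal.Quotient.eq_zero_iff_mem.mpr ha⟩
  have hfst : ∀ b, (χ b).fst = Ideal.Quotient.mk J b := hχ1
  have hleib : ∀ b b', sndAddHom χ (b * b') = b • sndAddHom χ b' + b' • sndAddHom χ b := by
    intro b b'
    rw [sndAddHom_mul, hfst, hfst]
    rfl
  have hχΛ : ∀ c : Λ, sndAddHom χ (algebraMap Λ B c) = 0 := by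
    intro c
    show (χ (algebraMap Λ B c)).snd = 0
    rw [IsScalarTower.algebraMap_apply Λ A B, hχ2, snd_tszeHom]
    show (1 : B ⧸ J) ⊗ₜ[B] ((1 : B) ⊗ₜ[A] KaehlerDifferential.D Λ A (algebraMap Λ A c)) = 0
    rw [Derivation.map_algebraMap, tmul_zero, tmul_zero]
  let Dlin : B →ₗ[Λ] (B ⧸ J) ⊗[B] (B ⊗[A] Ω[A⁄Λ]) :=
    { toFun := sndAddHom χ
      map_add' := map_add _
      map_smul' := fun c b => by
        rw [Algebra.smul_def, hleib, hχΛ, smul_zero, add_zero, algebraMap_smul]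
        rfl }
  let D' : Derivation Λ B ((B ⧸ J) ⊗[B] (B ⊗[A] Ω[A⁄Λ])) := Derivation.mk' Dlin hleib
  have hD' : ∀ a : A, D' (algebraMap A B a) = δ a := by
    intro a
    show (χ (algebraMap A B a)).snd = δ a
    rw [hχ2, snd_tszeHom]
  refine ⟨LinearMap.liftBaseChange (B ⧸ J) D'.liftKaehlerDifferential, ?_⟩
  refine hom_ext_baseChange_kaehler J _ _ (fun a => ?_)
  rw [LinearMap.comp_apply, LinearMap.baseChange_tmul, KaehlerDifferential.mapBaseChange_tmul,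
    one_smul, KaehlerDifferential.map_D, LinearMap.liftBaseChange_tmul, one_smul,
    Derivation.liftKaehlerDifferential_comp_D, hD', LinearMap.id_apply]
  rfl

end Groth.Agent.Lib.Helper13.TowerCrit
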