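import Mathlib
import Groth.Agent.Lib.Helper13.SymGrC3
import Groth.Agent.Lib.Helper13.SymGrE2
import Groth.Agent.Lib.Helper13.TowerCrit2
import Groth.Agent.Lib.Helper96.SmoothRegular2

/-!
# EGA 0_IV 20.7.x / S4570: relative criterion with symmetric/graded conditions (helper13)
-/

set_option autoImplicit false

namespace Groth.Agent.Lib.Helper13.SymGrF

universe u

open TensorProduct KaehlerDifferential

variable {Λ A B : Type u} [CommRing Λ] [CommRing A] [CommRing B] [Algebra Λ A] [Algebra A B]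
  [Algebra Λ B] [IsScalarTower Λ A B] (J : Ideal B)

theorem exact_baseChange :
    Function.Exact ((KaehlerDifferential.mapBaseChange Λ A B).baseChange (B ⧸ J))
      ((KaehlerDifferential.map Λ A B B).baseChange (B ⧸ J)) := by
  have := lTensor_exact (B ⧸ J) (KaehlerDifferential.exact_mapBaseChange_map Λ A B)
    (KaehlerDifferential.map_surjective Λ A B)
  rw [← LinearMap.baseChange_eq_ltensor, ← LinearMap.baseChange_eq_ltensor] at this
  exact this

theorem surjective_baseChange :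
    Function.Surjective ((KaehlerDifferential.map Λ A B B).baseChange (B ⧸ J)) := by
  have := LinearMap.lTensor_surjective (B ⧸ J) (KaehlerDifferential.map_surjective Λ A B)
  rw [← LinearMap.baseChange_eq_ltensor] at this
  exact this

/-- (γ') + (δ) give a retraction -/
theorem exists_retraction_of_injective
    (hγ : Function.Injective ((KaehlerDifferential.mapBaseChange Λ A B).lTensor (B ⧸ J)))
    (hδ : Module.Projective (B ⧸ J) ((B ⧸ J) ⊗[B] (Ω[B⁄A]))) :
    ∃ r : (B ⧸ J) ⊗[B] Ω[B⁄Λ] →ₗ[B ⧸ J] (B ⧸ J) ⊗[B] (B ⊗[A] Ω[A⁄Λ]),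
      r ∘ₗ (KaehlerDifferential.mapBaseChange Λ A B).baseChange (B ⧸ J) = LinearMap.id := by
  have hinj : Function.Injective ((KaehlerDifferential.mapBaseChange Λ A B).baseChange (B ⧸ J)) := by
    rw [LinearMap.baseChange_eq_ltensor]
    exact hγ
  obtain ⟨l, hl⟩ := Module.projective_lifting_property
    ((KaehlerDifferential.map Λ A B B).baseChange (B ⧸ J)) LinearMap.id (surjective_baseChange J)
  exact (((exact_baseChange (Λ := Λ) (A := A) J).split_tfae'.out 0 1 rfl rfl).mp ⟨hinj, l, hl⟩).2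

/-- a retraction gives (γ') and, if the middle term is projective, (δ) -/
theorem injective_and_projective_of_retraction
    (r : (B ⧸ J) ⊗[B] Ω[B⁄Λ] →ₗ[B ⧸ J] (B ⧸ J) ⊗[B] (B ⊗[A] Ω[A⁄Λ]))
    (hr : r ∘ₗ (KaehlerDifferential.mapBaseChange Λ A B).baseChange (B ⧸ J) = LinearMap.id)
    (hproj : Module.Projective (B ⧸ J) ((B ⧸ J) ⊗[B] Ω[B⁄Λ])) :
    Function.Injective ((KaehlerDifferential.mapBaseChange Λ A B).lTensor (B ⧸ J)) ∧
      Module.Projective (B ⧸ J) ((B ⧸ J) ⊗[B] (Ω[B⁄A])) := by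
  obtain ⟨hinj, l, hl⟩ := ((exact_baseChange (Λ := Λ) (A := A) J).split_tfae'.out 1 0 rfl rfl).mp
    ⟨surjective_baseChange J, r, hr⟩
  refine ⟨?_, Module.Projective.of_split l _ hl⟩
  rw [← LinearMap.baseChange_eq_ltensor]
  exact hinj

variable [Algebra.FormallySmooth Λ (B ⧸ J)]

/-- **S4570.** -/
theorem main :
    ((Module.Projective (B ⧸ J) J.Cotangent ∧ PP16.SymGrBijective B J ∧
        Function.Injective ((mapBaseChange Λ A B).lTensor (B ⧸ J)) ∧
        Module.Projective (B ⧸ J) ((B ⧸ J) ⊗[B] (Ω[B⁄A]))) →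
      CAlgX.IsAdicFormallySmooth A B J) ∧
    (Algebra.FormallySmooth Λ A → CAlgX.IsAdicFormallySmooth A B J →
      (Module.Projective (B ⧸ J) J.Cotangent ∧ PP16.SymGrBijective B J ∧
        Function.Injective ((mapBaseChange Λ A B).lTensor (B ⧸ J)) ∧
        Module.Projective (B ⧸ J) ((B ⧸ J) ⊗[B] (Ω[B⁄A])))) := by
  constructor
  · rintro ⟨hα, hβ, hγ, hδ⟩
    have h₀ : CAlgX.IsAdicFormallySmooth Λ B J :=
      SymGrE.isAdicFormallySmooth_of_symGr J hα hβ
    obtain ⟨r, hr⟩ := exists_retraction_of_injective (Λ := Λ) J hγ hδ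
    exact TowerCrit.isAdicFormallySmooth_of_tower_of_retraction J h₀ r hr
  · intro hA hfs
    haveI := hA
    have h₀ : CAlgX.IsAdicFormallySmooth Λ B J :=
      Groth.Agent.Lib.Helper96.isAdicFormallySmooth_of_tower Λ A B J hfs
    obtain ⟨hα, hβ⟩ := SymGrC.projective_and_symGrBijective J h₀
    obtain ⟨r, hr⟩ := TowerCrit.exists_retraction (Λ := Λ) J hfs
    obtain ⟨hγ, hδ⟩ := injective_and_projective_of_retraction J r hr
      (SymGrC.projective_tensor_kaehler J h₀)
    exact ⟨hα, hβ, hγ, hδ⟩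

end Groth.Agent.Lib.Helper13.SymGrF
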